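import Cfsg.Agent.TensorWreathOrth.Gap.Three.Left

/-!
# Three elements: the centraliser of a right sign element lies in `Kr`

Two groups of left elements act freely on the cosets of `Kr` outside the base coset, so the index is `1` modulo
`9` and modulo `8`; it divides the order of an orthogonal group in dimension eight, so it is `1`.
-/

set_option autoImplicit false
set_option linter.unusedSectionVars false

namespace CfsgLib.TWGap

open Matrix Module CfsgLib.Spinor CfsgLib.OrthMax CfsgLib.TensorOrth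
open CfsgLib.TensorMax (Idx ten)

/-- Orbit counting for a group fixing one coset and acting freely on the others. -/
theorem card_dvd_index_sub_one {G : Type*} [Group G] [Finite G] (H : Subgroup G) {P : Type*} [Fintype P]
    (el : P → G) (hinj : Function.Injective el) (hone : ∃ p, el p = 1) (hmul : ∀ p q, ∃ r, el p * el q = el r)
    (hH : ∀ p, el p ∈ H) (hfix : ∀ p, el p ≠ 1 → ∀ g, g⁻¹ * el p * g ∈ H → g ∈ H) :
    Fintype.card P ∣ H.index - 1 := by
  classical
  have hpow : ∀ p (n : ℕ), ∃ r, el r = el p ^ n := fun p n => by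
    induction n with
    | zero => exact ⟨hone.choose, by rw [hone.choose_spec, pow_zero]⟩
    | succ n ih =>
      obtain ⟨r, hr⟩ := ih
      obtain ⟨s, hs⟩ := hmul r p
      exact ⟨s, by rw [← hs, hr, pow_succ]⟩
  let U : Subgroup G :=
    { carrier := Set.range el
      mul_mem' := by
        rintro _ _ ⟨p, rfl⟩ ⟨q, rfl⟩
        obtain ⟨r, hr⟩ := hmul p q
        exact ⟨r, hr.symm⟩
      one_mem' := hone
      inv_mem' := by
        rintro _ ⟨p, rfl⟩
        rw [inv_eq_of_mul_eq_one_right (b := el p ^ (orderOf (el p) - 1))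
          (by rw [← pow_succ', Nat.sub_add_cancel (orderOf_pos _), pow_orderOf_eq_one])]
        exact hpow p _ }
  have hU : Nat.card U = Fintype.card P := by
    rw [← Nat.card_eq_fintype_card]
    exact Nat.card_range_of_injective hinj
  letI : Fintype G := Fintype.ofFinite G
  letI : Fintype (G ⧸ H) := Fintype.ofFinite _
  letI : Fintype (MulAction.orbitRel.Quotient U (G ⧸ H)) := Fintype.ofFinite _
  have hb := MulAction.sum_card_fixedBy_eq_card_orbits_mul_card_group U (G ⧸ H)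
  have h1 : Fintype.card (MulAction.fixedBy (G ⧸ H) (1 : U)) = Fintype.card (G ⧸ H) :=
    Fintype.card_congr (Equiv.subtypeUnivEquiv fun a => by simp)
  have hu1 : ∀ u : U, u ≠ 1 → Fintype.card (MulAction.fixedBy (G ⧸ H) u) = 1 := by
    rintro ⟨_, p, rfl⟩ hu
    rw [Fintype.card_eq_one_iff]
    refine ⟨⟨((1 : G) : G ⧸ H), ?_⟩, fun ⟨a, ha⟩ => ?_⟩
    · show ((el p * 1 : G) : G ⧸ H) = _
      rw [mul_one, QuotientGroup.eq, mul_one]
      exact H.inv_mem (hH p)
    · obtain ⟨g, rfl⟩ := QuotientGroup.mk_surjective a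
      have h : ((el p * g : G) : G ⧸ H) = g := ha
      rw [eq_comm, QuotientGroup.eq, ← mul_assoc] at h
      refine Subtype.ext ?_
      show ((g : G) : G ⧸ H) = _
      rw [QuotientGroup.eq, mul_one]
      exact H.inv_mem (hfix p (fun h0 => hu (Subtype.ext h0)) g h)
  rw [← Finset.add_sum_erase _ _ (Finset.mem_univ (1 : U)), h1,
    Finset.sum_congr rfl (fun u hu => hu1 u (Finset.ne_of_mem_erase hu)), Finset.sum_const, smul_eq_mul, mul_one,
    Finset.card_erase_of_mem (Finset.mem_univ _), Finset.card_univ, ← Nat.card_eq_fintype_card (α := U), hU,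
    ← Nat.card_eq_fintype_card (α := G ⧸ H), ← Subgroup.index_eq_card] at hb
  set O := Fintype.card (MulAction.orbitRel.Quotient U (G ⧸ H))
  have hP : 0 < Fintype.card P := hU ▸ Nat.card_pos
  refine ⟨O - 1, ?_⟩
  rw [Nat.mul_sub, mul_one, mul_comm]
  omega

namespace Fl

variable {F : Type*} [Field F] [Fintype F] {k : ℕ} {Q : QuadraticForm F (Idx k k → F)}
  {B₁ B₂ : LinearMap.BilinForm F (Fin k → F)} {J : Isom Q} (hF : Fl Q B₁ B₂ J)
include hF

theorem rt_congr {c z z' : Fin k → F} (e : z = z') (hc : B₂ c c = 0) (hz : B₂ z c = 0) (hz' : B₂ z' c = 0) :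
    hF.rt hc hz = hF.rt hc hz' := by
  subst e; rfl

theorem rt_mul {c z z' : Fin k → F} (hc : B₂ c c = 0) (hz : B₂ z c = 0) (hz' : B₂ z' c = 0) :
    hF.rt hc hz * hF.rt hc hz' = hF.rt hc (z := z' + z) (by simp [hz, hz']) := by
  refine hF.ext fun x y => ?_
  rw [mul_vec, hF.rt_ten, hF.rt_ten, hF.rt_ten, hF.aset.tset.f₂.esie_comp hc hz' hz]
  congr 2
  have := hF.aset.two
  simp only [map_add, LinearMap.add_apply, hF.aset.symm₂ z z']
  field_simp
  ring

theorem rt_zero {c : Fin k → F} (hc : B₂ c c = 0) : hF.rt hc (z := 0) (by simp) = 1 := by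
  refine hF.ext fun x y => ?_
  rw [hF.rt_ten, esie_apply, mat_one, one_mulVec]
  simp

theorem rt_ne_one {c z : Fin k → F} (hc0 : c ≠ 0) (hc : B₂ c c = 0) (hz : B₂ z c = 0) (hzz : B₂ z z ≠ 0) :
    hF.rt hc hz ≠ 1 := fun h => by
  have h1 := congrArg (fun g => mat Q g *ᵥ ten z z) h
  simp only [hF.rt_ten, mat_one, one_mulVec, esie_apply, hz] at h1
  have hz0 : z ≠ 0 := fun h0 => hzz (by simp [h0])
  have h2 := TensorMax.ten_inj_right hz0 h1
  simp at h2
  rcases h2 with h2 | h2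
  · exact hzz h2
  · exact hc0 h2

end Fl

namespace Three

/-- Powers of an array. -/
def powA (A : Fin 4 → Fin 4 → C) : ℕ → Fin 4 → Fin 4 → C
  | 0 => oneA
  | n + 1 => mulA A (powA A n)

/-- The arrays of the left dihedral group. -/
def dihA (p : Fin 4 × Fin 2) : Fin 4 → Fin 4 → C := mulA (powA rhoA p.1.val) (powA xA p.2.val)

/-- A left involution of trace zero. -/
def GoodA (W : Fin 4 → Fin 4 → C) : Prop :=
  mulA W W = oneA ∧ (∀ i j, bf (W i) (W j) = bf (e1 i) (e1 j)) ∧ ∑ i, W i i = 0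

theorem dihA_cases : ∀ p, dihA p = oneA ∨ GoodA (dihA p) ∨ GoodA (mulA (dihA p) (dihA p)) := by
  unfold GoodA; decide +kernel

theorem dihA_mul : ∀ p q, ∃ r, mulA (dihA p) (dihA q) = dihA r := by decide +kernel

theorem dihA_one : dihA (0, 0) = oneA := by decide +kernel

theorem dihA_inj : ∀ p q, dihA p = dihA q → p = q := by decide +kernel

theorem root_aniso : ∀ a b : C, (a, b) ≠ (0, 0) → bf ![a, b, 0, 0] ![a, b, 0, 0] ≠ 0 := by decide

theorem root_perp : ∀ a b : C, bf ![a, b, 0, 0] ![0, 0, 1, 1] = 0 := by decide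

/-- The positions of the slices spanned by the last two frame vectors. -/
def slicePos (a : Fin 4 × Fin 2) : Pos := (a.1, (![2, 3] : Fin 2 → Fin 4) a.2)

theorem slicePos_inj : Function.Injective slicePos := by
  unfold Function.Injective; decide +kernel

theorem slicePos_disc : ∏ a, eps (slicePos a).1 * eps (slicePos a).2 = 1 := by decide +kernel

theorem slicePos_range : ∀ (a : Fin 4 × Fin 2) (b : Pos),
    (![-1, -1, 1, 1] : Fin 4 → C) b.2 = (![-1, -1, 1, 1] : Fin 4 → C) (slicePos a).2 → ∃ i, slicePos i = b := by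
  decide +kernel

theorem kron_one_inj {A A' : Fin 4 → Fin 4 → C} (h : kron A oneA = kron A' oneA) : A = A' :=
  funext fun i => funext fun j => by simpa [kron, oneA, e1] using congrFun (congrFun h (i, 0)) (j, 0)

end Three

variable {F : Type*} [Field F] [Fintype F] {k : ℕ} {Q : QuadraticForm F (Idx k k → F)}
  {B₁ B₂ : LinearMap.BilinForm F (Fin k → F)} {J : Isom Q} {M : Subgroup (Isom Q)}

namespace Frame

open Three

variable [CharP F 3] {hF : Fl Q B₁ B₂ J} (Φ : Frame hF)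

theorem act_pow {g : Isom Q} {A : Fin 4 → Fin 4 → C} (h : Φ.Act g (kron A oneA)) (n : ℕ) :
    Φ.Act (g ^ n) (kron (powA A n) oneA) := by
  induction n with
  | zero => rw [pow_zero]; exact Φ.act_one
  | succ n ih =>
    rw [pow_succ']
    exact (Act.mul Φ h ih).congr Φ (by rw [(mulA_one oneA).1]; rfl)

/-- The left dihedral group. -/
noncomputable def dih (p : Fin 4 × Fin 2) : Isom Q := Φ.rhoL ^ p.1.val * Φ.zL ^ p.2.val

theorem act_dih (p : Fin 4 × Fin 2) : Φ.Act (Φ.dih p) (kron (dihA p) oneA) :=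
  (Act.mul Φ (Φ.act_pow Φ.act_rhoL _) (Φ.act_pow Φ.act_zL _)).congr Φ (by rw [(mulA_one oneA).1]; rfl)

theorem comm_aR_left {g : Isom Q} {A : Fin 4 → Fin 4 → C} (h : Φ.Act g (kron A oneA)) : g * Φ.aR = Φ.aR * g :=
  Φ.act_ext (Act.mul Φ h Φ.act_aR) ((Act.mul Φ Φ.act_aR h).congr Φ (by
    rw [(mulA_one A).1, (mulA_one A).2, (mulA_one _).1, (mulA_one _).2]))

variable (hG : GCtx hF M)
include hG

theorem dih_mem (p : Fin 4 × Fin 2) : Φ.dih p ∈ M ∧ Φ.dih p ∈ Kr Q :=
  ⟨M.mul_mem (pow_mem (Φ.LL_mem (by decide) (by decide) hG) _) (pow_mem (Φ.LL_mem (by decide) (by decide) hG) _),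
    (Kr Q).mul_mem (pow_mem (Φ.LL_kr _ _) _) (pow_mem (Φ.LL_kr _ _) _)⟩

/-- Conjugates of left involutions of trace zero inside `Kr`. -/
theorem kr_of_conj_invol {d w : Isom Q} {W : Fin 4 → Fin 4 → C} (hd : d ∈ M) (ha : d * Φ.aR = Φ.aR * d)
    (hw : Φ.Act w (kron W oneA)) (hW : GoodA W) (hh : d * w * d⁻¹ ∈ Kr Q) : d ∈ Kr Q := by
  obtain ⟨n, S, S', ⟨hnM, hnK, hnS, hnS', -, -, -⟩, hform⟩ := Φ.exists_normal hG hW.1 hW.2.1 hW.2.2
  have hnw : Φ.Act (n * w * n⁻¹) (kron (mulA (mulA S W) S') oneA) :=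
    (Act.mul Φ (Act.mul Φ hnS hw) hnS').congr Φ (by rw [(mulA_one oneA).1, (mulA_one oneA).1])
  obtain ⟨z, hzK, hzc, hz⟩ : ∃ z, z ∈ Kr Q ∧ (∀ g, g * z = z * g) ∧ n * w * n⁻¹ * z = Φ.bL := by
    rcases hform with hf | hf <;> rw [hf] at hnw
    · exact ⟨1, (Kr Q).one_mem, fun g => by rw [mul_one, one_mul],
        (mul_one _).trans (Φ.act_ext hnw Φ.act_bL)⟩
    · exact ⟨Φ.negO, (Φ.negO_mem hG).2, Φ.negO_comm,
        Φ.act_ext ((Act.mul Φ hnw Φ.act_negO).congr Φ (by decide +kernel)) Φ.act_bL⟩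
  have hn : n⁻¹ * Φ.aR = Φ.aR * n⁻¹ := Φ.comm_aR_left hnS'
  set d' := d * n⁻¹ with hd'
  have hd'a : d' * Φ.aR = Φ.aR * d' := by rw [hd', mul_assoc, hn, ← mul_assoc, ha, mul_assoc]
  have hd'K : d' ∈ Kr Q := by
    refine Φ.kr_of_conj_bL hG (M.mul_mem hd (M.inv_mem hnM)) hd'a ?_
    rw [← hz, show d' * (n * w * n⁻¹ * z) * d'⁻¹ = d * w * d⁻¹ * (d' * z * d'⁻¹) by rw [hd']; group, hzc d',
      mul_inv_cancel_right]
    exact (Kr Q).mul_mem hh hzK
  have := (Kr Q).mul_mem hd'K hnK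
  rwa [hd', inv_mul_cancel_right] at this

/-- **The centraliser of a right sign element lies in `Kr`.** -/
theorem centralizer_le : M ⊓ Subgroup.centralizer {Φ.aR} ≤ Kr Q := by
  classical
  set X : Subgroup (Isom Q) := M ⊓ Subgroup.centralizer {Φ.aR} with hX
  have hmemX : ∀ {g : Isom Q}, g ∈ X → g ∈ M ∧ g * Φ.aR = Φ.aR * g := fun {g} hg =>
    ⟨hg.1, (Subgroup.mem_centralizer_iff.1 hg.2 Φ.aR rfl).symm⟩
  have mkX : ∀ {g : Isom Q}, g ∈ M → g * Φ.aR = Φ.aR * g → g ∈ X := fun {g} h1 h2 =>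
    ⟨h1, Subgroup.mem_centralizer_iff.2 fun a ha => by rw [Set.mem_singleton_iff.1 ha]; exact h2.symm⟩
  have : Finite X := Subtype.finite
  set H := (Kr Q).subgroupOf X
  -- the dihedral group
  have h8 : 8 ∣ H.index - 1 := by
    refine card_dvd_index_sub_one H (P := Fin 4 × Fin 2)
      (fun p => ⟨Φ.dih p, mkX (Φ.dih_mem hG p).1 (Φ.comm_aR_left (Φ.act_dih p))⟩) (fun p q h => ?_) ⟨(0, 0), ?_⟩
      (fun p q => ?_) (fun p => (Φ.dih_mem hG p).2) fun p hp g hg => ?_
    · exact dihA_inj p q (kron_one_inj (Act.unique Φ (Φ.act_dih p)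
        (show Φ.Act (Φ.dih p) _ by rw [show Φ.dih p = Φ.dih q from congrArg Subtype.val h]; exact Φ.act_dih q)))
    · exact Subtype.ext (Φ.act_ext ((Φ.act_dih _).congr Φ (by rw [dihA_one])) Φ.act_one)
    · obtain ⟨r, hr⟩ := dihA_mul p q
      exact ⟨r, Subtype.ext (Φ.act_ext ((Act.mul Φ (Φ.act_dih p) (Φ.act_dih q)).congr Φ
        (by rw [hr, (mulA_one oneA).1])) (Φ.act_dih r))⟩
    · obtain ⟨hgM, hga⟩ := hmemX (X.inv_mem g.2)
      have hg' : (g : Isom Q)⁻¹ * Φ.dih p * (g : Isom Q)⁻¹⁻¹ ∈ Kr Q := by rw [inv_inv]; exact hg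
      refine show (g : Isom Q) ∈ Kr Q from inv_mem_iff.1 ?_
      rcases dihA_cases p with h | h | h
      · exact absurd (Subtype.ext (Φ.act_ext ((Φ.act_dih p).congr Φ (by rw [h])) Φ.act_one)) hp
      · exact Φ.kr_of_conj_invol hG hgM hga (Φ.act_dih p) h hg'
      · refine Φ.kr_of_conj_invol hG hgM hga ((Act.mul Φ (Φ.act_dih p) (Φ.act_dih p)).congr Φ
          (by rw [(mulA_one oneA).1])) h ?_
        have := (Kr Q).mul_mem hg' hg'
        rwa [show (g : Isom Q)⁻¹ * Φ.dih p * (g : Isom Q)⁻¹⁻¹ * ((g : Isom Q)⁻¹ * Φ.dih p * (g : Isom Q)⁻¹⁻¹) =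
          (g : Isom Q)⁻¹ * (Φ.dih p * Φ.dih p) * (g : Isom Q)⁻¹⁻¹ by group] at this
  -- the root group
  have h9 : 9 ∣ H.index - 1 := by
    have hc : B₂ (Φ.v1 ![0, 0, 1, 1]) (Φ.v1 ![0, 0, 1, 1]) = 0 := by
      rw [Φ.form_v1, show bf ![0, 0, 1, 1] ![0, 0, 1, 1] = 0 by decide, map_zero, mul_zero]
    have hc0 : Φ.v1 ![0, 0, 1, 1] ≠ 0 := fun h => by
      have := Φ.v1_inj (h.trans (show (0 : Fin k → F) = Φ.v1 0 by simp [v1]))
      exact absurd this (by decide)
    have hz : ∀ p : C × C, B₂ (Φ.v1 ![p.1, p.2, 0, 0]) (Φ.v1 ![0, 0, 1, 1]) = 0 := fun p => by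
      rw [Φ.form_v1, root_perp, map_zero, mul_zero]
    have hzz : ∀ p : C × C, p ≠ 0 → B₂ (Φ.v1 ![p.1, p.2, 0, 0]) (Φ.v1 ![p.1, p.2, 0, 0]) ≠ 0 := fun p hp =>
      Φ.v1_aniso (root_aniso p.1 p.2 hp)
    set u : C × C → Isom Q := fun p => J * hF.rt hc (hz p) * J with hu
    have hu0 : u 0 = 1 := by
      rw [hu]
      show J * hF.rt hc (hz 0) * J = 1
      rw [hF.rt_congr (z' := 0) (by simp [v1, Fin.sum_univ_four]) hc (hz 0) (by simp), hF.rt_zero hc, mul_one,
        hF.J_sq]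
    have humul : ∀ p q, u p * u q = u (q + p) := fun p q => by
      simp only [hu]
      have e : Φ.v1 ![q.1, q.2, 0, 0] + Φ.v1 ![p.1, p.2, 0, 0] = Φ.v1 ![(q + p).1, (q + p).2, 0, 0] := by
        rw [← Φ.v1_add]; congr 1; funext i; fin_cases i <;> simp
      rw [hF.conj_mul, hF.rt_mul hc, hF.rt_congr e hc _ (hz (q + p))]
    have huA : ∀ p, u p * Φ.aR = Φ.aR * u p := fun p => by
      simp only [hu]
      rw [Fl.rt, ← hF.kL_eq, aR, RR, CfsgLib.TensorSlice.ASet.R, CfsgLib.TensorSlice.ASet.R, ← map_mul]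
      exact hF.LR_comm _ _
    have huK : ∀ p, u p ∈ Kr Q := fun p => hF.flip_conj_mem (hF.rt_kr hc (hz p))
    have hone : ∀ p, u p = 1 → p = 0 := fun p h => by
      by_contra hp
      refine hF.rt_ne_one hc0 hc (hz p) (hzz p hp) ?_
      rw [← hF.conj_conj (hF.rt hc (hz p))]
      show J * u p * J = 1
      rw [h, mul_one, hF.J_sq]
    have h := card_dvd_index_sub_one H (fun p => ⟨u p, mkX (hG.rtL_mem hc (hz p)) (huA p)⟩)
      (fun p q h => ?_) ⟨0, Subtype.ext hu0⟩ (fun p q => ⟨q + p, Subtype.ext (humul p q)⟩) huK fun p hp g hg => ?_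
    · simpa [Fintype.card_prod, ZMod.card] using h
    · have h' : u p * u (-q) = 1 := by
        rw [show u p = u q from congrArg Subtype.val h, humul, neg_add_cancel, hu0]
      rw [humul] at h'
      exact (eq_of_neg_add_eq_zero (hone _ h')).symm
    · obtain ⟨hgM, hga⟩ := hmemX (X.inv_mem g.2)
      have hp0 : p ≠ 0 := fun h => hp (Subtype.ext (by rw [h]; exact hu0))
      have hg' : (g : Isom Q)⁻¹ * u p * (g : Isom Q)⁻¹⁻¹ ∈ Kr Q := by rw [inv_inv]; exact hg
      refine show (g : Isom Q) ∈ Kr Q from inv_mem_iff.1 (Φ.kr_of_nr hG ?_ hga)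
      refine hF.conj_nr.1 (hG.flip.mem_nr_of_fuse (hG.flip_mem hgM) hc0 hc (hz p) (hzz p hp0) ?_)
      rw [← hF.conj_kr, show J * (J * (g : Isom Q)⁻¹ * J * hF.rt hc (hz p) * (J * (g : Isom Q)⁻¹ * J)⁻¹) * J =
        (g : Isom Q)⁻¹ * u p * (g : Isom Q)⁻¹⁻¹ by
        rw [_root_.mul_inv_rev, _root_.mul_inv_rev, hF.J_inv, hu]
        rw [show J * (J * (g : Isom Q)⁻¹ * J * hF.rt hc (hz p) * (J * ((g : Isom Q)⁻¹⁻¹ * J))) * J =
          J * J * (g : Isom Q)⁻¹ * (J * hF.rt hc (hz p) * J) * (g : Isom Q)⁻¹⁻¹ * (J * J) by group, hF.J_sq,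
          one_mul, mul_one]]
      exact hg'
  -- the order of the group on two slices
  have hdvd : H.index ∣ 2 * 3 ^ (4 * (4 - 1)) * (3 ^ 4 - 1) * ∏ i ∈ Finset.range (4 - 1), (3 ^ (2 * (i + 1)) - 1) := by
    obtain ⟨G, _, φ, hcard, hker⟩ := Φ.exists_restrict (Subgroup.centralizer {Φ.aR}) slicePos slicePos_inj
      (m := 4) (by norm_num) ⟨2, rfl⟩ (by simp) slicePos_disc fun g hg i c hc b hb => by
        by_contra h0
        have hga : g * Φ.aR = Φ.aR * g := (Subgroup.mem_centralizer_iff.1 hg Φ.aR rfl).symm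
        have d1 : kron oneA (diagA ![-1, -1, 1, 1]) = kron (diagA ![1, 1, 1, 1]) (diagA ![-1, -1, 1, 1]) := by
          decide +kernel
        have h := Φ.eigen_coord (Φ.act_aR.congr Φ d1) (x := c)
          (ε := (![1, 1, 1, 1] : Fin 4 → C) (slicePos i).1 * (![-1, -1, 1, 1] : Fin 4 → C) (slicePos i).2)
          (by rw [hc, ← Fl.mul_vec, ← hga, Fl.mul_vec, Φ.diag_ten (Φ.act_aR.congr Φ d1), mulVec_smul]) b
        have hone : ∀ i : Fin 4, (![1, 1, 1, 1] : Fin 4 → C) i = 1 := by decide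
        rw [hone, hone, one_mul, one_mul] at h
        obtain ⟨j, hj⟩ := slicePos_range i b (sub_eq_zero.1 ((mul_eq_zero.1 h).resolve_right h0))
        exact hb ⟨j, hj⟩
    rw [← hcard]
    let ψ : X →* G := φ.comp (Subgroup.inclusion inf_le_right)
    have hle : ψ.ker ≤ H := fun g hg => by
      refine hG.mem_kr_of_fix (hmemX g.2).1 (Φ.f_ne 2) fun x => ?_
      obtain ⟨c, rfl⟩ := Φ.exists_v1 x
      rw [v1, ← CfsgLib.TensorOrth.tenB_apply, map_sum, LinearMap.sum_apply, mulVec_sum]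
      refine Finset.sum_congr rfl fun i _ => ?_
      rw [map_smul, LinearMap.smul_apply, CfsgLib.TensorOrth.tenB_apply, mulVec_smul]
      exact congrArg _ (hker _ hg (i, 0))
    refine (Subgroup.index_dvd_of_le hle).trans ?_
    rw [Subgroup.index_ker]
    exact Subgroup.card_subgroup_dvd_card _
  have hI0 : H.index ≠ 0 := Subgroup.index_ne_zero_of_finite
  have hI : H.index = 1 := by
    rw [show 2 * 3 ^ (4 * (4 - 1)) * (3 ^ 4 - 1) * ∏ i ∈ Finset.range (4 - 1), (3 ^ (2 * (i + 1)) - 1) =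
      3 ^ 12 * 2 ^ 15 * 2275 by simp [Finset.prod_range_succ]] at hdvd
    have h3 : Nat.Coprime H.index 3 := ((Nat.Prime.coprime_iff_not_dvd Nat.prime_three).2 (by omega)).symm
    have h2 : Nat.Coprime H.index 2 := ((Nat.Prime.coprime_iff_not_dvd Nat.prime_two).2 (by omega)).symm
    have hd := (Nat.Coprime.mul_right (h3.pow_right 12) (h2.pow_right 15)).dvd_of_dvd_mul_left hdvd
    have hle := Nat.le_of_dvd (by norm_num) hd
    obtain ⟨r, hr⟩ := Nat.Coprime.mul_dvd_of_dvd_of_dvd (show Nat.Coprime 9 8 by norm_num) h9 h8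
    have he : H.index = 72 * r + 1 := by omega
    rw [he] at hd
    have hr31 : r ≤ 31 := by omega
    interval_cases r <;> first | omega | norm_num at hd
  exact Subgroup.subgroupOf_eq_top.1 (Subgroup.index_eq_one.1 hI)

end Frame

namespace GCtx

variable {hF : Fl Q B₁ B₂ J} (hG : GCtx hF M)
include hG

/-- **An element of `M` commuting with an orthogonal pair of reflections, three elements.** -/
theorem mem_nr_of_comm_plane_three (hk : k = 4) (h3 : Fintype.card F = 3) {y : Isom Q} (hy : y ∈ M)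
    {e g : Fin k → F} (he : B₂ e e ≠ 0) (hg : B₂ g g ≠ 0) (heg : B₂ e g = 0)
    (h : y * (hF.aset.R e * hF.aset.R g) = (hF.aset.R e * hF.aset.R g) * y) : y ∈ hF.Nr := by
  haveI : CharP F 3 := by
    obtain ⟨p, hp⟩ := CharP.exists F
    obtain ⟨⟨n, hn⟩, hprime, hn'⟩ := FiniteField.card F p
    rw [h3] at hn'
    have : p ∣ 3 := hn'.symm ▸ dvd_pow_self p (Nat.pos_iff_ne_zero.1 hn)
    rwa [(Nat.prime_dvd_prime_iff_eq hprime Nat.prime_three).1 this] at hp
  obtain ⟨Φ, hΦ⟩ := hG.exists_frame hk h3 he hg heg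
  exact Or.inl (Φ.centralizer_le hG ⟨hy, Subgroup.mem_centralizer_iff.2 fun a ha => by
    rw [Set.mem_singleton_iff.1 ha]; exact (hΦ y h).symm⟩)

end GCtx

end CfsgLib.TWGap
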