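import Mathlib.Data.ZMod.Basic
import Mathlib.Algebra.BigOperators.Fin
import Mathlib.Data.Fintype.Prod

/-!
# Arrays over `ZMod 3` for two orthogonal frames `(1, 1, 1, -1)`

Vectors of the factor are `Fin 4 → ZMod 3`, vectors of the tensor square `Pos → ZMod 3`; a map of a factor is
given by the arrays of the images of the frame.
-/

set_option autoImplicit false

namespace CfsgLib.TWGap.Three

/-- The coefficients. -/
abbrev C : Type := ZMod 3

/-- The positions in the square of a frame. -/
abbrev Pos : Type := Fin 4 × Fin 4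

/-- The values of the frame. -/
def eps : Fin 4 → C := ![1, 1, 1, -1]

/-- The form on a factor. -/
def bf (x y : Fin 4 → C) : C := ∑ i, eps i * x i * y i

/-- The form on the square. -/
def bf₂ (x y : Pos → C) : C := ∑ a, eps a.1 * eps a.2 * x a * y a

/-- A frame vector. -/
def e1 (i : Fin 4) : Fin 4 → C := fun j => if j = i then 1 else 0

/-- A frame vector of the square. -/
def e2 (a : Pos) : Pos → C := fun b => if b = a then 1 else 0

/-- A reflection of a factor, applied. -/
def rf (w x : Fin 4 → C) : Fin 4 → C := fun i => x i - 2 * bf x w * bf w w * w i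

/-- A reflection of the square, applied. -/
def rf₂ (w x : Pos → C) : Pos → C := fun a => x a - 2 * bf₂ w x * bf₂ w w * w a

/-- The array of a reflection. -/
def rfA (w : Fin 4 → C) : Fin 4 → Fin 4 → C := fun i => rf w (e1 i)

/-- The array of a product. -/
def mulA (A B : Fin 4 → Fin 4 → C) : Fin 4 → Fin 4 → C := fun i j => ∑ l, B i l * A l j

/-- A map applied to a vector. -/
def appA (A : Fin 4 → Fin 4 → C) (x : Fin 4 → C) : Fin 4 → C := fun j => ∑ l, x l * A l j

/-- The array of the identity. -/
def oneA : Fin 4 → Fin 4 → C := e1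

/-- A negated array. -/
def negA (A : Fin 4 → Fin 4 → C) : Fin 4 → Fin 4 → C := fun i j => - A i j

/-- A product of two arrays on the square. -/
def kron (A B : Fin 4 → Fin 4 → C) : Pos → Pos → C := fun a b => A a.1 b.1 * B a.2 b.2

/-- The rotation of the elliptic plane. -/
def rhoA : Fin 4 → Fin 4 → C := ![![0, 1, 0, 0], ![-1, 0, 0, 0], ![0, 0, 1, 0], ![0, 0, 0, 1]]

/-- The diagonal map of signs. -/
def diagA (s : Fin 4 → C) : Fin 4 → Fin 4 → C := fun i j => if j = i then s i else 0

/-- The similitude exchanging the two kinds of frames. -/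
def turnA : Fin 4 → Fin 4 → C := ![![1, 1, 0, 0], ![1, -1, 0, 0], ![0, 0, 0, 1], ![0, 0, -1, 0]]

theorem square_cases : ∀ a b : C, a * a + b * b = 1 → (a = 0 ∧ b ≠ 0) ∨ (b = 0 ∧ a ≠ 0) := by decide

theorem cases_of_ne : ∀ a : C, a ≠ 0 → a = 1 ∨ a = -1 := by decide

theorem sq_of_ne : ∀ a : C, a ≠ 0 → a * a = 1 := by decide

end CfsgLib.TWGap.Three
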