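import Cfsg.Agent.TensorWreathOrth.Gap.Three.Frame
import Cfsg.Agent.Forms.PlusType
import Cfsg.Agent.Forms4.OrthogonalOrders
import Cfsg.Agent.FieldEmb.Basic

/-!
# Three elements: restriction to spans of frame tensors and orders of plus type groups
-/

set_option autoImplicit false
set_option linter.unusedSectionVars false

namespace CfsgLib.TWGap

open Matrix Module CfsgLib.Spinor CfsgLib.OrthMax CfsgLib.TensorOrth
open CfsgLib.TensorMax (Idx ten)

universe u

variable {F : Type u} [Field F] [Fintype F]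

/-- The polar Gram matrix of the hyperbolic form. -/
theorem polar_plus_matrix (m : ℕ) :
    LinearMap.BilinForm.toMatrix (Pi.basisFun F ((Fin m ⊕ Fin m) ⊕ Fin 0))
      (QuadraticMap.polarBilin (Forms4.sumForm m (0 : QuadraticForm F (Fin 0 → F)))) =
      fromBlocks (fromBlocks 0 1 1 0) 0 0 (1 : Matrix (Fin 0) (Fin 0) F) := by
  ext i j
  rw [LinearMap.BilinForm.toMatrix_apply, QuadraticMap.polarBilin_apply_apply, Forms4.polar_sumForm,
    Pi.basisFun_apply, Pi.basisFun_apply, QuadraticMap.polar]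
  rcases i with (i | i) | i <;> rcases j with (j | j) | j <;>
    first | exact i.elim0 | exact j.elim0 | skip
  all_goals simp [fromBlocks, Matrix.one_apply, Pi.single_apply, eq_comm]

/-- Isometry groups of forms of square discriminant in dimension `2m`, `m` even. -/
theorem card_isometryGroup_of_square (h2 : (2 : F) ≠ 0) {ι : Type} [Fintype ι] [DecidableEq ι] {m : ℕ}
    (hm : 1 ≤ m) (hme : Even m) (hcard : Fintype.card ι = 2 * m) (Qι : QuadraticForm F (ι → F))
    (hd : (LinearMap.BilinForm.toMatrix (Pi.basisFun F ι) (QuadraticMap.polarBilin Qι)).det ≠ 0)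
    (hsq : IsSquare (LinearMap.BilinForm.toMatrix (Pi.basisFun F ι) (QuadraticMap.polarBilin Qι)).det) :
    Nat.card (Cfsg.isometryGroup F ⇑Qι) = 2 * Fintype.card F ^ (m * (m - 1)) * (Fintype.card F ^ m - 1) *
      ∏ i ∈ Finset.range (m - 1), (Fintype.card F ^ (2 * (i + 1)) - 1) := by
  classical
  set Qp := Forms4.sumForm m (0 : QuadraticForm F (Fin 0 → F)) with hQp
  have hdp : (LinearMap.BilinForm.toMatrix (Pi.basisFun F ((Fin m ⊕ Fin m) ⊕ Fin 0))
      (QuadraticMap.polarBilin Qp)).det = 1 := by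
    have hsw : (fromBlocks (0 : Matrix (Fin m) (Fin m) F) (1 : Matrix (Fin m) (Fin m) F) (1 : Matrix (Fin m) (Fin m) F)
        (0 : Matrix (Fin m) (Fin m) F)).det = 1 := by
      have h : fromBlocks (0 : Matrix (Fin m) (Fin m) F) (1 : Matrix (Fin m) (Fin m) F)
          (1 : Matrix (Fin m) (Fin m) F) (0 : Matrix (Fin m) (Fin m) F) =
          fromBlocks (1 : Matrix (Fin m) (Fin m) F) (1 : Matrix (Fin m) (Fin m) F) (0 : Matrix (Fin m) (Fin m) F)
              (1 : Matrix (Fin m) (Fin m) F) *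
            (fromBlocks (1 : Matrix (Fin m) (Fin m) F) (0 : Matrix (Fin m) (Fin m) F)
              (-1 : Matrix (Fin m) (Fin m) F) (1 : Matrix (Fin m) (Fin m) F) *
            (fromBlocks (1 : Matrix (Fin m) (Fin m) F) (1 : Matrix (Fin m) (Fin m) F) (0 : Matrix (Fin m) (Fin m) F)
              (1 : Matrix (Fin m) (Fin m) F) *
            fromBlocks (-1 : Matrix (Fin m) (Fin m) F) (0 : Matrix (Fin m) (Fin m) F)
              (0 : Matrix (Fin m) (Fin m) F) (1 : Matrix (Fin m) (Fin m) F))) := by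
        simp [fromBlocks_multiply]
      rw [h]
      simp [det_mul, det_neg, hme.neg_one_pow]
    rw [hQp, polar_plus_matrix, det_fromBlocks_zero₁₂, hsw, det_one, mul_one]
  obtain ⟨L, hL⟩ := Forms.exists_isometry_of_isSquare h2 (QuadraticMap.polarBilin Qι) (QuadraticMap.polarBilin Qp)
    ⟨fun x y => QuadraticMap.polar_comm _ x y⟩ ⟨fun x y => QuadraticMap.polar_comm _ x y⟩
    (Pi.basisFun F ι) (Pi.basisFun F ((Fin m ⊕ Fin m) ⊕ Fin 0)) (by simp [hcard]; omega) hd
    (by rw [hdp]; exact one_ne_zero) (by rw [hdp, mul_one]; exact hsq)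
  have hLQ : ∀ x, Qp (L x) = Qι x := fun x => by
    have h1 := hL x x
    rw [QuadraticMap.polarBilin_apply_apply, QuadraticMap.polarBilin_apply_apply, polar_self', polar_self'] at h1
    exact mul_left_cancel₀ h2 h1
  obtain ⟨φ, hφ⟩ := CfsgLib.FieldEmb.exists_hom_of_equiv (⇑Qι) (⇑Qp) L (fun v => hLQ v)
  obtain ⟨χ, hχ⟩ := CfsgLib.FieldEmb.exists_hom_of_equiv (⇑Qp) (⇑Qι) L.symm
    (fun v => by rw [← hLQ (L.symm v), L.apply_symm_apply])
  have : Nat.card (Cfsg.isometryGroup F ⇑Qι) = Nat.card (Cfsg.isometryGroup F ⇑Qp) :=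
    le_antisymm (Nat.card_le_card_of_injective φ hφ) (Nat.card_le_card_of_injective χ hχ)
  rw [this, hQp, Forms4.coe_sumForm]
  obtain ⟨e⟩ := Forms4.nonempty_isometryGroup_congr (Equiv.sumEmpty (Fin m ⊕ Fin m) (Fin 0))
    (Forms4.hsum m ⇑(0 : QuadraticForm F (Fin 0 → F)))
  rw [Nat.card_congr e.toEquiv]
  have hfun : (fun v => Forms4.hsum m (⇑(0 : QuadraticForm F (Fin 0 → F)))
      (v ∘ Equiv.sumEmpty (Fin m ⊕ Fin m) (Fin 0))) = Cfsg.quadFormPlus m F := by
    funext v
    rw [Forms4.hsum_plus]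
    rfl
  rw [hfun]
  exact Forms4.card_isometryGroup_quadFormPlus rfl m hm

variable {k : ℕ} {Q : QuadraticForm F (Idx k k → F)}
  {B₁ B₂ : LinearMap.BilinForm F (Fin k → F)} {J : Isom Q}

namespace Frame

open Three

variable [CharP F 3] {hF : Fl Q B₁ B₂ J} (Φ : Frame hF)

/-- **Restriction to a stable span of frame tensors of square discriminant.** -/
theorem exists_restrict (K : Subgroup (Isom Q)) {ι : Type} [Fintype ι] [DecidableEq ι] (p : ι → Pos)
    (hp : Function.Injective p) {m : ℕ} (hm : 1 ≤ m) (hme : Even m) (hcard : Fintype.card ι = 2 * m)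
    (hsq : ∏ i, eps (p i).1 * eps (p i).2 = 1)
    (hst : ∀ g ∈ K, ∀ (i : ι) (c : Pos → C), Φ.v2 c = mat Q g *ᵥ ten (Φ.f (p i).1) (Φ.f (p i).2) →
      ∀ b, b ∉ Set.range p → c b = 0) :
    ∃ (G : Type u) (_ : Group G) (φ : ↥K →* G),
      Nat.card G = 2 * 3 ^ (m * (m - 1)) * (3 ^ m - 1) * ∏ i ∈ Finset.range (m - 1), (3 ^ (2 * (i + 1)) - 1) ∧
      ∀ g : ↥K, φ g = 1 → ∀ i, mat Q (g : Isom Q) *ᵥ ten (Φ.f (p i).1) (Φ.f (p i).2) =
        ten (Φ.f (p i).1) (Φ.f (p i).2) := by
  classical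
  let L : (ι → F) →ₗ[F] (Idx k k → F) := Fintype.linearCombination F fun i => ten (Φ.f (p i).1) (Φ.f (p i).2)
  have hLs : ∀ i, L (Pi.single i 1) = ten (Φ.f (p i).1) (Φ.f (p i).2) := fun i => by
    simp [L, Fintype.linearCombination_apply, Pi.single_apply]
  set Qι := Q.comp L with hQι
  have hG : ∀ i j, QuadraticMap.polarBilin Qι (Pi.basisFun F ι i) (Pi.basisFun F ι j) =
      if i = j then Φ.κ * cst F (eps (p i).1 * eps (p i).2) else 0 := fun i j => by
    rw [QuadraticMap.polarBilin_apply_apply, QuadraticMap.polar, hQι]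
    simp only [QuadraticMap.comp_apply, map_add, Pi.basisFun_apply, hLs]
    change QuadraticMap.polar (⇑Q) _ _ = _
    rw [← Φ.v2_e2, ← Φ.v2_e2, Φ.polar_v2, show bf₂ (e2 (p i)) (e2 (p j)) =
      if i = j then eps (p i).1 * eps (p i).2 else 0 by
      rw [bf₂, Finset.sum_eq_single (p i) (fun b _ hb => by simp [e2, hb]) (by simp)]
      by_cases h : i = j
      · subst h; simp [e2]
      · simp [e2, h, show ¬ p i = p j from fun h' => h (hp h'), show ¬ p j = p i from fun h' => h (hp h'.symm)]]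
    split_ifs <;> simp
  have hMat : LinearMap.BilinForm.toMatrix (Pi.basisFun F ι) (QuadraticMap.polarBilin Qι) =
      diagonal fun i => Φ.κ * cst F (eps (p i).1 * eps (p i).2) := by
    ext i j
    rw [LinearMap.BilinForm.toMatrix_apply, hG, diagonal_apply]
  have hdet : (LinearMap.BilinForm.toMatrix (Pi.basisFun F ι) (QuadraticMap.polarBilin Qι)).det = Φ.κ ^ (2 * m) := by
    rw [hMat, det_diagonal, Finset.prod_mul_distrib, ← map_prod, hsq, map_one, mul_one, Finset.prod_const,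
      Finset.card_univ, hcard]
  have hκ2 : Φ.κ ^ (2 * m) ≠ 0 := pow_ne_zero _ Φ.κ_ne
  have hinj : Function.Injective L := by
    rw [← LinearMap.ker_eq_bot, LinearMap.ker_eq_bot']
    intro x hx
    funext j
    have h := congrArg (fun v => QuadraticMap.polar (⇑Q) v (L (Pi.single j 1))) hx
    have h' : QuadraticMap.polarBilin Qι x (Pi.basisFun F ι j) = 0 := by
      rw [QuadraticMap.polarBilin_apply_apply, QuadraticMap.polar, hQι]
      simp only [QuadraticMap.comp_apply, map_add, Pi.basisFun_apply]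
      simpa [QuadraticMap.polar] using h
    rw [← (Pi.basisFun F ι).sum_repr x, map_sum, LinearMap.sum_apply, Finset.sum_eq_single j
      (fun i _ hi => by rw [map_smul, LinearMap.smul_apply, hG, if_neg hi, smul_zero]) (by simp)] at h'
    simp only [map_smul, LinearMap.smul_apply, hG, if_pos, Pi.basisFun_repr, smul_eq_mul] at h'
    have hne : ∀ b : Pos, eps b.1 * eps b.2 ≠ 0 := by decide
    exact (mul_eq_zero.1 h').resolve_right (mul_ne_zero Φ.κ_ne fun h0 => hne (p j) (cst_inj (by rw [h0, map_zero])))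
  have hstab : ∀ g ∈ K, ∀ x, ∃ y, L y = mat Q g *ᵥ L x := fun g hg x => by
    have hbase : ∀ i, ∃ y, L y = mat Q g *ᵥ L (Pi.single i 1) := fun i => by
      obtain ⟨c, hc⟩ := Φ.exists_v2 (mat Q g *ᵥ L (Pi.single i 1))
      refine ⟨fun j => cst F (c (p j)), ?_⟩
      rw [← hc, v2]
      simp only [L, Fintype.linearCombination_apply]
      rw [← Finset.sum_subset (Finset.subset_univ (Finset.univ.image p)) (fun b _ hb => by
        rw [hst g hg i c (by rw [hc, hLs]) b (fun ⟨j, hj⟩ => hb (Finset.mem_image.2 ⟨j, Finset.mem_univ _, hj⟩)),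
          map_zero, zero_smul]), Finset.sum_image (fun a _ b _ h => hp h)]
    choose y hy using hbase
    refine ⟨∑ i, x i • y i, ?_⟩
    conv_rhs => rw [← (Pi.basisFun F ι).sum_repr x]
    simp only [map_sum, map_smul, hy, Pi.basisFun_repr, Pi.basisFun_apply, mulVec_sum, mulVec_smul]
  obtain ⟨ψ, hψ⟩ := L.exists_leftInverse_of_injective (LinearMap.ker_eq_bot.2 hinj)
  have hψ' : ∀ x, ψ (L x) = x := fun x => LinearMap.congr_fun hψ x
  let R : Isom Q → Matrix ι ι F := fun g => LinearMap.toMatrix' (ψ.comp ((mat Q g).mulVecLin.comp L))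
  have hR : ∀ g ∈ K, ∀ x, L (R g *ᵥ x) = mat Q g *ᵥ L x := fun g hg x => by
    obtain ⟨y, hy⟩ := hstab g hg x
    rw [show R g *ᵥ x = ψ (mat Q g *ᵥ L x) from LinearMap.toMatrix'_mulVec _ _, ← hy, hψ']
  have hR1 : R 1 = 1 := Matrix.ext_iff_mulVec.2 fun x => hinj (by
    rw [hR 1 K.one_mem, mat_one, one_mulVec, one_mulVec])
  have hRmul : ∀ g ∈ K, ∀ h ∈ K, R (g * h) = R g * R h := fun g hg h hh => Matrix.ext_iff_mulVec.2 fun x =>
    hinj (by rw [hR _ (K.mul_mem hg hh), ← mulVec_mulVec, hR g hg, hR h hh, Fl.mul_vec])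
  let ψ' : ↥K →* GL ι F := MonoidHom.toHomUnits
    { toFun := fun g => R g.1, map_one' := hR1, map_mul' := fun g h => hRmul g.1 g.2 h.1 h.2 }
  have hiso : ∀ g, ψ' g ∈ Cfsg.isometryGroup F ⇑Qι := fun g v _ => by
    show Qι (R g.1 *ᵥ v) = Qι v
    rw [hQι, QuadraticMap.comp_apply, QuadraticMap.comp_apply, hR g.1 g.2]
    exact quad_mulVec Q g.1 _
  refine ⟨↥(Cfsg.isometryGroup F ⇑Qι), inferInstance, ψ'.codRestrict _ hiso, ?_, fun g hg i => ?_⟩
  · rw [card_isometryGroup_of_square hF.aset.two hm hme hcard Qι (by rw [hdet]; exact hκ2)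
      (by rw [hdet]; exact ⟨Φ.κ ^ m, by rw [← pow_add, two_mul]⟩), Φ.card]
  · have h1 : R g.1 = 1 := congrArg (fun u => ((u : GL ι F) : Matrix ι ι F)) (congrArg Subtype.val hg)
    rw [← hLs, ← hR g.1 g.2, h1, one_mulVec]

end Frame

end CfsgLib.TWGap
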