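import Cfsg.Agent.TensorWreathOrth.Gap.Three.Elements
import Cfsg.Agent.TensorWreathOrth.Gap.Three.Count
import Cfsg.Agent.TensorWreathOrth.Gap.EndSix
import Mathlib.GroupTheory.Sylow

/-!
# Three elements: no odd order elements centralising both sign elements
-/

set_option autoImplicit false
set_option linter.unusedSectionVars false

namespace CfsgLib.TWGap

open Matrix Module CfsgLib.Spinor CfsgLib.OrthMax CfsgLib.TensorOrth
open CfsgLib.TensorMax (Idx ten)

namespace Three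

/-- The two frame planes. -/
def pl2 (s : Bool) : Fin 2 → Fin 4 := if s then ![2, 3] else ![0, 1]

/-- The four blocks. -/
def blk (s t : Bool) (a : Fin 2 × Fin 2) : Pos := (pl2 s a.1, pl2 t a.2)

theorem blk_inj : ∀ s t, Function.Injective (blk s t) := by
  intro s t a b h
  revert s t a b
  decide +kernel

theorem blk_disc : ∀ s t, ∏ a, eps (blk s t a).1 * eps (blk s t a).2 = 1 := by decide +kernel

theorem blk_signs : ∀ (s t : Bool) (a : Fin 2 × Fin 2) (b : Pos),
    ((![-1, -1, 1, 1] : Fin 4 → C) b.1 = (![-1, -1, 1, 1] : Fin 4 → C) (blk s t a).1 ∧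
      (![-1, -1, 1, 1] : Fin 4 → C) b.2 = (![-1, -1, 1, 1] : Fin 4 → C) (blk s t a).2) → ∃ c, blk s t c = b := by
  decide +kernel

theorem blk_cover : ∀ b : Pos, ∃ s t a, blk s t a = b := by decide +kernel

/-- The product of `x + y i + z j + w ij`. -/
def mul4 (x y : C × C × C × C) : C × C × C × C :=
  (x.1 * y.1 - x.2.1 * y.2.1 - x.2.2.1 * y.2.2.1 + x.2.2.2 * y.2.2.2,
    x.1 * y.2.1 + x.2.1 * y.1 - x.2.2.1 * y.2.2.2 - x.2.2.2 * y.2.2.1,
    x.1 * y.2.2.1 + x.2.2.1 * y.1 - x.2.1 * y.2.2.2 - x.2.2.2 * y.2.1,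
    x.1 * y.2.2.2 + x.2.2.2 * y.1 + x.2.1 * y.2.2.1 + x.2.2.1 * y.2.1)

/-- The coordinates `x + y i + z j + w ij` on the elliptic block. -/
def opv (x : C × C × C × C) : Pos → C := fun b =>
  if b = (0, 0) then x.1 else if b = (1, 0) then x.2.1 else if b = (0, 1) then x.2.2.1
    else if b = (1, 1) then x.2.2.2 else 0

theorem opv_rho : ∀ a b c d : C,
    (fun q => ∑ p, opv (a, b, c, d) p * kron rhoA oneA p q) = opv (mul4 (0, 1, 0, 0) (a, b, c, d)) ∧
      (fun q => ∑ p, opv (a, b, c, d) p * kron oneA rhoA p q) = opv (mul4 (0, 0, 1, 0) (a, b, c, d)) := by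
  decide +kernel

theorem mul4_comm (x y : C × C × C × C) : mul4 x y = mul4 y x := by
  simp only [mul4, Prod.mk.injEq]; exact ⟨by ring, by ring, by ring, by ring⟩

theorem mul4_assoc (x y z : C × C × C × C) : mul4 (mul4 x y) z = mul4 x (mul4 y z) := by
  simp only [mul4, Prod.mk.injEq]; exact ⟨by ring, by ring, by ring, by ring⟩

theorem opv_basis : opv (1, 0, 0, 0) = e2 (0, 0) ∧ opv (0, 1, 0, 0) = e2 (1, 0) ∧
    opv (0, 0, 1, 0) = e2 (0, 1) ∧ opv (0, 0, 0, 1) = e2 (1, 1) := by decide +kernel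

theorem opv_lin (a b c d : C) :
    opv (a, b, c, d) = a • e2 (0, 0) + b • e2 (1, 0) + c • e2 (0, 1) + d • e2 (1, 1) := by
  funext q
  simp only [opv, e2, Pi.add_apply, Pi.smul_apply, smul_eq_mul]
  split_ifs with h1 h2 h3 h4 <;> (try subst h1) <;> (try subst h2) <;> (try subst h3) <;> (try subst h4) <;> simp_all

theorem cube_key : ∀ a b c d : C, mul4 (mul4 (a, b, c, d) (a, b, c, d)) (a, b, c, d) = (1, 0, 0, 0) →
    a = 1 ∧ b = 0 ∧ c = 0 ∧ d = 0 := by decide +kernel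

end Three

/-- A nilpotent map of index at most three of a space of dimension at most four has rank at most two. -/
theorem rank_le_two {F V : Type*} [Field F] [AddCommGroup V] [Module F V] (N : V →ₗ[F] V) (W : Submodule F V)
    [FiniteDimensional F W] (hW : ∀ x ∈ W, N x ∈ W) (h3 : ∀ x ∈ W, N (N (N x)) = 0) (h4 : finrank F W ≤ 4) :
    finrank F (W.map N) ≤ 2 := by
  classical
  let f : W →ₗ[F] W := N.restrict hW
  have hf3 : f.comp (f.comp f) = 0 := LinearMap.ext fun x => Subtype.ext (h3 x.1 x.2)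
  have hmap : finrank F (W.map N) = finrank F (LinearMap.range f) := by
    have e : W.map N = (LinearMap.range f).map W.subtype := by
      ext v
      simp only [Submodule.mem_map, LinearMap.mem_range]
      constructor
      · rintro ⟨x, hx, rfl⟩; exact ⟨_, ⟨⟨x, hx⟩, rfl⟩, rfl⟩
      · rintro ⟨_, ⟨⟨x, hx⟩, rfl⟩, rfl⟩; exact ⟨x, hx, rfl⟩
    rw [e]
    exact LinearEquiv.finrank_eq (Submodule.equivMapOfInjective _ W.injective_subtype _).symm
  rw [hmap]
  have key : ∀ U : Submodule F W, finrank F U ≤ finrank F (U.map f) + finrank F (LinearMap.ker f) := fun U => by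
    have h := LinearMap.finrank_range_add_finrank_ker (f.domRestrict U)
    rw [LinearMap.range_domRestrict] at h
    have hk : finrank F (LinearMap.ker (f.domRestrict U)) ≤ finrank F (LinearMap.ker f) := by
      let g : LinearMap.ker (f.domRestrict U) →ₗ[F] LinearMap.ker f :=
        { toFun := fun x => ⟨x.1.1, x.2⟩, map_add' := fun _ _ => rfl, map_smul' := fun _ _ => rfl }
      exact LinearMap.finrank_le_finrank_of_injective (f := g) fun a b hab =>
        Subtype.ext (Subtype.ext (congrArg (fun z : LinearMap.ker f => z.1) hab))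
    omega
  have h0 := LinearMap.finrank_range_add_finrank_ker f
  have h1 := key (LinearMap.range f)
  have h2 := key ((LinearMap.range f).map f)
  have h5 : finrank F (((LinearMap.range f).map f).map f) = 0 := by
    rw [← LinearMap.range_comp, ← LinearMap.range_comp, hf3, LinearMap.range_zero, finrank_bot]
  omega

variable {F : Type*} [Field F] [Fintype F] {k : ℕ} {Q : QuadraticForm F (Idx k k → F)}
  {B₁ B₂ : LinearMap.BilinForm F (Fin k → F)} {J : Isom Q} {M : Subgroup (Isom Q)}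

namespace Fl

variable (hF : Fl Q B₁ B₂ J)
include hF

/-- A one-sided element moves a slice for every moved direction. -/
theorem rank_right {u : Isom Q} {B : Matrix (Fin k) (Fin k) F}
    (hu : ∀ x y, mat Q u *ᵥ ten x y = ten x (B *ᵥ y)) :
    k * finrank F (LinearMap.range (B - 1).mulVecLin) ≤ finrank F (LinearMap.range (mat Q u - 1).mulVecLin) := by
  classical
  set U := LinearMap.range (B - 1).mulVecLin
  let Ψ : (Fin k → U) →ₗ[F] (Idx k k → F) :=
    { toFun := fun w p => (w p.1).1 p.2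
      map_add' := fun _ _ => rfl
      map_smul' := fun _ _ => rfl }
  have hinj : Function.Injective Ψ := fun w w' h => funext fun i => Subtype.ext (funext fun j => congrFun h (i, j))
  have hrange : LinearMap.range Ψ ≤ LinearMap.range (mat Q u - 1).mulVecLin := by
    rintro _ ⟨w, rfl⟩
    choose y hy using fun i => (w i).2
    refine ⟨∑ i, ten (Pi.single i 1) (y i), ?_⟩
    rw [map_sum]
    funext p
    obtain ⟨i₀, j₀⟩ := p
    rw [Finset.sum_apply, Finset.sum_eq_single i₀]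
    · show ((mat Q u - 1) *ᵥ ten (Pi.single i₀ 1) (y i₀)) (i₀, j₀) = (w i₀).1 j₀
      rw [← hy, mulVecLin_apply, sub_mulVec, one_mulVec, hu, sub_mulVec, one_mulVec]
      simp [ten]
    · intro i _ hi
      show ((mat Q u - 1) *ᵥ ten (Pi.single i 1) (y i)) (i₀, j₀) = 0
      rw [sub_mulVec, one_mulVec, hu]
      simp [ten, Pi.single_eq_of_ne (Ne.symm hi)]
    · simp
  have := Submodule.finrank_mono hrange
  rw [LinearMap.finrank_range_of_inj hinj, Module.finrank_pi_fintype] at this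
  simpa [Finset.sum_const, U] using this

/-- A non-trivial element of order three in `Kr` moves at least eight dimensions. -/
theorem eight_le_rank [CharP F 3] (hpl : k = 4 → NoPlane B₂) (hk : k = 4) {u : Isom Q} (hu : u ∈ Kr Q)
    (h3 : u ^ 3 = 1) (hne : u ≠ 1) : 8 ≤ finrank F (LinearMap.range (mat Q u - 1).mulVecLin) := by
  obtain ⟨A, B, hv, hA, hB, hA3, hB3⟩ := hF.exists_unipotent_factors hu h3
  by_cases hA1 : A = 1
  · subst hA1
    have hB1 : B ≠ 1 := fun h => hne (hF.ext fun x y => by rw [hv, h, mat_one, one_mulVec, one_mulVec, one_mulVec])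
    have h1 := hF.rank_right (B := B) (u := u) fun x y => by rw [hv, one_mulVec]
    have h2 := hF.two_le_rank hB hB3 hB1
    have := Nat.mul_le_mul_left k h2
    omega
  by_cases hB1 : B = 1
  · subst hB1
    have hv' : ∀ x y, mat Q (J * u * J) *ᵥ ten x y = ten x (A *ᵥ y) := fun x y => by
      rw [hF.conj_ten, hv, one_mulVec, hF.flip]
    have h1 := hF.rank_right (B := A) hv'
    have h2 := hF.two_le_rank hA hA3 hA1
    have h4 := Fl.rank_conj J u
    rw [hF.conj_J] at h4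
    have := Nat.mul_le_mul_left k h2
    omega
  · have := hF.rank_lt hpl hv hA hB hA3 hB3 hA1 hB1
    omega

end Fl

namespace Frame

open Three

variable [CharP F 3] {hF : Fl Q B₁ B₂ J} (Φ : Frame hF)

theorem block_stable {g : Isom Q} (ha : g * Φ.aR = Φ.aR * g) (hb : g * Φ.bL = Φ.bL * g) (s t : Bool)
    (i : Fin 2 × Fin 2) (c : Pos → C)
    (hc : Φ.v2 c = mat Q g *ᵥ ten (Φ.f (blk s t i).1) (Φ.f (blk s t i).2)) (b : Pos)
    (hb' : b ∉ Set.range (blk s t)) : c b = 0 := by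
  by_contra h0
  have d1 : kron oneA (diagA ![-1, -1, 1, 1]) = kron (diagA ![1, 1, 1, 1]) (diagA ![-1, -1, 1, 1]) := by decide +kernel
  have d2 : kron (diagA ![-1, -1, 1, 1]) oneA = kron (diagA ![-1, -1, 1, 1]) (diagA ![1, 1, 1, 1]) := by decide +kernel
  have hone : ∀ i : Fin 4, (![1, 1, 1, 1] : Fin 4 → C) i = 1 := by decide
  have img : ∀ {g' : Isom Q} {s' t' : Fin 4 → C}, Φ.Act g' (kron (diagA s') (diagA t')) → g * g' = g' * g →
      (s' b.1 * t' b.2 - s' (blk s t i).1 * t' (blk s t i).2) * c b = 0 := fun {g' s' t'} hg hc' => by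
    refine Φ.eigen_coord hg ?_ b
    rw [hc, ← Fl.mul_vec, ← hc', Fl.mul_vec, Φ.diag_ten hg, mulVec_smul]
  have k1 := img (Φ.act_aR.congr Φ d1) ha
  have k2 := img (Φ.act_bL.congr Φ d2) hb
  simp only [hone, one_mul, mul_one] at k1 k2
  exact hb' (blk_signs s t i b ⟨sub_eq_zero.1 ((mul_eq_zero.1 k2).resolve_right h0),
    sub_eq_zero.1 ((mul_eq_zero.1 k1).resolve_right h0)⟩)

theorem rho_sq : Φ.rhoR * Φ.rhoR = Φ.aR :=
  Φ.act_ext ((Act.mul Φ Φ.act_rhoR Φ.act_rhoR).congr Φ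
    (show kron (mulA oneA oneA) (mulA rhoA rhoA) = kron oneA (diagA ![-1, -1, 1, 1]) by decide +kernel)) Φ.act_aR

theorem aR_ne_one : Φ.aR ≠ 1 := fun h => by
  have h1 := Act.unique Φ (h ▸ Φ.act_aR) Φ.act_one
  exact absurd (congrFun (congrFun h1 (0, 0)) (0, 0)) (by decide)

theorem bL_ne_one : Φ.bL ≠ 1 := fun h => by
  have h1 := Act.unique Φ (h ▸ Φ.act_bL) Φ.act_one
  exact absurd (congrFun (congrFun h1 (0, 0)) (0, 0)) (by decide)

/-- An element of order three commuting with both rotations fixes the elliptic block. -/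
theorem ee_fixed {u : Isom Q} (hu3 : u * u * u = 1) (ha : u * Φ.aR = Φ.aR * u) (hb : u * Φ.bL = Φ.bL * u)
    (hR : u * Φ.rhoR = Φ.rhoR * u) (hL : u * Φ.rhoL = Φ.rhoL * u) (p : Fin 2 × Fin 2) :
    mat Q u *ᵥ ten (Φ.f (blk false false p).1) (Φ.f (blk false false p).2) =
      ten (Φ.f (blk false false p).1) (Φ.f (blk false false p).2) := by
  obtain ⟨w, hw⟩ := Φ.exists_v2 (mat Q u *ᵥ ten (Φ.f 0) (Φ.f 0))
  have hw0 : ∀ b : Pos, b ∉ Set.range (blk false false) → w b = 0 := fun b hb' =>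
    Φ.block_stable ha hb false false (0, 0) w hw b hb'
  obtain ⟨a, b, c, d, hwop⟩ : ∃ a b c d, w = opv (a, b, c, d) := by
    refine ⟨w (0, 0), w (1, 0), w (0, 1), w (1, 1), funext fun q => ?_⟩
    simp only [opv]
    split_ifs with h1 h2 h3 h4
    · rw [h1]
    · rw [h2]
    · rw [h3]
    · rw [h4]
    · refine hw0 q ?_
      rintro ⟨c, rfl⟩
      have : ∀ c, blk false false c = (0, 0) ∨ blk false false c = (1, 0) ∨ blk false false c = (0, 1) ∨
          blk false false c = (1, 1) := by decide +kernel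
      rcases this c with h | h | h | h <;> contradiction
  subst hwop
  generalize hx₀ : ((a, b, c, d) : C × C × C × C) = x₀ at hw
  have hrL : ∀ x, mat Q Φ.rhoL *ᵥ Φ.v2 (opv x) = Φ.v2 (opv (mul4 (0, 1, 0, 0) x)) := fun x => by
    obtain ⟨a, b, c, d⟩ := x
    rw [Act.app Φ Φ.act_rhoL, (opv_rho a b c d).1]
  have hrR : ∀ x, mat Q Φ.rhoR *ᵥ Φ.v2 (opv x) = Φ.v2 (opv (mul4 (0, 0, 1, 0) x)) := fun x => by
    obtain ⟨a, b, c, d⟩ := x
    rw [Act.app Φ Φ.act_rhoR, (opv_rho a b c d).2]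
  have hiL : ∀ v, mat Q u *ᵥ (mat Q Φ.rhoL *ᵥ v) = mat Q Φ.rhoL *ᵥ (mat Q u *ᵥ v) := fun v => by
    rw [← Fl.mul_vec, hL, Fl.mul_vec]
  have hiR : ∀ v, mat Q u *ᵥ (mat Q Φ.rhoR *ᵥ v) = mat Q Φ.rhoR *ᵥ (mat Q u *ᵥ v) := fun v => by
    rw [← Fl.mul_vec, hR, Fl.mul_vec]
  have u00 : mat Q u *ᵥ Φ.v2 (opv (1, 0, 0, 0)) = Φ.v2 (opv x₀) := by rw [opv_basis.1, Φ.v2_e2, ← hw]
  have m1 : ∀ y : C × C × C × C, mul4 y (1, 0, 0, 0) = y := fun y => by obtain ⟨_, _, _, _⟩ := y; simp [mul4]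
  have u10 : mat Q u *ᵥ Φ.v2 (opv (0, 1, 0, 0)) = Φ.v2 (opv (mul4 x₀ (0, 1, 0, 0))) := by
    rw [← m1 (0, 1, 0, 0), ← hrL, hiL, u00, hrL, m1, mul4_comm]
  have u01 : mat Q u *ᵥ Φ.v2 (opv (0, 0, 1, 0)) = Φ.v2 (opv (mul4 x₀ (0, 0, 1, 0))) := by
    rw [← m1 (0, 0, 1, 0), ← hrR, hiR, u00, hrR, m1, mul4_comm]
  have u11 : mat Q u *ᵥ Φ.v2 (opv (0, 0, 0, 1)) = Φ.v2 (opv (mul4 x₀ (0, 0, 0, 1))) := by
    rw [show ((0, 0, 0, 1) : C × C × C × C) = mul4 (0, 1, 0, 0) (0, 0, 1, 0) by decide +kernel, ← hrL, hiL, u01,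
      hrL, ← mul4_assoc, mul4_comm (0, 1, 0, 0) x₀, mul4_assoc]
  have hop : ∀ x, mat Q u *ᵥ Φ.v2 (opv x) = Φ.v2 (opv (mul4 x₀ x)) := by
    rintro ⟨p, q, r, t⟩
    rw [opv_lin, ← opv_basis.1, ← opv_basis.2.1, ← opv_basis.2.2.1, ← opv_basis.2.2.2]
    simp only [Φ.v2_add, Φ.v2_smul, mulVec_add, mulVec_smul, u00, u10, u01, u11]
    simp only [← Φ.v2_smul, ← Φ.v2_add]
    congr 1
    obtain ⟨a', b', c', d'⟩ := x₀
    simp only [mul4, opv_lin]
    funext z
    simp only [Pi.add_apply, Pi.smul_apply, smul_eq_mul]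
    ring
  have h1 : mat Q (u * u * u) *ᵥ Φ.v2 (opv (1, 0, 0, 0)) = Φ.v2 (opv (1, 0, 0, 0)) := by
    rw [hu3, mat_one, one_mulVec]
  rw [Fl.mul_vec, Fl.mul_vec, hop, hop, hop, m1, mul4_comm x₀ (mul4 x₀ x₀)] at h1
  have g := congrFun (Φ.v2_inj h1)
  subst hx₀
  have g0 := g (0, 0); have g1 := g (1, 0); have g2 := g (0, 1); have g3 := g (1, 1)
  simp [opv] at g0 g1 g2 g3
  obtain ⟨rfl, rfl, rfl, rfl⟩ := cube_key a b c d (Prod.ext g0 (Prod.ext g1 (Prod.ext g2 g3)))
  have hp : ∀ p, ∃ x : C × C × C × C, opv x = e2 (blk false false p) := by decide +kernel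
  obtain ⟨x, hx⟩ := hp p
  rw [← Φ.v2_e2 (blk false false p), ← hx, hop]
  congr 2
  obtain ⟨_, _, _, _⟩ := x
  simp [mul4]

variable (hG : GCtx hF M)
include hG

/-- **No elements of order three.** -/
theorem no_three {u : Isom Q} (hu : u ∈ M) (ha : u * Φ.aR = Φ.aR * u) (hb : u * Φ.bL = Φ.bL * u)
    (h3 : u ^ 3 = 1) : u = 1 := by
  classical
  by_contra hne
  have hu3 : u * u * u = 1 := by rw [← h3, pow_succ, pow_succ, pow_one]
  have odd : ∀ ρ a : Isom Q, ρ * ρ = a → a ≠ 1 → (u * ρ * u⁻¹ = ρ ∨ u * ρ * u⁻¹ = ρ⁻¹) → u * ρ = ρ * u := by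
    intro ρ a hρ ha1 h
    rcases h with h | h
    · exact mul_inv_eq_iff_eq_mul.1 h
    · exfalso
      have h' : u * ρ⁻¹ * u⁻¹ = ρ := by
        have := congrArg (·⁻¹) h
        simpa [_root_.mul_inv_rev, mul_assoc] using this
      have e : u * u * u * ρ * (u * u * u)⁻¹ = ρ⁻¹ := by
        rw [show u * u * u * ρ * (u * u * u)⁻¹ = u * (u * (u * ρ * u⁻¹) * u⁻¹) * u⁻¹ by group, h, h', h]
      rw [hu3, one_mul, inv_one, mul_one] at e
      exact ha1 (by rw [← hρ]; conv_lhs => arg 1; rw [e]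
                    rw [inv_mul_cancel])
  have hR := odd _ _ Φ.rho_sq Φ.aR_ne_one (Φ.conj_rhoR hG hu ha)
  have hL := odd _ _ (show Φ.rhoL * Φ.rhoL = Φ.bL from Φ.act_ext ((Act.mul Φ Φ.act_rhoL Φ.act_rhoL).congr Φ
    (show kron (mulA rhoA rhoA) (mulA oneA oneA) = kron (diagA ![-1, -1, 1, 1]) oneA by decide +kernel)) Φ.act_bL)
    Φ.bL_ne_one (Φ.conj_rhoL hG hu hb)
  let N := (mat Q u - 1).mulVecLin
  have hN : ∀ v, N v = mat Q u *ᵥ v - v := fun v => by simp [N, sub_mulVec]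
  have hfix : ∀ p : Fin 2 × Fin 2, N (ten (Φ.f (blk false false p).1) (Φ.f (blk false false p).2)) = 0 :=
    fun p => by rw [hN, Φ.ee_fixed hu3 ha hb hR hL p, sub_self]
  -- the rank is at most six
  let W : Bool → Bool → Submodule F (Idx k k → F) := fun s t =>
    Submodule.span F (Set.range fun p : Fin 2 × Fin 2 => ten (Φ.f (blk s t p).1) (Φ.f (blk s t p).2))
  have hWN : ∀ s t, ∀ x ∈ W s t, N x ∈ W s t := by
    intro s t x hx
    induction hx using Submodule.span_induction with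
    | mem y hy =>
      obtain ⟨p, rfl⟩ := hy
      obtain ⟨cc, hcc⟩ := Φ.exists_v2 (mat Q u *ᵥ ten (Φ.f (blk s t p).1) (Φ.f (blk s t p).2))
      rw [hN, ← hcc, v2]
      refine Submodule.sub_mem _ (Submodule.sum_mem _ fun q _ => ?_) (Submodule.subset_span ⟨p, rfl⟩)
      by_cases hq : q ∈ Set.range (blk s t)
      · obtain ⟨q', rfl⟩ := hq
        exact Submodule.smul_mem _ _ (Submodule.subset_span ⟨q', rfl⟩)
      · rw [Φ.block_stable ha hb s t p cc hcc q hq, map_zero, zero_smul]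
        exact Submodule.zero_mem _
    | zero => rw [map_zero]; exact Submodule.zero_mem _
    | add y z _ _ hy hz => rw [map_add]; exact Submodule.add_mem _ hy hz
    | smul r y _ hy => rw [map_smul]; exact Submodule.smul_mem _ _ hy
  have hN3 : ∀ x, N (N (N x)) = 0 := fun x => by
    have h30 : (3 : F) = 0 := by exact_mod_cast CharP.cast_eq_zero F 3
    have e : mat Q (u * u * u) *ᵥ x = x := by rw [hu3, mat_one, one_mulVec]
    rw [Fl.mul_vec, Fl.mul_vec] at e
    simp only [hN, mulVec_sub]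
    rw [e]
    have e3 : ∀ v : Idx k k → F, v + v + v = 0 := fun v => funext fun p => by
      simp only [Pi.add_apply, Pi.zero_apply]; linear_combination (v p) * h30
    linear_combination (norm := module) e3 (mat Q u *ᵥ x) - e3 (mat Q u *ᵥ (mat Q u *ᵥ x))
  have h4 : ∀ s t, finrank F (W s t) ≤ 4 := fun s t =>
    (finrank_range_le_card (R := F) fun p : Fin 2 × Fin 2 => ten (Φ.f (blk s t p).1) (Φ.f (blk s t p).2))
  have hzero : (W false false).map N = ⊥ := by
    rw [Submodule.map_span, Submodule.span_eq_bot]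
    rintro _ ⟨_, ⟨p, rfl⟩, rfl⟩
    exact hfix p
  have hrange : LinearMap.range N ≤ (W false true).map N ⊔ (W true false).map N ⊔ (W true true).map N := by
    rintro _ ⟨v, rfl⟩
    obtain ⟨cc, rfl⟩ := Φ.exists_v2 v
    rw [v2, map_sum]
    refine Submodule.sum_mem _ fun q _ => ?_
    rw [map_smul]
    refine Submodule.smul_mem _ _ ?_
    obtain ⟨s, t, p, rfl⟩ := blk_cover q
    have hm : N (ten (Φ.f (blk s t p).1) (Φ.f (blk s t p).2)) ∈ (W s t).map N :=
      Submodule.mem_map_of_mem (Submodule.subset_span ⟨p, rfl⟩)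
    cases s <;> cases t
    · rw [hzero] at hm
      rw [Submodule.mem_bot] at hm
      rw [hm]; exact Submodule.zero_mem _
    · exact Submodule.mem_sup_left (Submodule.mem_sup_left hm)
    · exact Submodule.mem_sup_left (Submodule.mem_sup_right hm)
    · exact Submodule.mem_sup_right hm
  have h6 : finrank F (LinearMap.range N) ≤ 6 := by
    refine (Submodule.finrank_mono hrange).trans ((Submodule.finrank_add_le_finrank_add_finrank _ _).trans ?_)
    have a1 := rank_le_two N (W false true) (hWN _ _) (fun x _ => hN3 x) (h4 _ _)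
    have a2 := rank_le_two N (W true false) (hWN _ _) (fun x _ => hN3 x) (h4 _ _)
    have a3 := rank_le_two N (W true true) (hWN _ _) (fun x _ => hN3 x) (h4 _ _)
    have := Submodule.finrank_add_le_finrank_add_finrank ((W false true).map N) ((W true false).map N)
    omega
  -- conjugate it into `Kr`
  have hc0 : Φ.v1 ![0, 0, 1, 1] ≠ 0 := fun h0 => by
    have := congrFun (Φ.v1_inj (h0.trans (show (0 : Fin k → F) = Φ.v1 0 by simp [v1]))) 2
    simp at this
  have hcc : B₂ (Φ.v1 ![0, 0, 1, 1]) (Φ.v1 ![0, 0, 1, 1]) = 0 := by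
    rw [Φ.form_v1, show bf ![0, 0, 1, 1] ![0, 0, 1, 1] = 0 by decide, map_zero, mul_zero]
  have hzc : B₂ (Φ.v1 ![1, 0, 0, 0]) (Φ.v1 ![0, 0, 1, 1]) = 0 := by
    rw [Φ.form_v1, show bf ![1, 0, 0, 0] ![0, 0, 1, 1] = 0 by decide, map_zero, mul_zero]
  have hzz := Φ.v1_aniso (w := ![1, 0, 0, 0]) (by decide)
  set r : ↥M := ⟨hF.rt hcc hzc, hG.rt_mem hcc hzc⟩
  have hrp : IsPGroup 3 (Subgroup.zpowers r) := by
    refine IsPGroup.of_card_dvd_pow (n := 1) ?_
    rw [Nat.card_zpowers, pow_one]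
    exact orderOf_dvd_of_pow_eq_one (Subtype.ext (by simpa using hF.rt_pow_char (p := 3) hcc hzc))
  obtain ⟨P, hP⟩ := hrp.exists_le_sylow
  have hPK : (P : Subgroup ↥M).map M.subtype ≤ Kr Q :=
    hG.pgroup_le_kr (Subgroup.map_subtype_le _) (P.isPGroup'.map _) hc0 hcc hzc hzz
      ⟨r, hP (Subgroup.mem_zpowers r), rfl⟩
  set u' : ↥M := ⟨u, hu⟩
  have hup : IsPGroup 3 (Subgroup.zpowers u') := by
    refine IsPGroup.of_card_dvd_pow (n := 1) ?_
    rw [Nat.card_zpowers, pow_one]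
    exact orderOf_dvd_of_pow_eq_one (Subtype.ext (by simpa [u'] using h3))
  obtain ⟨P', hP'⟩ := hup.exists_le_sylow
  obtain ⟨g, hg⟩ := MulAction.exists_smul_eq ↥M P' P
  have hmem : g * u' * g⁻¹ ∈ (P : Subgroup ↥M) := by
    rw [← hg, Sylow.coe_subgroup_smul, Subgroup.mem_pointwise_smul_iff_inv_smul_mem]
    simpa [MulAut.conj, mul_assoc] using hP' (Subgroup.mem_zpowers u')
  have hK : (g : Isom Q) * u * (g : Isom Q)⁻¹ ∈ Kr Q := hPK ⟨g * u' * g⁻¹, hmem, rfl⟩
  have h8 := hF.eight_le_rank hG.plane Φ.four hK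
    (by rw [conj_pow, h3, mul_one, mul_inv_cancel]) (fun h => hne (by
      have := congrArg (fun z => (g : Isom Q)⁻¹ * z * (g : Isom Q)) h
      simpa [mul_assoc] using this))
  have := (Fl.rank_conj (g : Isom Q) u).trans h6
  omega

end Frame

end CfsgLib.TWGap
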