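import Cfsg.Agent.TensorWreathOrth.Gap.Three.Elements

/-!
# Three elements: involutions of `Kr` centralising the frame involutions
-/

set_option autoImplicit false
set_option linter.unusedSectionVars false

namespace CfsgLib.TWGap

open Matrix Module CfsgLib.Spinor CfsgLib.OrthMax CfsgLib.TensorOrth
open CfsgLib.TensorMax (Idx ten)

namespace Three

/-- A map preserving both frame planes. -/
def blockA (p q r s a b c d : C) : Fin 4 → Fin 4 → C := ![![p, q, 0, 0], ![r, s, 0, 0], ![0, 0, a, b], ![0, 0, c, d]]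

/-- A reflection of the elliptic plane and signs on the hyperbolic one. -/
def revA (p q t t' : C) : Fin 4 → Fin 4 → C := ![![p, q, 0, 0], ![q, -p, 0, 0], ![0, 0, t, 0], ![0, 0, 0, t']]

theorem kron_smul (r : C) (A B : Fin 4 → Fin 4 → C) : kron (r • A) (r • B) = (r * r) • kron A B := by
  funext a b
  simp only [kron, Pi.smul_apply, smul_eq_mul]
  ring

theorem kron_right {A B B' : Fin 4 → Fin 4 → C} {i j : Fin 4} (hA : A i j ≠ 0)
    (h : kron A B = kron A B') : B = B' := by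
  funext l l'
  exact mul_left_cancel₀ hA (congrFun (congrFun h (i, l)) (j, l'))

theorem kron_left {A A' B : Fin 4 → Fin 4 → C} {i j : Fin 4} (hB : B i j ≠ 0)
    (h : kron A B = kron A' B) : A = A' := by
  funext l l'
  exact mul_right_cancel₀ hB (congrFun (congrFun h (l, i)) (l', j))

theorem mulA_one (A : Fin 4 → Fin 4 → C) : mulA A oneA = A ∧ mulA oneA A = A := by
  refine ⟨funext fun i => funext fun j => ?_, funext fun i => funext fun j => ?_⟩
  · rw [mulA, Finset.sum_eq_single i (fun b _ hb => by simp [oneA, e1, hb]) (by simp)]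
    simp [oneA, e1]
  · rw [mulA, Finset.sum_eq_single j (fun b _ hb => by simp [oneA, e1, Ne.symm hb]) (by simp)]
    simp [oneA, e1]

theorem exists_ne {A : Fin 4 → Fin 4 → C} {m : C} (hm : m ≠ 0) (h : ∀ i j, bf (A i) (A j) = m * bf (e1 i) (e1 j)) :
    ∃ i j, A i j ≠ 0 := by
  by_contra! h0
  have h1 := h 0 0
  rw [show A 0 = 0 from funext (h0 0), show bf (e1 0) (e1 0) = 1 by decide, mul_one] at h1
  exact hm (h1.symm.trans (by simp [bf]))

/-- A map commuting with the sign of the planes preserves both. -/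
theorem block_of_comm {A : Fin 4 → Fin 4 → C}
    (h : mulA A (diagA ![-1, -1, 1, 1]) = mulA (diagA ![-1, -1, 1, 1]) A) :
    A = blockA (A 0 0) (A 0 1) (A 1 0) (A 1 1) (A 2 2) (A 2 3) (A 3 2) (A 3 3) := by
  have hd : ∀ i j : Fin 4, mulA A (diagA ![-1, -1, 1, 1]) i j = (![-1, -1, 1, 1] : Fin 4 → C) i * A i j ∧
      mulA (diagA ![-1, -1, 1, 1]) A i j = A i j * (![-1, -1, 1, 1] : Fin 4 → C) j := fun i j => by
    refine ⟨?_, ?_⟩
    · rw [mulA, Finset.sum_eq_single i (fun b _ hb => by simp [diagA, hb]) (by simp)]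
      simp [diagA]
    · rw [mulA, Finset.sum_eq_single j (fun b _ hb => by simp [diagA, Ne.symm hb]) (by simp)]
      simp [diagA]
  have h0 : ∀ i j : Fin 4, (![-1, -1, 1, 1] : Fin 4 → C) i ≠ (![-1, -1, 1, 1] : Fin 4 → C) j → A i j = 0 := by
    intro i j hij
    have h1 := congrFun (congrFun h i) j
    rw [(hd i j).1, (hd i j).2, mul_comm (A i j)] at h1
    exact (mul_eq_zero.1 (show ((![-1, -1, 1, 1] : Fin 4 → C) i - (![-1, -1, 1, 1] : Fin 4 → C) j) * A i j = 0 by
      rw [sub_mul, h1, sub_self])).resolve_left (sub_ne_zero.2 hij)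
  funext i j
  fin_cases i <;> fin_cases j <;> first | rfl | exact h0 _ _ (by decide)

theorem form_block {p q r s a b c d m : C}
    (h : ∀ i j, bf (blockA p q r s a b c d i) (blockA p q r s a b c d j) = m * bf (e1 i) (e1 j)) :
    p * p + q * q = m ∧ a * a - b * b = m ∧ a * c - b * d = 0 ∧ c * c - d * d = -m := by
  refine ⟨?_, ?_, ?_, ?_⟩
  · simpa [bf, blockA, e1, eps, Fin.sum_univ_four] using h 0 0
  · simpa [bf, blockA, e1, eps, Fin.sum_univ_four, sub_eq_add_neg] using h 2 2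
  · simpa [bf, blockA, e1, eps, Fin.sum_univ_four, sub_eq_add_neg] using h 2 3
  · simpa [bf, blockA, e1, eps, Fin.sum_univ_four, sub_eq_add_neg] using h 3 3

/-- Linear maps of the elliptic plane with scalar square. -/
theorem linear_key : ∀ p q m : C, p * p + q * q = m → m ≠ 0 → p * q + q * p = 0 →
    m = 1 ∧ ((q = 0 ∧ p ≠ 0) ∨ (p = 0 ∧ q ≠ 0)) := by decide

/-- Isometries of the hyperbolic plane. -/
theorem hyp_key : ∀ a b c d : C, a * a - b * b = 1 → a * c - b * d = 0 → c * c - d * d = -1 →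
    b = 0 ∧ c = 0 ∧ a ≠ 0 ∧ d ≠ 0 := by decide

theorem q_key : ∀ p q a : C, p * p - q * q = a * a → a ≠ 0 → ((q = 0 ∧ p ≠ 0) ∨ (p = 0 ∧ q ≠ 0)) → q = 0 := by
  decide

end Three

variable {F : Type*} [Field F] [Fintype F] {k : ℕ} {Q : QuadraticForm F (Idx k k → F)}
  {B₁ B₂ : LinearMap.BilinForm F (Fin k → F)} {J : Isom Q} {M : Subgroup (Isom Q)}

namespace Frame

open Three

variable [CharP F 3] {hF : Fl Q B₁ B₂ J} (Φ : Frame hF)

theorem comm_right {h g : Isom Q} {A B D : Fin 4 → Fin 4 → C} (hh : Φ.Act h (kron A B))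
    (hg : Φ.Act g (kron oneA D)) (hA : ∃ i j, A i j ≠ 0) (hc : h * g = g * h) : mulA B D = mulA D B := by
  obtain ⟨i, j, hij⟩ := hA
  have h1 := Act.mul Φ hh hg
  rw [hc] at h1
  have h2 := Act.unique Φ h1 (Act.mul Φ hg hh)
  rw [(mulA_one A).1, (mulA_one A).2] at h2
  exact kron_right hij h2

theorem comm_left {h g : Isom Q} {A B D : Fin 4 → Fin 4 → C} (hh : Φ.Act h (kron A B))
    (hg : Φ.Act g (kron D oneA)) (hB : ∃ i j, B i j ≠ 0) (hc : h * g = g * h) : mulA A D = mulA D A := by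
  obtain ⟨i, j, hij⟩ := hB
  have h1 := Act.mul Φ hh hg
  rw [hc] at h1
  have h2 := Act.unique Φ h1 (Act.mul Φ hg hh)
  rw [(mulA_one B).1, (mulA_one B).2] at h2
  exact kron_left hij h2

/-- Squares of the factors of an involution. -/
theorem square_eq {h : Isom Q} {A B : Fin 4 → Fin 4 → C} (hh : Φ.Act h (kron A B)) (h2 : h * h = 1) (a b : Pos) :
    mulA A A a.1 b.1 * mulA B B a.2 b.2 = oneA a.1 b.1 * oneA a.2 b.2 := by
  have h1 := Act.mul Φ hh hh
  rw [h2] at h1
  exact congrFun (congrFun (Act.unique Φ h1 Φ.act_one) a) b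

theorem act_rhoR_inv : Φ.Act Φ.rhoR⁻¹ (kron oneA ![![0, -1, 0, 0], ![1, 0, 0, 0], ![0, 0, 1, 0], ![0, 0, 0, 1]]) := by
  rw [show Φ.rhoR⁻¹ = Φ.RR (e1 0) (e1 0 + e1 1) by
    rw [rhoR, RR, _root_.mul_inv_rev, hF.aset.R_inv, hF.aset.R_inv]; rfl]
  exact Φ.act_RR (by decide) (by decide) (by decide)

/-- An involution commuting with `aR` and the right rotation. -/
theorem invol_linear {h : Isom Q} (hh : h ∈ Kr Q) (h2 : h * h = 1) (ha : h * Φ.aR = Φ.aR * h)
    (hr : h * Φ.rhoR = Φ.rhoR * h) : ∃ (A : Fin 4 → Fin 4 → C) (t t' : C), t ≠ 0 ∧ t' ≠ 0 ∧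
      Φ.Act h (kron A (diagA ![1, 1, t, t'])) ∧ mulA A A = oneA ∧
      ∀ i j, bf (A i) (A j) = bf (e1 i) (e1 j) := by
  obtain ⟨A, B, m, hm, hact, hA, hB⟩ := Φ.kr_arrays hh
  have hblock := block_of_comm (Φ.comm_right hact Φ.act_aR (exists_ne hm hA) ha)
  have hrot := Φ.comm_right hact Φ.act_rhoR (exists_ne hm hA) hr
  generalize hp : B 0 0 = p at hblock
  generalize hq : B 0 1 = q at hblock
  generalize B 1 0 = r, B 1 1 = s, B 2 2 = a, B 2 3 = b, B 3 2 = c, B 3 3 = d at hblock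
  subst hblock
  obtain ⟨hform, f1, f2, f3⟩ := form_block hB
  have hs : s = p := by
    have := congrFun (congrFun hrot 0) 1
    simpa [mulA, blockA, rhoA, Fin.sum_univ_four] using this
  have hr' : r = -q := by
    have := congrFun (congrFun hrot 0) 0
    simpa [mulA, blockA, rhoA, Fin.sum_univ_four, neg_eq_iff_eq_neg, eq_comm] using this
  subst hs hr'
  obtain ⟨i, j, hij⟩ : ∃ i j, mulA A A i j ≠ 0 := by
    by_contra! h0
    have := Φ.square_eq hact h2 (0, 0) (0, 0)
    rw [h0] at this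
    simp [oneA, e1] at this
  have hpq : s * q + q * s = 0 := by
    have := Φ.square_eq hact h2 (i, 0) (j, 1)
    simp [mulA, blockA, oneA, e1, Fin.sum_univ_four] at this
    rcases this with h0 | h0
    · exact absurd (by simpa [mulA, Fin.sum_univ_four] using h0) hij
    · linear_combination h0
  obtain ⟨rfl, hcase⟩ := linear_key _ _ _ hform hm hpq
  obtain ⟨rfl, rfl, ha0, hd0⟩ := hyp_key _ _ _ _ f1 f2 f3
  have hq0 : q = 0 := q_key s q a (by
    have e1' := Φ.square_eq hact h2 (i, 0) (j, 0)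
    have e2' := Φ.square_eq hact h2 (i, 2) (j, 2)
    have := mul_left_cancel₀ hij ((e1'.trans (show oneA i j * oneA 0 0 = oneA i j * oneA 2 2 by
      simp [oneA, e1])).trans e2'.symm)
    simp [mulA, blockA, Fin.sum_univ_four] at this
    linear_combination this) ha0 hcase
  subst hq0
  have hs0 : s ≠ 0 := by rcases hcase with ⟨-, h0⟩ | ⟨-, h0⟩; exacts [h0, absurd rfl h0]
  have hB1 : s • blockA s 0 (-0) s a 0 0 d = diagA ![1, 1, s * a, s * d] := by
    funext i j
    fin_cases i <;> fin_cases j <;> simp [blockA, diagA, sq_of_ne s hs0]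
  refine ⟨s • A, s * a, s * d, mul_ne_zero hs0 ha0, mul_ne_zero hs0 hd0,
    hact.congr Φ (by rw [← hB1, kron_smul, sq_of_ne s hs0, one_smul]), ?_, fun i j => ?_⟩
  · funext i j
    have h1 := Φ.square_eq hact h2 (i, 0) (j, 0)
    have h3 : mulA (blockA s 0 (-0) s a 0 0 d) (blockA s 0 (-0) s a 0 0 d) 0 0 = 1 := by
      simp [mulA, blockA, Fin.sum_univ_four, sq_of_ne s hs0]
    rw [h3, mul_one, show oneA (0 : Fin 4) 0 = 1 from rfl, mul_one] at h1
    rw [← h1]
    simp only [mulA, Pi.smul_apply, smul_eq_mul]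
    refine Finset.sum_congr rfl fun l _ => ?_
    linear_combination (A i l * A l j) * sq_of_ne s hs0
  · rw [← one_mul (bf (e1 i) (e1 j)), ← hA]
    simp only [bf, Pi.smul_apply, smul_eq_mul]
    refine Finset.sum_congr rfl fun l _ => ?_
    linear_combination (eps l * A i l * A j l) * sq_of_ne s hs0

/-- An involution commuting with both sign elements and the left rotation and inverting the right one. -/
theorem invol_reverse {h : Isom Q} (hh : h ∈ Kr Q) (h2 : h * h = 1) (ha : h * Φ.aR = Φ.aR * h)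
    (hb : h * Φ.bL = Φ.bL * h) (hl : h * Φ.rhoL = Φ.rhoL * h) (hr : h * Φ.rhoR = Φ.rhoR⁻¹ * h) :
    ∃ p q t t' s s' : C, p * p + q * q = 1 ∧ t ≠ 0 ∧ t' ≠ 0 ∧ s ≠ 0 ∧ s' ≠ 0 ∧
      Φ.Act h (kron (diagA ![1, 1, s, s']) (revA p q t t')) := by
  have hh' : J * h * J ∈ Kr Q := hF.conj_kr.2 hh
  have h2' : J * h * J * (J * h * J) = 1 := by rw [hF.conj_mul, h2, mul_one, hF.J_sq]
  have hrR : Φ.rhoR = J * Φ.rhoL * J := (Φ.act_ext (Φ.act_flip Φ.act_rhoL) Φ.act_rhoR).symm
  -- the left factor, through the flip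
  obtain ⟨A', s, s', hs, hs', hactf, hA2, hAiso⟩ := Φ.invol_linear hh' h2'
    (by rw [← Φ.flip_bL, hF.conj_mul, hF.conj_mul, hb]) (by rw [hrR, hF.conj_mul, hF.conj_mul, hl])
  have hact : Φ.Act h (kron (diagA ![1, 1, s, s']) A') := by
    have := Φ.act_flip hactf
    rwa [hF.conj_conj] at this
  have hAne : ∃ i j, diagA ![1, 1, s, s'] i j ≠ (0 : C) := ⟨0, 0, by simp [diagA]⟩
  have hblock := block_of_comm (Φ.comm_right hact Φ.act_aR hAne ha)
  have hrot : mulA A' rhoA = mulA ![![0, -1, 0, 0], ![1, 0, 0, 0], ![0, 0, 1, 0], ![0, 0, 0, 1]] A' := by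
    obtain ⟨i, j, hij⟩ := hAne
    have h1 := Act.mul Φ hact Φ.act_rhoR
    rw [hr] at h1
    have h3 := Act.unique Φ h1 (Act.mul Φ Φ.act_rhoR_inv hact)
    rw [(mulA_one _).1, (mulA_one _).2] at h3
    exact kron_right hij h3
  generalize A' 0 0 = p, A' 0 1 = q, A' 1 0 = r, A' 1 1 = u, A' 2 2 = a, A' 2 3 = b, A' 3 2 = c, A' 3 3 = d
    at hblock
  subst hblock
  obtain ⟨hpq, f1, f2, f3⟩ := form_block (m := 1) fun i j => by rw [one_mul]; exact hAiso i j
  obtain ⟨rfl, rfl, ha0, hd0⟩ := hyp_key _ _ _ _ f1 f2 f3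
  have hu : u = -p := by
    have := congrFun (congrFun hrot 0) 1
    simpa [mulA, blockA, rhoA, Fin.sum_univ_four] using this
  have hr' : r = q := by
    have := congrFun (congrFun hrot 0) 0
    simpa [mulA, blockA, rhoA, Fin.sum_univ_four] using this
  subst hu hr'
  exact ⟨p, r, a, d, s, s', hpq, ha0, hd0, hs, hs', hact⟩

end Frame

end CfsgLib.TWGap
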