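import Cfsg.Agent.TensorWreathOrth.Gap.Three.Rigid

/-!
# Three elements: elements of the stabiliser by arrays; the turn
-/

set_option autoImplicit false
set_option linter.unusedSectionVars false

namespace CfsgLib.TWGap

open Matrix Module CfsgLib.Spinor CfsgLib.OrthMax CfsgLib.TensorOrth
open CfsgLib.TensorMax (Idx ten ten_add_left ten_add_right ten_smul_left ten_smul_right ten_eq_zero)

variable {F : Type*} [Field F] [Fintype F] {k : ℕ} {Q : QuadraticForm F (Idx k k → F)}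
  {B₁ B₂ : LinearMap.BilinForm F (Fin k → F)} {J : Isom Q} {M : Subgroup (Isom Q)}

namespace Frame

open Three

variable [CharP F 3] {hF : Fl Q B₁ B₂ J} (Φ : Frame hF)

/-- An element given by reflections. -/
theorem exists_act (ws : List (Pos → C)) (hws : ∀ w ∈ ws, bf₂ w w ≠ 0) :
    ∃ g : Isom Q, Φ.Act g fun a => ws.foldr rf₂ (e2 a) := by
  induction ws with
  | nil =>
    refine ⟨1, fun a => ?_⟩
    rw [show mat Q (1 : Isom Q) = 1 from mat_one Q, one_mulVec]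
    exact (Φ.v2_e2 a).symm
  | cons w l ih =>
    obtain ⟨g, hg⟩ := ih fun v hv => hws v (List.mem_cons_of_mem _ hv)
    have hw := hws w List.mem_cons_self
    have hQ : Q (Φ.v2 w) ≠ 0 := by
      rw [Φ.quad_v2]
      exact mul_ne_zero (div_ne_zero Φ.κ_ne hF.aset.two) fun h => hw (cst_inj (by rw [h, map_zero]))
    refine ⟨reflIso Q (Φ.v2 w) hQ * g, fun a => ?_⟩
    rw [Fl.mul_vec, hg]
    exact Φ.refl_v2 hw _

/-- An element whose arrays form a product lies in `Kr`. -/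
theorem kr_of_act {g : Isom Q} {A B : Fin 4 → Fin 4 → C} (hg : Φ.Act g (kron A B)) : g ∈ Kr Q := by
  have hli : LinearIndependent F Φ.f := LinearMap.BilinForm.linearIndependent_of_iIsOrtho (B := B₂)
    (fun i j hij => Φ.orth i j hij) (fun i => Φ.f_ne i)
  let b : Basis (Fin 4) F (Fin k → F) := Basis.mk hli (le_of_eq Φ.span_top.symm)
  let lin : (Fin 4 → Fin 4 → C) → (Fin k → F) →ₗ[F] (Fin k → F) := fun A => b.constr F fun i => Φ.v1 (A i)
  have hlin : ∀ A i, lin A (Φ.f i) = Φ.v1 (A i) := fun A i => by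
    rw [show Φ.f i = b i from (Basis.mk_apply hli _ i).symm, Basis.constr_basis]
  refine hF.aset.tset.mem_Kr_of_ten hF.kpos hF.kpos (lin A) (lin B) fun x y => ?_
  obtain ⟨c, rfl⟩ := Φ.exists_v1 x
  obtain ⟨d, rfl⟩ := Φ.exists_v1 y
  have happ : ∀ A c, lin A (Φ.v1 c) = Φ.v1 (appA A c) := fun A c => by
    rw [v1, map_sum]
    simp only [map_smul, hlin, v1, appA, map_sum, map_mul, Finset.sum_smul, Finset.smul_sum, smul_smul]
    rw [Finset.sum_comm]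
  rw [happ, happ, Φ.ten_v1, Φ.ten_v1, Act.app Φ hg]
  congr 1
  funext b
  rw [Fintype.sum_prod_type]
  simp only [kron, appA, Finset.sum_mul_sum]
  exact Finset.sum_congr rfl fun i _ => Finset.sum_congr rfl fun j _ => by ring

/-- The flipped arrays. -/
theorem act_flip {g : Isom Q} {A B : Fin 4 → Fin 4 → C} (hg : Φ.Act g (kron A B)) :
    Φ.Act (J * g * J) (kron B A) := fun a => by
  have hJ : ∀ x : Pos → C, mat Q J *ᵥ Φ.v2 x = Φ.v2 fun b => x (b.2, b.1) := fun x => by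
    rw [v2, mulVec_sum]
    simp only [mulVec_smul, hF.flip]
    exact Fintype.sum_equiv (Equiv.prodComm _ _) _ _ fun b => rfl
  rw [hF.conj_ten, show ten (Φ.f a.2) (Φ.f a.1) = ten (Φ.f (a.2, a.1).1) (Φ.f (a.2, a.1).2) from rfl, hg, hJ]
  congr 1
  funext b
  simp only [kron]
  ring

theorem flip_aR : J * Φ.aR * J = Φ.bL :=
  Φ.act_ext (Φ.act_flip Φ.act_aR) Φ.act_bL

theorem flip_bL : J * Φ.bL * J = Φ.aR :=
  Φ.act_ext (Φ.act_flip Φ.act_bL) Φ.act_aR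

theorem conj_rhoL (hG : GCtx hF M) {y : Isom Q} (hy : y ∈ M) (hb : y * Φ.bL = Φ.bL * y) :
    y * Φ.rhoL * y⁻¹ = Φ.rhoL ∨ y * Φ.rhoL * y⁻¹ = Φ.rhoL⁻¹ := by
  have hr : Φ.rhoL = J * Φ.rhoR * J := (Φ.act_ext (Φ.act_flip Φ.act_rhoR) Φ.act_rhoL).symm
  have hJi : ∀ g : Isom Q, (J * g * J)⁻¹ = J * g⁻¹ * J := fun g => by
    rw [_root_.mul_inv_rev, _root_.mul_inv_rev, hF.J_inv, mul_assoc]
  have e : y * Φ.rhoL * y⁻¹ = J * ((J * y * J) * Φ.rhoR * (J * y * J)⁻¹) * J := by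
    rw [hr, hJi, ← hF.conj_mul, ← hF.conj_mul, hF.conj_conj, hF.conj_conj]
  have ha : J * y * J * Φ.aR = Φ.aR * (J * y * J) := by
    rw [← Φ.flip_bL, hF.conj_mul, hF.conj_mul, hb]
  rcases Φ.conj_rhoR hG.flip (hG.flip_mem hy) ha with h | h
  · exact Or.inl (by rw [e, h, ← hr])
  · exact Or.inr (by rw [e, h, ← hJi, ← hr])

/-- The factors of an element of `Kr`, as arrays. -/
theorem kr_arrays {h : Isom Q} (hh : h ∈ Kr Q) : ∃ (A B : Fin 4 → Fin 4 → C) (m : C), m ≠ 0 ∧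
    Φ.Act h (kron A B) ∧ (∀ i j, bf (A i) (A j) = m * bf (e1 i) (e1 j)) ∧
    ∀ i j, bf (B i) (B j) = m * bf (e1 i) (e1 j) := by
  obtain ⟨S, T, μ, hμ, hv, hS, hT⟩ := hF.kr_sim hh
  obtain ⟨A, hA⟩ := Φ.exists_mp (S : Matrix (Fin k) (Fin k) F)
  obtain ⟨B, hB⟩ := Φ.exists_mp (T : Matrix (Fin k) (Fin k) F)
  obtain ⟨m, hm, hmA⟩ := Mp.bf_eq Φ hA hS
  obtain ⟨m', hm', hmB⟩ := Mp.bf_eq Φ hB hT
  have hm0 : m ≠ 0 := fun h0 => inv_ne_zero hμ (by rw [← hm, h0, map_zero])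
  have : m' = m := cst_inj (F := F) (by rw [hm, hm', inv_eq_of_mul_eq_one_right (Φ.sq_one hμ)])
  subst this
  exact ⟨A, B, m', hm0, Φ.act_kron hv hA hB, hmA, hmB⟩

/-- The reflection vectors of the turn. -/
def turnW : List (Pos → C) :=
  [fun b => e2 (0, 0) b + e2 (1, 1) b, fun b => e2 (0, 0) b + e2 (0, 1) b + e2 (1, 0) b - e2 (1, 1) b,
   fun b => e2 (2, 2) b - e2 (3, 3) b, fun b => e2 (2, 3) b + e2 (3, 2) b,
   fun b => e2 (0, 2) b - e2 (0, 3) b - e2 (1, 3) b, fun b => e2 (1, 2) b - e2 (0, 3) b + e2 (1, 3) b,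
   fun b => e2 (2, 0) b - e2 (3, 0) b - e2 (3, 1) b, fun b => e2 (2, 1) b - e2 (3, 0) b + e2 (3, 1) b]

theorem turnW_values : (turnW.map fun w => bf₂ w w) = [-1, 1, -1, 1, -1, -1, -1, -1] := by decide +kernel

theorem turnW_aniso : ∀ w ∈ turnW, bf₂ w w ≠ 0 := fun w hw h => by
  have := List.mem_map_of_mem (f := fun w => bf₂ w w) hw
  rw [turnW_values, h] at this
  revert this
  decide

theorem turnW_fold : ∀ a, turnW.foldr rf₂ (e2 a) = kron turnA turnA a := by decide +kernel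

/-- **The turn** lies in `M` and commutes with both involutions. -/
theorem exists_turn (hG : GCtx hF M) : ∃ n : Isom Q, n ∈ M ∧ n ∈ Kr Q ∧ n * n = 1 ∧
    Φ.Act n (kron turnA turnA) ∧ n * Φ.aR = Φ.aR * n ∧ n * Φ.bL = Φ.bL * n := by
  obtain ⟨n, hn⟩ := Φ.exists_act turnW turnW_aniso
  have hn' : Φ.Act n (kron turnA turnA) := hn.congr Φ (funext turnW_fold)
  have hK := Φ.kr_of_act hn'
  have hΩ : n ∈ Cfsg.Omega F ⇑Q :=
    (Φ.omega_iff hn turnW turnW_aniso ⟨4, rfl⟩ fun _ => rfl).2 (by rw [turnW_values]; decide)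
  refine ⟨n, hG.mem_kr hΩ hK, hK, Φ.act_ext ((Act.mul Φ hn' hn').congr Φ
    (show _ = kron oneA oneA by decide +kernel)) Φ.act_one, hn', ?_, ?_⟩
  · exact Φ.act_ext (Act.mul Φ hn' Φ.act_aR) ((Act.mul Φ Φ.act_aR hn').congr Φ (by decide +kernel))
  · exact Φ.act_ext (Act.mul Φ hn' Φ.act_bL) ((Act.mul Φ Φ.act_bL hn').congr Φ (by decide +kernel))

end Frame

end CfsgLib.TWGap
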