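import Cfsg.Agent.TensorWreathOrth.Gap.Setup
import Cfsg.Agent.TensorWreathOrth.Gap.Three.Arr
import Cfsg.Agent.TensorOrthSlice.Membership
import Mathlib.Algebra.CharP.Basic

/-!
# Frames of a four-dimensional factor over three elements, and computation with arrays
-/

set_option autoImplicit false
set_option linter.unusedSectionVars false

namespace CfsgLib.TWGap

open Matrix Module CfsgLib.Spinor CfsgLib.OrthMax CfsgLib.TensorOrth
open CfsgLib.TensorMax (Idx ten ten_add_left ten_add_right ten_smul_left ten_smul_right ten_eq_zero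
  ten_inj_left ten_inj_right)
open CfsgLib.TensorUnitary (ten_induction)

variable {F : Type*} [Field F] [Fintype F] {k : ℕ} {Q : QuadraticForm F (Idx k k → F)}
  {B₁ B₂ : LinearMap.BilinForm F (Fin k → F)} {J : Isom Q} {M : Subgroup (Isom Q)}

/-- An orthogonal frame with values `u, u, u, -u` over three elements. -/
structure Frame (hF : Fl Q B₁ B₂ J) where
  four : k = 4
  card : Fintype.card F = 3
  f : Fin 4 → Fin k → F
  u : F
  κ : F
  u_ne : u ≠ 0
  κ_ne : κ ≠ 0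
  prop : ∀ x y, B₁ x y = κ * B₂ x y
  val : ∀ i, B₂ (f i) (f i) = (![u, u, u, -u] : Fin 4 → F) i
  orth : ∀ i j, i ≠ j → B₂ (f i) (f j) = 0

namespace Frame

open Three

variable [CharP F 3] {hF : Fl Q B₁ B₂ J} (Φ : Frame hF)

/-- The scalars. -/
def cst (F : Type*) [Field F] [CharP F 3] : C →+* F := ZMod.castHom (dvd_refl 3) F

theorem cst_inj : Function.Injective (cst F) := (cst F).injective

include Φ in
theorem cst_surj : Function.Surjective (cst F) :=
  ((Fintype.bijective_iff_injective_and_card _).2 ⟨cst_inj, by rw [Φ.card, ZMod.card]⟩).2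

include Φ in
theorem sq_one {a : F} (ha : a ≠ 0) : a * a = 1 := by
  obtain ⟨c, rfl⟩ := Φ.cst_surj a
  rw [← map_mul, sq_of_ne c (fun h => ha (by rw [h, map_zero])), map_one]

theorem u_sq : Φ.u * Φ.u = 1 := Φ.sq_one Φ.u_ne

theorem val_eps (i : Fin 4) : B₂ (Φ.f i) (Φ.f i) = Φ.u * cst F (eps i) := by
  rw [Φ.val]
  fin_cases i <;> simp [eps]

theorem f_ne (i : Fin 4) : B₂ (Φ.f i) (Φ.f i) ≠ 0 := by
  rw [Φ.val]
  fin_cases i <;> simp [Φ.u_ne]

/-- The vector of an array. -/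
noncomputable def v1 (x : Fin 4 → C) : Fin k → F := ∑ i, cst F (x i) • Φ.f i

/-- The vector of an array of the square. -/
noncomputable def v2 (x : Pos → C) : Idx k k → F := ∑ a, cst F (x a) • ten (Φ.f a.1) (Φ.f a.2)

theorem v1_add (x y : Fin 4 → C) : Φ.v1 (x + y) = Φ.v1 x + Φ.v1 y := by
  simp only [v1, Pi.add_apply, map_add, add_smul, Finset.sum_add_distrib]

theorem v1_smul (r : C) (x : Fin 4 → C) : Φ.v1 (r • x) = cst F r • Φ.v1 x := by
  simp only [v1, Pi.smul_apply, smul_eq_mul, map_mul, Finset.smul_sum, smul_smul]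

theorem v2_smul (r : C) (x : Pos → C) : Φ.v2 (r • x) = cst F r • Φ.v2 x := by
  simp only [v2, Pi.smul_apply, smul_eq_mul, map_mul, Finset.smul_sum, smul_smul]

theorem v2_add (x y : Pos → C) : Φ.v2 (x + y) = Φ.v2 x + Φ.v2 y := by
  simp only [v2, Pi.add_apply, map_add, add_smul, Finset.sum_add_distrib]

theorem v1_e1 (i : Fin 4) : Φ.v1 (e1 i) = Φ.f i := by
  rw [v1, Finset.sum_eq_single i (fun j _ hj => by simp [e1, hj]) (by simp)]
  simp [e1]

theorem v2_e2 (a : Pos) : Φ.v2 (e2 a) = ten (Φ.f a.1) (Φ.f a.2) := by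
  rw [v2, Finset.sum_eq_single a (fun j _ hj => by simp [e2, hj]) (by simp)]
  simp [e2]

theorem form_v1 (x y : Fin 4 → C) : B₂ (Φ.v1 x) (Φ.v1 y) = Φ.u * cst F (bf x y) := by
  simp only [v1, map_sum, LinearMap.sum_apply, map_smul, LinearMap.smul_apply, smul_eq_mul, bf, Finset.mul_sum]
  refine Finset.sum_congr rfl fun i _ => ?_
  rw [Finset.sum_eq_single i (fun j _ hj => by rw [Φ.orth j i hj]; ring) (by simp), Φ.val_eps, map_mul, map_mul]
  ring

theorem ten_v1 (x y : Fin 4 → C) : ten (Φ.v1 x) (Φ.v1 y) = Φ.v2 fun a => x a.1 * y a.2 := by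
  have hl : ∀ (w : Fin k → F), ten (Φ.v1 x) w = ∑ i, cst F (x i) • ten (Φ.f i) w := fun w => by
    rw [v1, ← CfsgLib.TensorOrth.tenB_apply, map_sum, LinearMap.sum_apply]
    simp [map_smul]
  rw [hl, v2, Fintype.sum_prod_type]
  refine Finset.sum_congr rfl fun i _ => ?_
  rw [v1, ← CfsgLib.TensorOrth.tenB_apply, map_sum, Finset.smul_sum]
  refine Finset.sum_congr rfl fun j _ => ?_
  rw [map_smul, smul_smul, map_mul]
  rfl

/-- The frame spans the factor. -/
theorem span_top : Submodule.span F (Set.range Φ.f) = ⊤ := by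
  have hli : LinearIndependent F Φ.f := LinearMap.BilinForm.linearIndependent_of_iIsOrtho (B := B₂)
    (fun i j hij => Φ.orth i j hij) (fun i => Φ.f_ne i)
  exact hli.span_eq_top_of_card_eq_finrank' (by rw [Module.finrank_fin_fun, Fintype.card_fin, Φ.four])

theorem exists_v1 (x : Fin k → F) : ∃ c, Φ.v1 c = x := by
  have h : x ∈ Submodule.span F (Set.range Φ.f) := by rw [Φ.span_top]; trivial
  obtain ⟨c, rfl⟩ := (Submodule.mem_span_range_iff_exists_fun F).1 h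
  choose d hd using fun i => Φ.cst_surj (c i)
  exact ⟨d, by simp only [v1, hd]⟩

theorem exists_v2 (v : Idx k k → F) : ∃ c, Φ.v2 c = v := by
  induction v using ten_induction with
  | hadd a b ha hb =>
    obtain ⟨c, rfl⟩ := ha
    obtain ⟨d, rfl⟩ := hb
    exact ⟨c + d, Φ.v2_add c d⟩
  | h0 => exact ⟨0, by simp [v2]⟩
  | h x y =>
    obtain ⟨c, rfl⟩ := Φ.exists_v1 x
    obtain ⟨d, rfl⟩ := Φ.exists_v1 y
    exact ⟨_, (Φ.ten_v1 c d).symm⟩

theorem polar_v2 (x y : Pos → C) :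
    QuadraticMap.polar (⇑Q) (Φ.v2 x) (Φ.v2 y) = Φ.κ * cst F (bf₂ x y) := by
  rw [← QuadraticMap.polarBilin_apply_apply]
  simp only [v2, map_sum, LinearMap.sum_apply, map_smul, LinearMap.smul_apply, smul_eq_mul, bf₂, Finset.mul_sum]
  refine Finset.sum_congr rfl fun a _ => ?_
  rw [Finset.sum_eq_single a (fun b _ hb => ?_) (by simp), QuadraticMap.polarBilin_apply_apply,
    hF.aset.tset.polar, Φ.prop, Φ.val_eps, Φ.val_eps, map_mul, map_mul, map_mul]
  · linear_combination (Φ.κ * cst F (eps a.1) * cst F (eps a.2) * cst F (x a) * cst F (y a)) * Φ.u_sq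
  · rw [QuadraticMap.polarBilin_apply_apply, hF.aset.tset.polar, Φ.prop]
    rcases eq_or_ne b.1 a.1 with h1 | h1
    · rw [Φ.orth b.2 a.2 fun h2 => hb (Prod.ext h1 h2)]; ring
    · rw [Φ.orth b.1 a.1 h1]; ring

theorem quad_v2 (x : Pos → C) : Q (Φ.v2 x) = Φ.κ / 2 * cst F (bf₂ x x) := by
  have h := Φ.polar_v2 x x
  rw [polar_self'] at h
  have := hF.aset.two
  field_simp
  linear_combination h

theorem v2_inj : Function.Injective Φ.v2 := fun x y h => funext fun a => by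
  have h1 : ∀ z : Pos → C, bf₂ (e2 a) z = eps a.1 * eps a.2 * z a := fun z => by
    rw [bf₂, Finset.sum_eq_single a (fun b _ hb => by simp [e2, hb]) (by simp)]; simp [e2]
  have h2 : ∀ a : Pos, eps a.1 * eps a.2 ≠ 0 := by decide
  have h3 := Φ.polar_v2 (e2 a) x
  rw [h, Φ.polar_v2, h1, h1] at h3
  exact (mul_left_cancel₀ (h2 a) (cst_inj (mul_left_cancel₀ Φ.κ_ne h3))).symm

theorem v1_inj : Function.Injective Φ.v1 := fun x y h => funext fun i => by
  have h1 : ∀ z : Fin 4 → C, bf (e1 i) z = eps i * z i := fun z => by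
    rw [bf, Finset.sum_eq_single i (fun b _ hb => by simp [e1, hb]) (by simp)]; simp [e1]
  have h2 : ∀ i, eps i ≠ 0 := by decide
  have h3 := Φ.form_v1 (e1 i) x
  rw [h, Φ.form_v1, h1, h1] at h3
  exact (mul_left_cancel₀ (h2 i) (cst_inj (mul_left_cancel₀ Φ.u_ne h3))).symm

/-! ### Maps of the factor and of the square, given by arrays -/

/-- The array of a map of the factor. -/
def Mp (T : Matrix (Fin k) (Fin k) F) (A : Fin 4 → Fin 4 → C) : Prop := ∀ i, T *ᵥ Φ.f i = Φ.v1 (A i)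

/-- The array of a map of the square. -/
def Act (g : Isom Q) (T : Pos → Pos → C) : Prop := ∀ a, mat Q g *ᵥ ten (Φ.f a.1) (Φ.f a.2) = Φ.v2 (T a)

theorem Mp.app {T : Matrix (Fin k) (Fin k) F} {A : Fin 4 → Fin 4 → C} (h : Φ.Mp T A) (x : Fin 4 → C) :
    T *ᵥ Φ.v1 x = Φ.v1 (appA A x) := by
  rw [v1, mulVec_sum]
  simp only [mulVec_smul, h _, v1, appA, map_sum, map_mul, Finset.sum_smul, Finset.smul_sum, smul_smul]
  rw [Finset.sum_comm]

theorem exists_mp (T : Matrix (Fin k) (Fin k) F) : ∃ A, Φ.Mp T A :=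
  ⟨fun i => (Φ.exists_v1 (T *ᵥ Φ.f i)).choose, fun _ => ((Φ.exists_v1 _).choose_spec).symm⟩

theorem Mp.bf_eq {T : Matrix (Fin k) (Fin k) F} {A : Fin 4 → Fin 4 → C} (h : Φ.Mp T A) {μ : F}
    (hT : ∀ x y, B₂ (T *ᵥ x) (T *ᵥ y) = μ * B₂ x y) :
    ∃ m : C, cst F m = μ ∧ ∀ i j, bf (A i) (A j) = m * bf (e1 i) (e1 j) := by
  obtain ⟨m, rfl⟩ := Φ.cst_surj μ
  refine ⟨m, rfl, fun i j => cst_inj (mul_left_cancel₀ Φ.u_ne ?_)⟩
  rw [← Φ.form_v1, ← h, ← h, hT, map_mul, mul_left_comm, ← Φ.form_v1, Φ.v1_e1, Φ.v1_e1]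

theorem Act.app {g : Isom Q} {T : Pos → Pos → C} (h : Φ.Act g T) (x : Pos → C) :
    mat Q g *ᵥ Φ.v2 x = Φ.v2 fun b => ∑ a, x a * T a b := by
  rw [v2, mulVec_sum]
  simp only [mulVec_smul, h _, v2, map_sum, map_mul, Finset.sum_smul, Finset.smul_sum, smul_smul]
  rw [Finset.sum_comm]

theorem act_ext {g h : Isom Q} {T : Pos → Pos → C} (hg : Φ.Act g T) (hh : Φ.Act h T) : g = h := by
  refine hF.ext fun x y => ?_
  obtain ⟨c, rfl⟩ := Φ.exists_v1 x
  obtain ⟨d, rfl⟩ := Φ.exists_v1 y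
  rw [Φ.ten_v1, Act.app Φ hg, Act.app Φ hh]

theorem Act.congr {g : Isom Q} {T T' : Pos → Pos → C} (h : Φ.Act g T) (e : T = T') : Φ.Act g T' := e ▸ h

theorem Act.unique {g : Isom Q} {T T' : Pos → Pos → C} (h : Φ.Act g T) (h' : Φ.Act g T') : T = T' :=
  funext fun a => Φ.v2_inj ((h a).symm.trans (h' a))

theorem act_kron {g : Isom Q} {S T : Matrix (Fin k) (Fin k) F} {A B : Fin 4 → Fin 4 → C}
    (hg : ∀ x y, mat Q g *ᵥ ten x y = ten (S *ᵥ x) (T *ᵥ y)) (hS : Φ.Mp S A) (hT : Φ.Mp T B) :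
    Φ.Act g (kron A B) := fun a => by
  rw [hg, hS, hT, Φ.ten_v1]
  rfl

theorem Act.mul {g h : Isom Q} {A B A' B' : Fin 4 → Fin 4 → C} (hg : Φ.Act g (kron A B))
    (hh : Φ.Act h (kron A' B')) : Φ.Act (g * h) (kron (mulA A A') (mulA B B')) := fun a => by
  rw [Fl.mul_vec, hh, Act.app Φ hg]
  congr 1
  funext b
  rw [Fintype.sum_prod_type]
  simp only [kron, mulA, Finset.sum_mul_sum]
  exact Finset.sum_congr rfl fun i _ => Finset.sum_congr rfl fun j _ => by ring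

theorem act_one : Φ.Act 1 (kron oneA oneA) := fun a => by
  rw [show mat Q (1 : Isom Q) = 1 from mat_one Q, one_mulVec, ← Φ.v2_e2]
  congr 1
  funext b
  simp only [kron, oneA, e1, e2, Prod.ext_iff]
  by_cases h1 : b.1 = a.1 <;> by_cases h2 : b.2 = a.2 <;> simp [h1, h2]

theorem mp_one : Φ.Mp 1 oneA := fun i => by rw [one_mulVec, oneA, Φ.v1_e1]

theorem mp_refl {w : Fin 4 → C} (hw : bf w w ≠ 0) :
    Φ.Mp ((hF.aset.rR (Φ.v1 w)).1 : Matrix (Fin k) (Fin k) F) (rfA w) := fun i => by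
  have h0 : B₂ (Φ.v1 w) (Φ.v1 w) ≠ 0 := by
    rw [Φ.form_v1]; exact mul_ne_zero Φ.u_ne fun h => hw (cst_inj (by rw [h, map_zero]))
  rw [hF.aset.rR_apply h0]
  conv_lhs => rw [← Φ.v1_e1, Φ.form_v1, Φ.form_v1]
  have h1 : cst F (bf w w) * cst F (bf w w) = 1 := by rw [← map_mul, sq_of_ne _ hw, map_one]
  rw [show (2 : F) * (Φ.u * cst F (bf (e1 i) w)) / (Φ.u * cst F (bf w w)) =
      cst F (2 * bf (e1 i) w * bf w w) by
    have h2 : cst F (bf w w) ≠ 0 := fun h => hw (cst_inj (by rw [h, map_zero]))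
    have := Φ.u_ne
    rw [map_mul, map_mul, map_ofNat]
    field_simp
    linear_combination (-2 * cst F (bf (e1 i) w)) * h1,
    ← Φ.v1_smul, sub_eq_add_neg, ← neg_one_smul F, ← map_one (cst F), ← map_neg, ← Φ.v1_smul, ← Φ.v1_add]
  congr 1
  funext j
  simp only [Pi.add_apply, Pi.smul_apply, smul_eq_mul, rfA, rf]
  ring

theorem act_R {w : Fin 4 → C} (hw : bf w w ≠ 0) : Φ.Act (hF.aset.R (Φ.v1 w)) (kron oneA (rfA w)) :=
  Φ.act_kron (S := 1) (fun x y => by rw [CfsgLib.TensorSlice.ASet.R, hF.aset.kR_ten, one_mulVec]) Φ.mp_one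
    (Φ.mp_refl hw)

theorem act_L {w : Fin 4 → C} (hw : bf w w ≠ 0) : Φ.Act (hF.L (Φ.v1 w)) (kron (rfA w) oneA) :=
  Φ.act_kron (T := 1) (fun x y => by rw [Fl.L, hF.kL_ten, one_mulVec]) (Φ.mp_refl hw) Φ.mp_one

/-- A reflection of the square, on coordinates. -/
theorem refl_v2 {w : Pos → C} (hw : bf₂ w w ≠ 0) (x : Pos → C) :
    Cfsg.reflectionMatrix (⇑Q) (Φ.v2 w) *ᵥ Φ.v2 x = Φ.v2 (rf₂ w x) := by
  rw [reflectionMatrix_mulVec, refl_apply, Φ.polar_v2, Φ.quad_v2]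
  have h1 : cst F (bf₂ w w) * cst F (bf₂ w w) = 1 := by rw [← map_mul, sq_of_ne _ hw, map_one]
  have h3 : (Φ.κ / 2 * cst F (bf₂ w w))⁻¹ * (Φ.κ * cst F (bf₂ w x)) = cst F (2 * bf₂ w x * bf₂ w w) := by
    have h4 : cst F (bf₂ w w) ≠ 0 := fun h => hw (cst_inj (by rw [h, map_zero]))
    have := Φ.κ_ne
    rw [map_mul, map_mul, map_ofNat]
    field_simp
    linear_combination (-2 * cst F (bf₂ w x)) * h1
  rw [h3, ← Φ.v2_smul, sub_eq_add_neg, ← neg_one_smul F, ← map_one (cst F), ← map_neg, ← Φ.v2_smul, ← Φ.v2_add]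
  congr 1
  funext b
  simp only [Pi.add_apply, Pi.smul_apply, smul_eq_mul, rf₂]
  ring

/-- **The spinor norm of an element given by arrays.** -/
theorem omega_iff {g : Isom Q} {T : Pos → Pos → C} (hg : Φ.Act g T) (ws : List (Pos → C))
    (hws : ∀ w ∈ ws, bf₂ w w ≠ 0) (he : Even ws.length)
    (hT : ∀ a, ws.foldr rf₂ (e2 a) = T a) :
    g ∈ Cfsg.Omega F ⇑Q ↔ (ws.map fun w => bf₂ w w).prod = 1 := by
  have h2 := hF.aset.two
  have hk2 : Φ.κ / 2 ≠ 0 := div_ne_zero Φ.κ_ne h2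
  have hne : ∀ w, bf₂ w w ≠ 0 → Q (Φ.v2 w) ≠ 0 := fun w hw => by
    rw [Φ.quad_v2]; exact mul_ne_zero hk2 fun h => hw (cst_inj (by rw [h, map_zero]))
  have hprod : ∀ (l : List (Pos → C)) (x : Pos → C), (∀ w ∈ l, bf₂ w w ≠ 0) →
      ((l.map Φ.v2).map fun v => Cfsg.reflectionMatrix (⇑Q) v).prod *ᵥ Φ.v2 x = Φ.v2 (l.foldr rf₂ x) := by
    intro l x hl
    induction l with
    | nil => simp
    | cons w l ih =>
      rw [List.map_cons, List.map_cons, List.prod_cons, ← mulVec_mulVec,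
        ih fun v hv => hl v (List.mem_cons_of_mem _ hv), Φ.refl_v2 (hl w List.mem_cons_self), List.foldr_cons]
  have hrp : IsReflProd Q g (ws.map Φ.v2) := by
    refine ⟨fun v hv => ?_, Matrix.ext_iff_mulVec.2 fun v => ?_⟩
    · obtain ⟨w, hw, rfl⟩ := List.mem_map.1 hv
      exact hne w (hws w hw)
    · obtain ⟨x, rfl⟩ := Φ.exists_v2 v
      rw [v2, mulVec_sum, mulVec_sum]
      refine Finset.sum_congr rfl fun a _ => ?_
      rw [mulVec_smul, mulVec_smul, hg a, ← Φ.v2_e2, hprod ws _ hws, hT]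
  rw [mem_omega_iff h2 hF.aset.tset.nondeg hrp, and_iff_right (by rwa [List.length_map])]
  have hp : ∀ l : List (Pos → C), ((l.map Φ.v2).map fun v => Q v).prod =
      (Φ.κ / 2) ^ l.length * cst F ((l.map fun w => bf₂ w w).prod) := by
    intro l
    induction l with
    | nil => simp
    | cons w l ih =>
      rw [List.map_cons, List.map_cons, List.prod_cons, ih, Φ.quad_v2, List.length_cons, List.map_cons,
        List.prod_cons, map_mul, pow_succ]
      ring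
  rw [hp]
  constructor
  · rintro ⟨r, hr⟩
    obtain ⟨d, hd⟩ := he
    have hne0 : (Φ.κ / 2) ^ d ≠ 0 := pow_ne_zero _ hk2
    obtain ⟨s, hs⟩ := Φ.cst_surj (r / (Φ.κ / 2) ^ d)
    have h1 : (ws.map fun w => bf₂ w w).prod = s * s := cst_inj (F := F) (by
      rw [map_mul, hs]; field_simp; rw [hd, pow_add] at hr; linear_combination hr)
    rw [h1]
    exact sq_of_ne s fun h0 => by
      rw [h0, mul_zero] at h1
      exact List.prod_ne_zero (fun hz => by
        obtain ⟨w, hw, hw0⟩ := List.mem_map.1 hz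
        exact hws w hw hw0) h1
  · intro h
    rw [h, map_one, mul_one]
    exact he.isSquare_pow _

end Frame

end CfsgLib.TWGap
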