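import Cfsg.Agent.TensorWreathOrth.Gap.Three.YGroup

/-!
# Three elements: conjugates of a left plane involution
-/

set_option autoImplicit false
set_option linter.unusedSectionVars false

namespace CfsgLib.TWGap

open Matrix Module CfsgLib.Spinor CfsgLib.OrthMax CfsgLib.TensorOrth
open CfsgLib.TensorMax (Idx ten)

namespace Three

theorem appA_mulA (A B : Fin 4 → Fin 4 → C) (x : Fin 4 → C) : appA (mulA A B) x = appA A (appA B x) := by
  funext j
  simp only [appA, mulA, Finset.mul_sum, Finset.sum_mul]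
  rw [Finset.sum_comm]
  exact Finset.sum_congr rfl fun i _ => Finset.sum_congr rfl fun l _ => by ring

theorem appA_one (x : Fin 4 → C) : appA oneA x = x := by
  funext j; simp [appA, oneA, e1]

theorem appA_e1 (A : Fin 4 → Fin 4 → C) (i : Fin 4) : appA A (e1 i) = A i := by
  funext j; simp [appA, e1]

theorem bf_comm (x y : Fin 4 → C) : bf x y = bf y x := Finset.sum_congr rfl fun i _ => by ring

theorem bf_app {A : Fin 4 → Fin 4 → C} (h : ∀ i j, bf (A i) (A j) = bf (e1 i) (e1 j)) (x y : Fin 4 → C) :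
    bf (appA A x) (appA A y) = bf x y := by
  have e : ∀ i j, bf (e1 i) (e1 j) = if i = j then eps i else 0 := by decide
  have lhs : bf (appA A x) (appA A y) = ∑ i, ∑ j, x i * y j * bf (A i) (A j) := by
    simp only [bf, appA, Finset.mul_sum, Finset.sum_mul]
    rw [Finset.sum_comm]
    refine (Finset.sum_congr rfl fun i _ => Finset.sum_comm).trans ?_
    rw [Finset.sum_comm]
    exact Finset.sum_congr rfl fun i _ => Finset.sum_congr rfl fun j _ => Finset.sum_congr rfl fun l _ => by ring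
  rw [lhs]
  simp only [h, e, mul_ite, mul_zero, Finset.sum_ite_eq, Finset.mem_univ, if_true]
  simp only [bf]
  exact Finset.sum_congr rfl fun i _ => by ring

theorem bf_add (x y z : Fin 4 → C) : bf (x + y) z = bf x z + bf y z := by
  simp only [bf, Pi.add_apply, mul_add, add_mul, Finset.sum_add_distrib]

theorem bf_smul (r : C) (x z : Fin 4 → C) : bf (r • x) z = r * bf x z := by
  simp only [bf, Pi.smul_apply, smul_eq_mul, Finset.mul_sum]
  exact Finset.sum_congr rfl fun i _ => by ring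

theorem bf_sub (x y z : Fin 4 → C) : bf (x - y) z = bf x z - bf y z := by
  simp only [bf, Pi.sub_apply, mul_sub, sub_mul, Finset.sum_sub_distrib]

theorem bf_add_right (x y z : Fin 4 → C) : bf x (y + z) = bf x y + bf x z := by
  rw [bf_comm, bf_add, bf_comm y, bf_comm z]

theorem bf_sub_right (x y z : Fin 4 → C) : bf x (y - z) = bf x y - bf x z := by
  rw [bf_comm, bf_sub, bf_comm y, bf_comm z]

theorem bf_smul_right (r : C) (x z : Fin 4 → C) : bf x (r • z) = r * bf x z := by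
  rw [bf_comm, bf_smul, bf_comm z]

theorem rf_eq (w x : Fin 4 → C) : rf w x = x - (2 * bf x w * bf w w) • w := by
  funext i; simp [rf]

theorem rf_fix {w x : Fin 4 → C} (h : bf x w = 0) : rf w x = x := by
  rw [rf_eq, h]; simp

theorem rf_self {w : Fin 4 → C} (hw : bf w w ≠ 0) : rf w w = -w := by
  have h := sq_of_ne _ hw
  funext i
  simp only [rf, Pi.neg_apply]
  linear_combination (-2 * w i) * h

theorem appA_rfA (w x : Fin 4 → C) : appA (rfA w) x = rf w x := by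
  funext j
  simp only [appA, rfA, rf, e1, mul_sub, Finset.sum_sub_distrib]
  congr 1
  · simp
  · have : bf x w = ∑ l, x l * bf (e1 l) w := by
      have : ∀ l, bf (e1 l) w = eps l * w l := fun l => by simp [bf, e1]
      simp only [this]
      simp only [bf]
      exact Finset.sum_congr rfl fun i _ => by ring
    rw [this, Finset.mul_sum, Finset.sum_mul, Finset.sum_mul]
    exact Finset.sum_congr rfl fun i _ => by
      show x i * (2 * bf (e1 i) w * bf w w * w j) = _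
      ring

/-- A nondegenerate form. -/
theorem bf_sep {x : Fin 4 → C} (h : ∀ i, bf x (e1 i) = 0) : x = 0 := by
  funext i
  have h1 := h i
  simp [bf, e1] at h1
  have : ∀ i, eps i ≠ 0 := by decide
  simpa [this i] using h1

theorem trace_rfA {w : Fin 4 → C} (hw : bf w w ≠ 0) : ∑ i, rfA w i i = 2 := by
  have e : ∀ i, rfA w i i = 1 - 2 * (eps i * w i * w i) * bf w w := fun i => by
    simp only [rfA, rf]
    rw [show bf (e1 i) w = eps i * w i by simp [bf, e1]]
    simp [e1]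
    ring
  simp only [e, Finset.sum_sub_distrib, ← Finset.sum_mul, ← Finset.mul_sum]
  rw [show (∑ i, eps i * w i * w i) = bf w w from rfl, mul_assoc, sq_of_ne _ hw]
  decide

theorem key_plain : ∀ a b c d : C, a * a - b * b = 1 → a * c - b * d = 0 → c * c - d * d = -1 →
    a + d = 2 → a = 1 ∧ b = 0 ∧ c = 0 ∧ d = 1 := by decide

theorem key_ellip : ∀ a b c d : C, a * a + b * b = 1 → a * c + b * d = 0 → c * c + d * d = 1 →
    a * a + b * c = 1 → a + d = 2 → a = 1 ∧ b = 0 ∧ c = 0 ∧ d = 1 := by decide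

end Three

variable {F : Type*} [Field F] [Fintype F] {k : ℕ} {Q : QuadraticForm F (Idx k k → F)}
  {B₁ B₂ : LinearMap.BilinForm F (Fin k → F)} {J : Isom Q} {M : Subgroup (Isom Q)}

namespace Frame

open Three

variable [CharP F 3] {hF : Fl Q B₁ B₂ J} (Φ : Frame hF)

/-- The trace, from the arrays. -/
theorem trace_act {g : Isom Q} {T : Pos → Pos → C} (hg : Φ.Act g T) :
    Matrix.trace (mat Q g) = cst F (∑ a, T a a) := by
  classical
  let Lc : (Pos → F) →ₗ[F] (Idx k k → F) := Fintype.linearCombination F fun a => ten (Φ.f a.1) (Φ.f a.2)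
  have hLc : ∀ c : Pos → C, Lc (fun a => cst F (c a)) = Φ.v2 c := fun c => rfl
  have hbij : Function.Bijective Lc := by
    refine ⟨fun x y h => ?_, fun v => ?_⟩
    · choose c hc using fun a => Φ.cst_surj (x a)
      choose d hd using fun a => Φ.cst_surj (y a)
      have hx : x = fun a => cst F (c a) := funext fun a => (hc a).symm
      have hy : y = fun a => cst F (d a) := funext fun a => (hd a).symm
      rw [hx, hy, hLc, hLc] at h
      rw [hx, hy, Φ.v2_inj h]
    · obtain ⟨c, rfl⟩ := Φ.exists_v2 v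
      exact ⟨_, hLc c⟩
  let e : (Pos → F) ≃ₗ[F] (Idx k k → F) := LinearEquiv.ofBijective Lc hbij
  let T' : Matrix Pos Pos F := Matrix.of fun b a => cst F (T a b)
  have hconj : e.conj (Matrix.toLin' T') = Matrix.toLin' (mat Q g) := by
    refine LinearMap.ext fun v => ?_
    obtain ⟨x, rfl⟩ := e.surjective v
    rw [LinearEquiv.conj_apply_apply, e.symm_apply_apply, Matrix.toLin'_apply, Matrix.toLin'_apply]
    choose c hc using fun a => Φ.cst_surj (x a)
    have hx : x = fun a => cst F (c a) := funext fun a => (hc a).symm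
    have h1 : T' *ᵥ x = fun b => cst F (∑ a, c a * T a b) := funext fun b => by
      rw [hx, Matrix.mulVec, dotProduct, map_sum]
      exact Finset.sum_congr rfl fun a _ => by rw [map_mul, mul_comm]; rfl
    rw [h1]
    show Lc _ = mat Q g *ᵥ Lc x
    rw [hx, hLc, hLc, Act.app Φ hg]
  rw [← Matrix.trace_toLin'_eq, ← hconj, LinearMap.trace_conj', Matrix.trace_toLin'_eq, map_sum]
  rfl

theorem trace_kron {g : Isom Q} {A B : Fin 4 → Fin 4 → C} (hg : Φ.Act g (kron A B)) :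
    Matrix.trace (mat Q g) = cst F ((∑ i, A i i) * ∑ j, B j j) := by
  rw [Φ.trace_act hg, Fintype.sum_prod_type, Finset.sum_mul_sum]
  rfl

theorem trace_conj_eq (m g : Isom Q) : Matrix.trace (mat Q (m * g * m⁻¹)) = Matrix.trace (mat Q g) := by
  rw [mat_mul, mat_mul, Matrix.trace_mul_comm, ← mul_assoc, ← mat_mul, inv_mul_cancel, mat_one, one_mul]

/-- The negative of the identity. -/
noncomputable def negO : Isom Q := Φ.RR (e1 0) (e1 1) * Φ.RR (e1 2) (e1 3)

theorem act_negO : Φ.Act Φ.negO (kron oneA (negA oneA)) :=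
  (Act.mul Φ (Φ.act_RR (v := e1 0) (w := e1 1) (by decide) (by decide) rfl)
    (Φ.act_RR (v := e1 2) (w := e1 3) (by decide) (by decide) rfl)).congr Φ (by decide +kernel)

theorem negO_vec (v : Idx k k → F) : mat Q Φ.negO *ᵥ v = -v := by
  obtain ⟨c, rfl⟩ := Φ.exists_v2 v
  rw [Act.app Φ Φ.act_negO, ← neg_one_smul F, ← map_one (cst F), ← map_neg, ← Φ.v2_smul]
  congr 1
  funext b
  rw [Finset.sum_eq_single b (fun a _ ha => ?_) (by simp)]
  · simp [kron, oneA, negA, e1]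
  · simp only [kron, oneA, negA, e1]
    rcases eq_or_ne b.1 a.1 with h2 | h2
    · rw [if_neg (fun h3 : b.2 = a.2 => ha (Prod.ext h2.symm h3.symm))]; simp
    · rw [if_neg h2]; simp

theorem negO_comm (g : Isom Q) : g * Φ.negO = Φ.negO * g :=
  hF.ext fun x y => by rw [Fl.mul_vec, Fl.mul_vec, Φ.negO_vec, Φ.negO_vec, mulVec_neg]

theorem single_not_omega (j : Fin 4) : hF.aset.R (Φ.v1 (e1 j)) ∉ Cfsg.Omega F ⇑Q := by
  have hw : ∀ j, bf (e1 j) (e1 j) ≠ 0 := by decide
  let ws : Fin 4 → List (Pos → C) := fun j => [e2 (0, j), e2 (1, j), e2 (2, j), e2 (3, j)]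
  have hfold : ∀ j a b, (ws j).foldr rf₂ (e2 a) b = kron oneA (rfA (e1 j)) a b := by decide +kernel
  have hval : ∀ j, ((ws j).map fun w => bf₂ w w).prod = -1 := by decide +kernel
  intro h
  have h1 := (Φ.omega_iff (Φ.act_R (hw j)) (ws j) (fun w hw => ?_) ⟨2, rfl⟩ fun a => funext (hfold j a)).1 h
  · rw [hval] at h1
    exact absurd h1 (by decide)
  · have key : ∀ a : Pos, bf₂ (e2 a) (e2 a) ≠ 0 := by decide +kernel
    simp only [ws, List.mem_cons, List.not_mem_nil, or_false] at hw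
    rcases hw with rfl | rfl | rfl | rfl <;> exact key _

variable (hG : GCtx hF M)
include hG

theorem negO_mem : Φ.negO ∈ M ∧ Φ.negO ∈ Kr Q :=
  ⟨M.mul_mem (Φ.RR_mem (by decide) (by decide) hG) (Φ.RR_mem (by decide) (by decide) hG),
    (Kr Q).mul_mem (Φ.RR_kr _ _) (Φ.RR_kr _ _)⟩

/-- A left element of the stabiliser with known inverse. -/
def LeftMap (n : Isom Q) (S S' : Fin 4 → Fin 4 → C) : Prop :=
  n ∈ M ∧ n ∈ Kr Q ∧ Φ.Act n (kron S oneA) ∧ Φ.Act n⁻¹ (kron S' oneA) ∧ mulA S' S = oneA ∧ mulA S S' = oneA ∧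
    ∀ x y, bf (appA S x) (appA S y) = bf x y

theorem leftMap_LL {v w : Fin 4 → C} (hv : bf v v ≠ 0) (hw : bf w w ≠ 0) :
    Φ.LeftMap (M := M) (Φ.LL v w) (mulA (rfA v) (rfA w)) (mulA (rfA w) (rfA v)) := by
  have hi : (Φ.LL v w)⁻¹ = Φ.LL w v := by
    have hLi : ∀ e, (hF.L e)⁻¹ = hF.L e := fun e => inv_eq_of_mul_eq_one_right (hF.L_sq e)
    rw [LL, LL, _root_.mul_inv_rev, hLi, hLi]
  have hrr : ∀ (w x : Fin 4 → C), bf w w ≠ 0 → rf w (rf w x) = x := fun w x hw => by
    rw [rf_eq w x, rf_eq, bf_sub, bf_smul]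
    funext i
    simp only [Pi.sub_apply, Pi.smul_apply, smul_eq_mul]
    linear_combination (4 * bf x w * bf w w * w i) * sq_of_ne _ hw
  have inv : ∀ {v w : Fin 4 → C}, bf v v ≠ 0 → bf w w ≠ 0 →
      mulA (mulA (rfA v) (rfA w)) (mulA (rfA w) (rfA v)) = oneA := fun {v w} hv hw => by
    funext i
    rw [← appA_e1 (mulA _ _), appA_mulA, appA_mulA, appA_mulA, appA_rfA, appA_rfA, appA_rfA, appA_rfA,
      hrr w _ hw, hrr v _ hv]
    rfl
  refine ⟨Φ.LL_mem hv hw hG, Φ.LL_kr v w, Φ.act_LL hv hw rfl, by rw [hi]; exact Φ.act_LL hw hv rfl,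
    inv hw hv, inv hv hw, fun x y => ?_⟩
  have hiso : ∀ (w x y : Fin 4 → C), bf w w ≠ 0 → bf (rf w x) (rf w y) = bf x y := fun w x y hw => by
    rw [rf_eq, rf_eq, bf_sub, bf_sub_right, bf_sub_right, bf_smul, bf_smul, bf_smul_right, bf_smul_right,
      bf_comm w y]
    linear_combination (4 * bf x w * bf y w * bf w w) * sq_of_ne _ hw
  rw [appA_mulA, appA_mulA, appA_rfA, appA_rfA, appA_rfA, appA_rfA, hiso v _ _ hv, hiso w _ _ hw]

theorem LeftMap.mul {n n' : Isom Q} {S S' T T' : Fin 4 → Fin 4 → C} (h : Φ.LeftMap (M := M) n S S')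
    (h' : Φ.LeftMap (M := M) n' T T') : Φ.LeftMap (M := M) (n * n') (mulA S T) (mulA T' S') := by
  obtain ⟨h1, h2, h3, h4, h5, h6, h7⟩ := h
  obtain ⟨g1, g2, g3, g4, g5, g6, g7⟩ := h'
  have one : mulA oneA oneA = oneA := by decide
  have assoc : ∀ A B D : Fin 4 → Fin 4 → C, mulA (mulA A B) D = mulA A (mulA B D) := fun A B D => funext fun i => by
    rw [← appA_e1 (mulA (mulA A B) D), ← appA_e1 (mulA A _), appA_mulA, appA_mulA, appA_mulA, appA_mulA]
  refine ⟨M.mul_mem h1 g1, (Kr Q).mul_mem h2 g2, (Act.mul Φ h3 g3).congr Φ (by rw [one]),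
    by rw [_root_.mul_inv_rev]; exact (Act.mul Φ g4 h4).congr Φ (by rw [one]), ?_, ?_, fun x y => ?_⟩
  · rw [assoc, ← assoc S', h5, (mulA_one T).2, g5]
  · rw [assoc, ← assoc T, g6, (mulA_one S').2, h6]
  · rw [appA_mulA, appA_mulA, h7, g7]

/-- **Moving an orthogonal pair.** -/
theorem exists_move {x₀ x₁ y₀ y₁ : Fin 4 → C} (h0 : bf x₀ x₀ = bf y₀ y₀) (h1 : bf x₁ x₁ = bf y₁ y₁)
    (hy0 : bf y₀ y₀ ≠ 0) (hy1 : bf y₁ y₁ ≠ 0) (hx : bf x₀ x₁ = 0) (hy : bf y₀ y₁ = 0) :
    ∃ n S S', Φ.LeftMap (M := M) n S S' ∧ appA S x₀ = y₀ ∧ appA S x₁ = y₁ := by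
  classical
  have key : ∀ (x y a : Fin 4 → C), bf x x = bf y y → bf y y ≠ 0 → bf a a ≠ 0 → bf x a = 0 →
      ∃ v w, bf v v ≠ 0 ∧ bf w w ≠ 0 ∧ rf v (rf w x) = y ∧ ∀ z, bf z x = 0 → bf z y = 0 → bf z a = 0 →
        rf v (rf w z) = z := by
    intro x y a hxy hy ha hxa
    have hd : bf (x - y) (x - y) = bf x x - 2 * bf x y + bf y y := by
      rw [bf_sub, bf_comm x, bf_comm y (x - y), bf_sub, bf_sub, bf_comm y x]; ring
    have hs : bf (x + y) (x + y) = bf x x + 2 * bf x y + bf y y := by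
      rw [bf_add, bf_comm x, bf_comm y (x + y), bf_add, bf_add, bf_comm y x]; ring
    by_cases h : bf (x - y) (x - y) ≠ 0
    · refine ⟨x - y, a, h, ha, ?_, fun z z1 z2 z3 => ?_⟩
      · rw [rf_fix hxa, rf_eq]
        have e : 2 * bf x (x - y) * bf (x - y) (x - y) = 1 := by
          have e2 : 2 * bf x (x - y) = bf (x - y) (x - y) := by
            rw [bf_comm x (x - y), bf_sub, hd, bf_comm y x, hxy]; ring
          rw [e2, sq_of_ne _ h]
        rw [e, one_smul, sub_sub_cancel]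
      · have e : bf z (x - y) = 0 := by rw [bf_sub_right, z1, z2, sub_zero]
        rw [rf_fix z3, rf_fix e]
    · push_neg at h
      have h' : bf (x + y) (x + y) ≠ 0 := fun h0 => hy (by
        have : 4 * bf y y = 0 := by linear_combination h0 - hs + h - hd - 2 * hxy
        have e4 : (4 : C) = 1 := by decide
        rwa [e4, one_mul] at this)
      refine ⟨y, x + y, hy, h', ?_, fun z z1 z2 z3 => ?_⟩
      · have e : rf (x + y) x = -y := by
          rw [rf_eq]
          have e : 2 * bf x (x + y) * bf (x + y) (x + y) = 1 := by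
            have e2 : 2 * bf x (x + y) = bf (x + y) (x + y) := by
              rw [bf_comm x (x + y), bf_add, hs, bf_comm y x, hxy]; ring
            rw [e2, sq_of_ne _ h']
          rw [e, one_smul]; abel
        rw [e]
        funext i
        have e2 : bf (-y) y = -bf y y := by simp [bf, Finset.sum_neg_distrib]
        simp only [rf, e2, Pi.neg_apply]
        linear_combination (2 * y i) * sq_of_ne _ hy
      · have e : bf z (x + y) = 0 := by rw [bf_add_right, z1, z2, add_zero]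
        rw [rf_fix e, rf_fix z2]
  have aniso : ∀ p : List (Fin 4 → C), p.length < 3 → (∀ v ∈ p, bf v v ≠ 0) → p.Pairwise (fun v w => bf v w = 0) →
      ∃ a, bf a a ≠ 0 ∧ ∀ v ∈ p, bf a v = 0 := by
    intro p hl hp hpw
    obtain ⟨x, hx0, hxp⟩ := hG.exists_aniso_orth (n := p.length) (by omega) Φ.four (fun i => Φ.v1 (p.get i))
      ⟨fun i => Φ.v1_aniso (hp _ (List.get_mem p i)), fun i j hij => by
        rw [Φ.form_v1]
        rcases lt_or_gt_of_ne hij with h | h
        · rw [List.pairwise_iff_get.1 hpw i j h, map_zero, mul_zero]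
        · rw [bf_comm, List.pairwise_iff_get.1 hpw j i h, map_zero, mul_zero]⟩
    obtain ⟨a, rfl⟩ := Φ.exists_v1 x
    refine ⟨a, fun h => hx0 (by rw [Φ.form_v1, h, map_zero, mul_zero]), fun v hv => ?_⟩
    obtain ⟨i, rfl⟩ := List.get_of_mem hv
    have := hxp i
    rw [Φ.form_v1] at this
    exact cst_inj (F := F) ((mul_eq_zero.1 this).resolve_left Φ.u_ne |>.trans (map_zero _).symm)
  obtain ⟨a, ha, hap⟩ := aniso [x₀] (by simp) (by simpa [h0] using hy0) (List.pairwise_singleton _ _)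
  obtain ⟨v, w, hv, hw, hvw, -⟩ := key x₀ y₀ a h0 hy0 ha (by rw [bf_comm]; exact hap x₀ (by simp))
  have m1 := Φ.leftMap_LL hG hv hw
  set x₁' := appA (mulA (rfA v) (rfA w)) x₁
  have e0 : appA (mulA (rfA v) (rfA w)) x₀ = y₀ := by rw [appA_mulA, appA_rfA, appA_rfA, hvw]
  have hiso := m1.2.2.2.2.2.2
  have h1' : bf x₁' x₁' = bf y₁ y₁ := by rw [hiso, h1]
  have hy0x : bf y₀ x₁' = 0 := by rw [← e0, hiso, hx]
  obtain ⟨a', ha', hap'⟩ := aniso [y₀, x₁'] (by simp) (by simp [hy0, h1', hy1]) (by simp [hy0x])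
  obtain ⟨v', w', hv', hw', hvw', hfix⟩ := key x₁' y₁ a' h1' hy1 ha' (by rw [bf_comm]; exact hap' x₁' (by simp))
  refine ⟨_, _, _, LeftMap.mul Φ hG (Φ.leftMap_LL hG hv' hw') m1, ?_, ?_⟩
  · rw [appA_mulA, e0, appA_mulA, appA_rfA, appA_rfA,
      hfix y₀ hy0x hy (by rw [bf_comm]; exact hap' y₀ (by simp))]
  · rw [appA_mulA (mulA (rfA v') (rfA w')), appA_mulA, appA_rfA, appA_rfA, hvw']

/-- **An involution with trace zero of the left factor is conjugate to a frame involution, up to sign.** -/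
theorem exists_normal {A : Fin 4 → Fin 4 → C} (hA2 : mulA A A = oneA)
    (hA : ∀ i j, bf (A i) (A j) = bf (e1 i) (e1 j)) (htr : ∑ i, A i i = 0) :
    ∃ n S S', Φ.LeftMap (M := M) n S S' ∧
      (mulA (mulA S A) S' = diagA ![-1, -1, 1, 1] ∨ mulA (mulA S A) S' = diagA ![1, 1, -1, -1]) := by
  classical
  have hiso := bf_app hA
  have hinv : ∀ x, appA A (appA A x) = x := fun x => by rw [← appA_mulA, hA2, appA_one]
  have hsa : ∀ x y, bf (appA A x) y = bf x (appA A y) := fun x y => by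
    conv_lhs => rw [← hinv y]
    rw [hiso]
  have lin : ∀ x y, appA A (x - y) = appA A x - appA A y := fun x y => by
    funext j; simp [appA, sub_mul, Finset.sum_sub_distrib]
  have linadd : ∀ x y, appA A (x + y) = appA A x + appA A y := fun x y => by
    funext j; simp [appA, add_mul, Finset.sum_add_distrib]
  have linsmul : ∀ (r : C) x, appA A (r • x) = r • appA A x := fun r x => by
    funext j; simp [appA, Finset.mul_sum, mul_assoc]
  let v : Fin 4 → Fin 4 → C := fun i => e1 i - A i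
  have hv : ∀ i, appA A (v i) = -v i := fun i => by
    show appA A (e1 i - A i) = -(e1 i - A i)
    rw [lin, ← appA_e1 A i, hinv, appA_e1]; abel
  have hpair : ∀ z, appA A z = -z → ∀ i, bf z (v i) = 2 * bf z (e1 i) := fun z hz i => by
    show bf z (e1 i - A i) = _
    rw [bf_comm z, bf_sub, ← appA_e1 A i, hsa, hz, bf_comm (e1 i) z,
      show bf (e1 i) (-z) = -bf z (e1 i) by rw [bf_comm z]; simp [bf, Finset.sum_neg_distrib]]
    ring
  have h2 : (2 : C) ≠ 0 := by decide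
  -- a first anisotropic vector
  obtain ⟨w, hw, hww⟩ : ∃ w, appA A w = -w ∧ bf w w ≠ 0 := by
    by_contra! hall
    have h0 : ∀ i, v i = 0 := fun i => bf_sep fun j => by
      have e1' := hall _ (hv i)
      have e2' := hall _ (hv j)
      have e3 := hall (v i + v j) (by rw [linadd, hv, hv]; abel)
      rw [bf_add, bf_comm (v i), bf_comm (v j), bf_add, bf_add, bf_comm (v j) (v i), e1', e2'] at e3
      have e4 : bf (v i) (v j) = 0 := by
        have : 2 * bf (v i) (v j) = 0 := by linear_combination e3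
        exact (mul_eq_zero.1 this).resolve_left h2
      rw [hpair _ (hv i)] at e4
      exact (mul_eq_zero.1 e4).resolve_left h2
    have : A = oneA := funext fun i => (sub_eq_zero.1 (h0 i)).symm
    rw [this] at htr
    exact absurd htr (by decide)
  -- a second one
  obtain ⟨w', hw', hw'w, hw'0⟩ : ∃ w', appA A w' = -w' ∧ bf w' w = 0 ∧ bf w' w' ≠ 0 := by
    by_contra! hall
    let u : Fin 4 → Fin 4 → C := fun i => v i - (bf (v i) w * bf w w) • w
    have hu : ∀ i, appA A (u i) = -u i := fun i => by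
      simp only [u]
      rw [lin, hv, linsmul, hw, smul_neg]; abel
    have huw : ∀ i, bf (u i) w = 0 := fun i => by
      rw [bf_sub, bf_smul]; linear_combination (-bf (v i) w) * sq_of_ne _ hww
    have h0 : ∀ i, u i = 0 := fun i => bf_sep fun j => by
      have e1' := hall _ (hu i) (huw i)
      have e2' := hall _ (hu j) (huw j)
      have e3 := hall (u i + u j) (by rw [linadd, hu, hu]; abel) (by rw [bf_add, huw, huw, add_zero])
      rw [bf_add, bf_comm (u i), bf_comm (u j), bf_add, bf_add, bf_comm (u j) (u i), e1', e2'] at e3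
      have e4 : bf (u i) (u j) = 0 := by
        have : 2 * bf (u i) (u j) = 0 := by linear_combination e3
        exact (mul_eq_zero.1 this).resolve_left h2
      rw [bf_comm, bf_sub, bf_smul, bf_comm w (u i), huw, mul_zero, sub_zero, bf_comm, hpair _ (hu i)] at e4
      exact (mul_eq_zero.1 e4).resolve_left h2
    have hAr : A = rfA w := funext fun i => by
      have h3 : v i = (bf (v i) w * bf w w) • w := sub_eq_zero.1 (h0 i)
      have h4 : bf (v i) w = 2 * bf (e1 i) w := by rw [bf_comm, hpair w hw i, bf_comm w]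
      rw [h4] at h3
      show A i = rf w (e1 i)
      rw [rf_eq, ← h3]
      simp [v]
    rw [hAr, trace_rfA hww] at htr
    exact h2 htr
  -- reduce to frame values
  obtain ⟨x₀, x₁, i₀, i₁, hA0, hA1, hx01, hv0, hv1, hi⟩ : ∃ x₀ x₁ : Fin 4 → C, ∃ i₀ i₁ : Fin 4,
      appA A x₀ = -x₀ ∧ appA A x₁ = -x₁ ∧ bf x₀ x₁ = 0 ∧ bf x₀ x₀ = eps i₀ ∧ bf x₁ x₁ = eps i₁ ∧
      ((i₀ = 0 ∧ i₁ = 1) ∨ (i₀ = 2 ∧ i₁ = 3)) := by
    have hww' : bf w w' = 0 := by rw [bf_comm]; exact hw'w
    rcases cases_of_ne _ hww with e | e <;> rcases cases_of_ne _ hw'0 with e' | e'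
    · exact ⟨w, w', 0, 1, hw, hw', hww', e, e', Or.inl ⟨rfl, rfl⟩⟩
    · exact ⟨w, w', 2, 3, hw, hw', hww', e, e', Or.inr ⟨rfl, rfl⟩⟩
    · exact ⟨w', w, 2, 3, hw', hw, hw'w, e', e, Or.inr ⟨rfl, rfl⟩⟩
    · refine ⟨w + w', w - w', 0, 1, by rw [linadd, hw, hw']; abel, by rw [lin, hw, hw']; abel, ?_, ?_, ?_,
        Or.inl ⟨rfl, rfl⟩⟩
      · rw [bf_add, bf_comm w, bf_comm w', bf_sub, bf_sub, hww', hw'w, e, e']; ring
      · rw [bf_add, bf_comm w, bf_comm w', bf_add, bf_add, hww', hw'w, e, e']; decide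
      · rw [bf_sub, bf_comm w, bf_comm w', bf_sub, bf_sub, hww', hw'w, e, e']; decide
  have hepsne : ∀ i, eps i ≠ 0 := by decide
  have heps : ∀ i, bf (e1 i) (e1 i) = eps i := by decide
  have hi01 : bf (e1 i₀) (e1 i₁) = 0 := by rcases hi with ⟨rfl, rfl⟩ | ⟨rfl, rfl⟩ <;> decide
  obtain ⟨n, S, S', hn, hS0, hS1⟩ := Φ.exists_move hG (y₀ := e1 i₀) (y₁ := e1 i₁) (by rw [hv0, heps])
    (by rw [hv1, heps]) (by rw [heps]; exact hepsne _) (by rw [heps]; exact hepsne _) hx01 hi01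
  refine ⟨n, S, S', hn, ?_⟩
  obtain ⟨-, -, -, -, hS'S, hSS', hSiso⟩ := hn
  set A' := mulA (mulA S A) S' with hA'
  have hS'app : ∀ x, appA S' (appA S x) = x := fun x => by rw [← appA_mulA, hS'S, appA_one]
  have hSapp : ∀ x, appA S (appA S' x) = x := fun x => by rw [← appA_mulA, hSS', appA_one]
  have hA'app : ∀ x, appA A' x = appA S (appA A (appA S' x)) := fun x => by rw [hA', appA_mulA, appA_mulA]
  have linS : ∀ x, appA S (-x) = -appA S x := fun x => by
    funext j; simp [appA, neg_mul, Finset.sum_neg_distrib]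
  have r0 : A' i₀ = -e1 i₀ := by
    rw [← appA_e1 A', hA'app, ← hS0, hS'app, hA0, linS]
  have r1 : A' i₁ = -e1 i₁ := by
    rw [← appA_e1 A', hA'app, ← hS1, hS'app, hA1, linS]
  have hA'iso : ∀ i j, bf (A' i) (A' j) = bf (e1 i) (e1 j) := fun i j => by
    rw [← appA_e1 A' i, ← appA_e1 A' j, hA'app, hA'app, hSiso, hiso]
    conv_rhs => rw [← hSapp (e1 i), ← hSapp (e1 j), hSiso]
  have hA'2 : mulA A' A' = oneA := funext fun i => by
    rw [← appA_e1 (mulA A' A'), appA_mulA, hA'app, hA'app, hS'app, hinv, hSapp]; rfl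
  have htr' : ∑ i, A' i i = 0 := by
    have comm : ∀ X Y : Fin 4 → Fin 4 → C, ∑ i, mulA X Y i i = ∑ i, mulA Y X i i := fun X Y => by
      simp only [mulA]
      rw [Finset.sum_comm]
      exact Finset.sum_congr rfl fun i _ => Finset.sum_congr rfl fun l _ => mul_comm _ _
    have assoc : ∀ X Y Z, mulA (mulA X Y) Z = mulA X (mulA Y Z) := fun X Y Z => funext fun i => by
      rw [← appA_e1 (mulA (mulA X Y) Z), ← appA_e1 (mulA X _), appA_mulA, appA_mulA, appA_mulA, appA_mulA]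
    rw [hA', comm, ← assoc, hS'S, (mulA_one A).2, htr]
  have hzero : ∀ i j, (j = i₀ ∨ j = i₁) → i ≠ j → A' i j = 0 := fun i j hj hij => by
    have h := hA'iso i j
    have hr : A' j = -e1 j := by rcases hj with rfl | rfl <;> assumption
    rw [hr, show bf (A' i) (-e1 j) = -(eps j * A' i j) by simp [bf, e1],
      show bf (e1 i) (e1 j) = 0 from (show ∀ a b : Fin 4, a ≠ b → bf (e1 a) (e1 b) = 0 by decide) i j hij] at h
    exact (mul_eq_zero.1 (neg_eq_zero.1 h)).resolve_left (hepsne j)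
  rcases hi with ⟨rfl, rfl⟩ | ⟨rfl, rfl⟩
  · refine Or.inl ?_
    have z20 := hzero 2 0 (Or.inl rfl) (by decide)
    have z21 := hzero 2 1 (Or.inr rfl) (by decide)
    have z30 := hzero 3 0 (Or.inl rfl) (by decide)
    have z31 := hzero 3 1 (Or.inr rfl) (by decide)
    have f1 := hA'iso 2 2; have f2 := hA'iso 2 3; have f3 := hA'iso 3 3
    simp [bf, e1, eps, Fin.sum_univ_four, z20, z21, z30, z31] at f1 f2 f3
    simp [Fin.sum_univ_four, r0, r1, e1] at htr'
    obtain ⟨p1, p2, p3, p4⟩ := key_plain (A' 2 2) (A' 2 3) (A' 3 2) (A' 3 3) (by linear_combination f1)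
      (by linear_combination f2) (by linear_combination f3) (by linear_combination htr')
    funext i j
    fin_cases i <;> fin_cases j <;> simp [diagA, r0, r1, e1, z20, z21, z30, z31, p1, p2, p3, p4]
  · refine Or.inr ?_
    have z20 := hzero 0 2 (Or.inl rfl) (by decide)
    have z21 := hzero 0 3 (Or.inr rfl) (by decide)
    have z30 := hzero 1 2 (Or.inl rfl) (by decide)
    have z31 := hzero 1 3 (Or.inr rfl) (by decide)
    have f1 := hA'iso 0 0; have f2 := hA'iso 0 1; have f3 := hA'iso 1 1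
    have f4 := congrFun (congrFun hA'2 0) 0
    simp [bf, e1, eps, Fin.sum_univ_four, z20, z21, z30, z31] at f1 f2 f3
    simp [mulA, oneA, e1, Fin.sum_univ_four, z20, z21, z30, z31] at f4
    simp [Fin.sum_univ_four, r0, r1, e1] at htr'
    obtain ⟨p1, p2, p3, p4⟩ := key_ellip (A' 0 0) (A' 0 1) (A' 1 0) (A' 1 1) (by linear_combination f1)
      (by linear_combination f2) (by linear_combination f3) (by linear_combination f4) (by linear_combination htr')
    funext i j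
    fin_cases i <;> fin_cases j <;> simp [diagA, r0, r1, e1, z20, z21, z30, z31, p1, p2, p3, p4]

/-- **Conjugates of the left sign element inside `Kr`.** -/
theorem kr_of_conj_bL {d : Isom Q} (hd : d ∈ M) (ha : d * Φ.aR = Φ.aR * d) (hh : d * Φ.bL * d⁻¹ ∈ Kr Q) :
    d ∈ Kr Q := by
  classical
  set h := d * Φ.bL * d⁻¹ with hdef
  have hbb : Φ.bL * Φ.bL = 1 := Φ.act_ext ((Act.mul Φ Φ.act_bL Φ.act_bL).congr Φ
    (show _ = kron oneA oneA by decide +kernel)) Φ.act_one
  have h2 : h * h = 1 := by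
    rw [hdef, show d * Φ.bL * d⁻¹ * (d * Φ.bL * d⁻¹) = d * (Φ.bL * Φ.bL) * d⁻¹ by group, hbb, mul_one,
      mul_inv_cancel]
  have hba : Φ.bL * Φ.aR = Φ.aR * Φ.bL :=
    Φ.act_ext (Act.mul Φ Φ.act_bL Φ.act_aR) ((Act.mul Φ Φ.act_aR Φ.act_bL).congr Φ (by decide +kernel))
  have hbr : Φ.bL * Φ.rhoR = Φ.rhoR * Φ.bL :=
    Φ.act_ext (Act.mul Φ Φ.act_bL Φ.act_rhoR) ((Act.mul Φ Φ.act_rhoR Φ.act_bL).congr Φ (by decide +kernel))
  have hhr : h * Φ.rhoR = Φ.rhoR * h := by
    have e : h * (d * Φ.rhoR * d⁻¹) = d * Φ.rhoR * d⁻¹ * h := by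
      rw [hdef, show d * Φ.bL * d⁻¹ * (d * Φ.rhoR * d⁻¹) = d * (Φ.bL * Φ.rhoR) * d⁻¹ by group, hbr]
      group
    rcases Φ.conj_rhoR hG hd ha with h' | h'
    · rwa [h'] at e
    · rw [h'] at e
      simpa using (show Commute h Φ.rhoR⁻¹ from e).inv_right.eq
  obtain ⟨A, t, t', ht, ht', hact, hA2, hAiso⟩ := Φ.invol_linear hh h2 (Frame.conj_comm' hba ha) hhr
  have dA : ∀ t t' : C, mulA (diagA ![1, 1, t, t']) (diagA ![-1, -1, 1, 1]) = diagA ![-1, -1, t, t'] := by
    decide +kernel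
  have htrA : ∑ i, A i i = 0 := by
    have e1' := Φ.trace_kron hact
    rw [hdef, trace_conj_eq, Φ.trace_kron Φ.act_bL] at e1'
    have e2' := Φ.trace_kron ((Act.mul Φ hact Φ.act_aR).congr Φ
      (show _ = kron A (diagA ![-1, -1, t, t']) by rw [dA, (mulA_one A).1]))
    have e3 : h * Φ.aR = d * (Φ.bL * Φ.aR) * d⁻¹ := by
      have : d⁻¹ * Φ.aR = Φ.aR * d⁻¹ := ((show Commute d Φ.aR from ha).inv_left).eq
      rw [hdef, mul_assoc, this]; group
    rw [e3, trace_conj_eq, Φ.trace_kron ((Act.mul Φ Φ.act_bL Φ.act_aR).congr Φ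
      (show _ = kron (diagA ![-1, -1, 1, 1]) (diagA ![-1, -1, 1, 1]) by decide +kernel))] at e2'
    have f1 := cst_inj e1'
    have f2 := cst_inj e2'
    simp [Fin.sum_univ_four, diagA, oneA, e1] at f1 f2 ⊢
    have e4 : (4 : C) = 1 := by decide
    rcases f1 with f1 | f1
    · exact f1
    rcases f2 with f2 | f2
    · exact f2
    exact absurd (show (1 : C) = 0 by linear_combination f1 - f2 - e4) one_ne_zero
  obtain ⟨n, S, S', hn, hform⟩ := Φ.exists_normal hG hA2 hAiso htrA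
  obtain ⟨hnM, hnK, hnS, hnS', hS'S, hSS', -⟩ := hn
  have htt : t' = t := by
    by_contra hne
    have key : ∀ a b : C, a ≠ 0 → b ≠ 0 → b ≠ a → b = -a := by decide
    have := key t t' ht ht' hne
    subst this
    -- the left part lies in `Ω`, a single reflection does not
    have hΩ : h ∈ Cfsg.Omega F ⇑Q := hG.le (M.mul_mem (M.mul_mem hd (Φ.LL_mem (by decide) (by decide) hG)) (M.inv_mem hd))
    have hh' := Act.mul Φ (Act.mul Φ hnS hact) hnS'
    obtain ⟨σ, j, hσ, hfin⟩ : ∃ (σ : Isom Q) (j : Fin 4), σ ∈ M ∧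
        n * h * n⁻¹ * σ = hF.aset.R (Φ.v1 (e1 j)) := by
      have hbM : Φ.bL ∈ M := Φ.LL_mem (by decide) (by decide) hG
      have hnegM := (Φ.negO_mem hG).1
      rcases hform with hf | hf <;> rw [hf] at hh' <;> rcases cases_of_ne _ ht with rfl | rfl
      · refine ⟨Φ.bL, 3, hbM, Φ.act_ext (Act.mul Φ hh' Φ.act_bL) ((Φ.act_R (w := e1 3) (by decide)).congr Φ ?_)⟩
        decide +kernel
      · refine ⟨Φ.bL, 2, hbM, Φ.act_ext (Act.mul Φ hh' Φ.act_bL) ((Φ.act_R (w := e1 2) (by decide)).congr Φ ?_)⟩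
        decide +kernel
      · refine ⟨Φ.bL * Φ.negO, 3, M.mul_mem hbM hnegM,
          Φ.act_ext (Act.mul Φ hh' (Act.mul Φ Φ.act_bL Φ.act_negO)) ((Φ.act_R (w := e1 3) (by decide)).congr Φ ?_)⟩
        decide +kernel
      · refine ⟨Φ.bL * Φ.negO, 2, M.mul_mem hbM hnegM,
          Φ.act_ext (Act.mul Φ hh' (Act.mul Φ Φ.act_bL Φ.act_negO)) ((Φ.act_R (w := e1 2) (by decide)).congr Φ ?_)⟩
        decide +kernel
    refine Φ.single_not_omega j (hfin ▸ hG.le ?_)
    exact M.mul_mem (M.mul_mem (M.mul_mem hnM (M.mul_mem (M.mul_mem hd (Φ.LL_mem (by decide) (by decide) hG))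
      (M.inv_mem hd))) (M.inv_mem hnM)) hσ
  subst htt
  -- move to the frame
  set d' := n * d with hd'
  have hd'M : d' ∈ M := M.mul_mem hnM hd
  have hna : n * Φ.aR = Φ.aR * n :=
    Φ.act_ext (Act.mul Φ hnS Φ.act_aR) ((Act.mul Φ Φ.act_aR hnS).congr Φ (by
      rw [(mulA_one S).1, (mulA_one S).2, (mulA_one _).1, (mulA_one _).2]))
  have ha' : d' * Φ.aR = Φ.aR * d' := by rw [hd', mul_assoc, ha, ← mul_assoc, hna, mul_assoc]
  have hback : d' ∈ Kr Q → d ∈ Kr Q := fun h => by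
    have := (Kr Q).mul_mem ((Kr Q).inv_mem hnK) h
    rwa [hd', inv_mul_cancel_left] at this
  refine hback ?_
  have hact' : Φ.Act (d' * Φ.bL * d'⁻¹) (kron (mulA (mulA S A) S') (diagA ![1, 1, t', t'])) := by
    rw [hd', show n * d * Φ.bL * (n * d)⁻¹ = n * h * n⁻¹ by rw [hdef]; group]
    exact (Act.mul Φ (Act.mul Φ hnS hact) hnS').congr Φ (by rw [(mulA_one _).2, (mulA_one _).1])
  obtain ⟨σ, hσ, hact''⟩ : ∃ σ : C, σ ≠ 0 ∧ Φ.Act (d' * Φ.bL * d'⁻¹)
      (kron (diagA ![-σ, -σ, σ, σ]) (diagA ![1, 1, t', t'])) := by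
    rcases hform with hf | hf
    · exact ⟨1, one_ne_zero, hact'.congr Φ (by rw [hf])⟩
    · exact ⟨-1, by decide, hact'.congr Φ (by rw [hf, neg_neg])⟩
  by_cases hgood : σ = 1 ∧ t' = 1
  · obtain ⟨rfl, rfl⟩ := hgood
    have hb : d' * Φ.bL = Φ.bL * d' := mul_inv_eq_iff_eq_mul.1 (Φ.act_ext hact'' (Φ.act_bL.congr Φ (by decide +kernel)))
    exact Φ.bothC_le hG ⟨hd'M, Φ.mem_bothC.2 ⟨ha', hb⟩⟩
  exfalso
  -- the image of the left rotation
  set r := d' * Φ.rhoL * d'⁻¹ with hr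
  have hlb : Φ.rhoL * Φ.bL = Φ.bL * Φ.rhoL :=
    Φ.act_ext (Act.mul Φ Φ.act_rhoL Φ.act_bL) ((Act.mul Φ Φ.act_bL Φ.act_rhoL).congr Φ (by decide +kernel))
  have hla : Φ.rhoL * Φ.aR = Φ.aR * Φ.rhoL :=
    Φ.act_ext (Act.mul Φ Φ.act_rhoL Φ.act_aR) ((Act.mul Φ Φ.act_aR Φ.act_rhoL).congr Φ (by decide +kernel))
  have hlr : Φ.rhoL * Φ.rhoR = Φ.rhoR * Φ.rhoL :=
    Φ.act_ext (Act.mul Φ Φ.act_rhoL Φ.act_rhoR) ((Act.mul Φ Φ.act_rhoR Φ.act_rhoL).congr Φ (by decide +kernel))
  have hra : r * Φ.aR = Φ.aR * r := Frame.conj_comm' hla ha'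
  have hrM : r ∈ M := M.mul_mem (M.mul_mem hd'M (Φ.LL_mem (by decide) (by decide) hG)) (M.inv_mem hd'M)
  have hrr : r * r = d' * Φ.bL * d'⁻¹ := by
    rw [hr, show d' * Φ.rhoL * d'⁻¹ * (d' * Φ.rhoL * d'⁻¹) = d' * (Φ.rhoL * Φ.rhoL) * d'⁻¹ by group,
      show Φ.rhoL * Φ.rhoL = Φ.bL from Φ.act_ext ((Act.mul Φ Φ.act_rhoL Φ.act_rhoL).congr Φ
        (show kron (mulA rhoA rhoA) (mulA oneA oneA) = kron (diagA ![-1, -1, 1, 1]) oneA by decide +kernel)) Φ.act_bL]
  have hrb : r * Φ.bL = Φ.bL * r := by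
    have hc : r * (r * r) = r * r * r := (mul_assoc _ _ _).symm
    rw [hrr] at hc
    rcases cases_of_ne _ hσ with rfl | rfl <;> rcases cases_of_ne _ ht' with rfl | rfl
    · rwa [Φ.act_ext hact'' (Φ.act_bL.congr Φ (by decide +kernel))] at hc
    · rw [Φ.act_ext hact'' ((Act.mul Φ Φ.act_bL (Act.mul Φ Φ.act_aR Φ.act_negO)).congr Φ
        (show _ = kron (diagA ![-(1 : C), -1, 1, 1]) (diagA ![1, 1, -1, -1]) by decide +kernel))] at hc
      have c2 : r * (Φ.aR * Φ.negO) = Φ.aR * Φ.negO * r := by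
        rw [← mul_assoc, hra, mul_assoc, Φ.negO_comm r, ← mul_assoc]
      exact mul_right_cancel (b := Φ.aR * Φ.negO) (by rw [mul_assoc, hc, mul_assoc, ← c2, ← mul_assoc])
    · rw [Φ.act_ext hact'' ((Act.mul Φ Φ.act_bL Φ.act_negO).congr Φ
        (show _ = kron (diagA ![-(-1 : C), -(-1), -1, -1]) (diagA ![1, 1, 1, 1]) by decide +kernel))] at hc
      exact mul_right_cancel (b := Φ.negO) (by rw [mul_assoc, hc, mul_assoc, ← Φ.negO_comm r, ← mul_assoc])
    · rw [Φ.act_ext hact'' ((Act.mul Φ Φ.act_bL Φ.act_aR).congr Φ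
        (show _ = kron (diagA ![-(-1 : C), -(-1), -1, -1]) (diagA ![1, 1, -1, -1]) by decide +kernel))] at hc
      exact mul_right_cancel (b := Φ.aR) (by rw [mul_assoc, hc, mul_assoc, ← hra, ← mul_assoc])
  have hrK : r ∈ Kr Q := Φ.bothC_le hG ⟨hrM, Φ.mem_bothC.2 ⟨hra, hrb⟩⟩
  have hrho : r * Φ.rhoR = Φ.rhoR * r := by
    have e : r * (d' * Φ.rhoR * d'⁻¹) = d' * Φ.rhoR * d'⁻¹ * r := by
      rw [hr, show d' * Φ.rhoL * d'⁻¹ * (d' * Φ.rhoR * d'⁻¹) = d' * (Φ.rhoL * Φ.rhoR) * d'⁻¹ by group, hlr]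
      group
    rcases Φ.conj_rhoR hG hd'M ha' with h' | h'
    · rwa [h'] at e
    · rw [h'] at e
      simpa using (show Commute r Φ.rhoR⁻¹ from e).inv_right.eq
  obtain ⟨A', B, m, hm, hract, hA', hB⟩ := Φ.kr_arrays hrK
  have hBne := exists_ne hm hB
  have hblockA := block_of_comm (Φ.comm_left hract Φ.act_bL hBne hrb)
  have hblockB := block_of_comm (Φ.comm_right hract Φ.act_aR (exists_ne hm hA') hra)
  have hrot := Φ.comm_right hract Φ.act_rhoR (exists_ne hm hA') hrho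
  generalize A' 0 0 = a₀, A' 0 1 = a₁, A' 1 0 = a₂, A' 1 1 = a₃, A' 2 2 = a₄, A' 2 3 = a₅, A' 3 2 = a₆,
    A' 3 3 = a₇ at hblockA
  generalize B 0 0 = p, B 0 1 = q, B 1 0 = b₂, B 1 1 = b₃, B 2 2 = b₄, B 2 3 = b₅, B 3 2 = b₆, B 3 3 = b₇
    at hblockB
  subst hblockA hblockB
  obtain ⟨hpq, g1, g2, g3⟩ := form_block hB
  obtain ⟨-, k1, k2, k3⟩ := form_block hA'
  have hb3 : b₃ = p := by
    have := congrFun (congrFun hrot 0) 1
    simpa [mulA, blockA, rhoA, Fin.sum_univ_four] using this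
  have hb2 : b₂ = -q := by
    have := congrFun (congrFun hrot 0) 0
    simpa [mulA, blockA, rhoA, Fin.sum_univ_four, neg_eq_iff_eq_neg, eq_comm] using this
  subst hb3 hb2
  have hsq : ∀ a b : Pos, mulA (blockA a₀ a₁ a₂ a₃ a₄ a₅ a₆ a₇) (blockA a₀ a₁ a₂ a₃ a₄ a₅ a₆ a₇) a.1 b.1 *
      mulA (blockA b₃ q (-q) b₃ b₄ b₅ b₆ b₇) (blockA b₃ q (-q) b₃ b₄ b₅ b₆ b₇) a.2 b.2 =
      diagA ![-σ, -σ, σ, σ] a.1 b.1 * diagA ![1, 1, t', t'] a.2 b.2 := fun a b => by
    have h1 := Act.mul Φ hract hract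
    rw [hrr] at h1
    exact congrFun (congrFun (Act.unique Φ h1 hact'') a) b
  have hpq0 : b₃ * q + q * b₃ = 0 := by
    have h00 := hsq (2, 0) (2, 0)
    have h01 := hsq (2, 0) (2, 1)
    simp [mulA, blockA, diagA, Fin.sum_univ_four] at h00 h01
    rcases h01 with h0 | h0
    · rw [h0, zero_mul] at h00
      exact absurd h00.symm hσ
    · linear_combination h0
  obtain ⟨rfl, hcase⟩ := linear_key _ _ _ hpq hm hpq0
  obtain ⟨rfl, rfl, hb4, hb7⟩ := hyp_key _ _ _ _ g1 g2 g3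
  obtain ⟨rfl, rfl, ha4, ha7⟩ := hyp_key _ _ _ _ k1 k2 k3
  have hhh := hsq (2, 2) (2, 2)
  simp [mulA, blockA, diagA, Fin.sum_univ_four, sq_of_ne _ ha4, sq_of_ne _ hb4] at hhh
  have hhe := hsq (2, 0) (2, 0)
  simp [mulA, blockA, diagA, Fin.sum_univ_four, sq_of_ne _ ha4] at hhe
  have hσt : σ = t' := by
    linear_combination (-σ) * sq_of_ne _ ht' - t' * hhh
  have hσ1 : σ = -1 := by
    rcases cases_of_ne _ hσ with h | h
    · exact absurd ⟨h, hσt ▸ h⟩ hgood
    · exact h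
  have hp0 : b₃ = 0 := by
    rcases hcase with ⟨hq0, -⟩ | ⟨hp0, -⟩
    · exfalso
      rw [hq0, hσ1] at hhe
      exact sq_ne_neg_one b₃ (by linear_combination hhe)
    · exact hp0
  -- the traces
  have hra' := Φ.trace_kron ((Act.mul Φ hract Φ.act_aR))
  have e3 : r * Φ.aR = d' * (Φ.rhoL * Φ.aR) * d'⁻¹ := by
    have : d'⁻¹ * Φ.aR = Φ.aR * d'⁻¹ := ((show Commute d' Φ.aR from ha').inv_left).eq
    rw [hr, mul_assoc, this]; group
  rw [e3, trace_conj_eq, Φ.trace_kron (Act.mul Φ Φ.act_rhoL Φ.act_aR)] at hra'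
  have hr' := Φ.trace_kron hract
  rw [hr, trace_conj_eq, Φ.trace_kron Φ.act_rhoL] at hr'
  have f1 := cst_inj hr'
  have f2 := cst_inj hra'
  subst hp0
  simp [Fin.sum_univ_four, diagA, oneA, e1, rhoA, mulA, blockA] at f1 f2
  rcases f2 with f2 | f2
  · rw [f2, zero_mul] at f1
    exact absurd f1 (by decide)
  · rw [f2, mul_zero] at f1
    exact absurd f1 (by decide)

end Frame

end CfsgLib.TWGap
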