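import Cfsg.Agent.TensorWreathOrth.Gap.Three.Twisted

/-!
# Three elements: reduction to the standard twisted element
-/

set_option autoImplicit false
set_option linter.unusedSectionVars false

namespace CfsgLib.TWGap

open Matrix Module CfsgLib.Spinor CfsgLib.OrthMax CfsgLib.TensorOrth
open CfsgLib.TensorMax (Idx ten)

namespace Three

theorem turn_rev : ∀ q t : C, q ≠ 0 → t ≠ 0 →
    kron (mulA (mulA turnA oneA) turnA) (mulA (mulA turnA (revA 0 q t (-t))) turnA) = kron oneA (revA q 0 (-t) t) ∧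
    kron (mulA (mulA turnA aA) turnA) (mulA (mulA turnA (revA 0 q t (-t))) turnA) = kron aA (revA q 0 (-t) t) := by
  decide +kernel

theorem rot_rev : ∀ t : C,
    mulA (mulA rhoA (revA 1 0 t (-t))) ![![0, -1, 0, 0], ![1, 0, 0, 0], ![0, 0, 1, 0], ![0, 0, 0, 1]] =
      revA (-1) 0 t (-t) ∧ mulA rhoA (mulA (revA 1 0 t (-t))
      ![![0, -1, 0, 0], ![1, 0, 0, 0], ![0, 0, 1, 0], ![0, 0, 0, 1]]) = revA (-1) 0 t (-t) := by decide +kernel

theorem neg_rev (p q t : C) : kron (diagA ![1, 1, -1, -1]) (revA p q t (-t)) =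
    kron aA (revA (-p) (-q) (-t) t) := by
  have e : ∀ i j, diagA ![1, 1, -1, -1] i j = -(aA i j) := by decide
  have e' : ∀ i j, revA (-p) (-q) (-t) t i j = -(revA p q t (-t) i j) := by
    intro i j; fin_cases i <;> fin_cases j <;> simp [revA]
  funext a b
  simp only [kron, e, e']
  ring

theorem eh_supp : ∀ b : Pos, aA b.2 b.2 = 1 → aA b.1 b.1 = -1 → b.1.val < 2 ∧ 2 ≤ b.2.val := by decide

theorem hh_supp : ∀ b : Pos, aA b.2 b.2 = 1 → aA b.1 b.1 = 1 → 2 ≤ b.1.val ∧ 2 ≤ b.2.val := by decide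

theorem ee_supp : ∀ b : Pos, aA b.2 b.2 = -1 → aA b.1 b.1 = -1 → b.1.val < 2 ∧ b.2.val < 2 := by decide

theorem hh_sum {c : Pos → C} (d : Pos → C) (hc : ∀ b, c b ≠ 0 → 2 ≤ b.1.val ∧ 2 ≤ b.2.val) :
    bf₂ c d = c (2, 2) * d (2, 2) - c (2, 3) * d (2, 3) - c (3, 2) * d (3, 2) + c (3, 3) * d (3, 3) := by
  have h0 : ∀ b : Pos, b.1.val < 2 ∨ b.2.val < 2 → c b = 0 := fun b hb => by
    by_contra h; obtain ⟨h1, h2⟩ := hc b h; omega
  rw [bf₂, Fintype.sum_prod_type]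
  simp [Fin.sum_univ_four, eps, h0]
  ring

theorem cases_pq : ∀ p q : C, p * p + q * q = 1 → (q = 0 ∧ p ≠ 0) ∨ (p = 0 ∧ q ≠ 0) := by decide

theorem sq_ne_neg_one : ∀ x : C, x * x ≠ -1 := by decide

set_option synthInstance.maxSize 4000 in
theorem keyt : ∀ (t t' : C) (b : Pos), t ≠ 0 → t' ≠ 0 →
  ((![-1, -1, 1, 1] : Fin 4 → C) b.2 = 1 → (![-1, -1, 1, 1] : Fin 4 → C) b.1 = -1 →
  (![-1, -1, 1, 1] : Fin 4 → C) b.1 * (![-1, 1, t, -t] : Fin 4 → C) b.2 = -1 →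
  (![-1, 1, t', -t'] : Fin 4 → C) b.1 * (![-1, -1, 1, 1] : Fin 4 → C) b.2 = -1 →
  (t = 1 ∧ b = (0, 2)) ∨ (t = -1 ∧ b = (0, 3))) ∧
  ((![-1, -1, 1, 1] : Fin 4 → C) b.2 = -1 → (![-1, -1, 1, 1] : Fin 4 → C) b.1 = 1 →
  (![-1, -1, 1, 1] : Fin 4 → C) b.1 * (![-1, 1, t, -t] : Fin 4 → C) b.2 = -1 →
  (![-1, 1, t', -t'] : Fin 4 → C) b.1 * (![-1, -1, 1, 1] : Fin 4 → C) b.2 = -1 →
  (t' = 1 ∧ b = (2, 0)) ∨ (t' = -1 ∧ b = (3, 0))) := by decide +kernel

end Three

variable {F : Type*} [Field F] [Fintype F] {k : ℕ} {Q : QuadraticForm F (Idx k k → F)}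
  {B₁ B₂ : LinearMap.BilinForm F (Fin k → F)} {J : Isom Q} {M : Subgroup (Isom Q)}

namespace Frame

open Three

variable [CharP F 3] {hF : Fl Q B₁ B₂ J} (Φ : Frame hF)

theorem xR_sq : Φ.xR * Φ.xR = 1 :=
  Φ.act_ext ((Act.mul Φ Φ.act_xR Φ.act_xR).congr Φ
    (show kron (mulA oneA oneA) (mulA xA xA) = kron oneA oneA by decide +kernel)) Φ.act_one

theorem xR_aR : Φ.xR * Φ.aR = Φ.aR * Φ.xR :=
  Φ.act_ext (Act.mul Φ Φ.act_xR Φ.act_aR) ((Act.mul Φ Φ.act_aR Φ.act_xR).congr Φ (by decide +kernel))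

theorem xR_bL : Φ.xR * Φ.bL = Φ.bL * Φ.xR :=
  Φ.act_ext (Act.mul Φ Φ.act_xR Φ.act_bL) ((Act.mul Φ Φ.act_bL Φ.act_xR).congr Φ (by decide +kernel))

theorem xR_rhoL : Φ.xR * Φ.rhoL = Φ.rhoL * Φ.xR :=
  Φ.act_ext (Act.mul Φ Φ.act_xR Φ.act_rhoL) ((Act.mul Φ Φ.act_rhoL Φ.act_xR).congr Φ (by decide +kernel))

theorem xR_rhoR : Φ.xR * Φ.rhoR = Φ.rhoR⁻¹ * Φ.xR :=
  Φ.act_ext (Act.mul Φ Φ.act_xR Φ.act_rhoR) ((Act.mul Φ Φ.act_rhoR_inv Φ.act_xR).congr Φ (by decide +kernel))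

omit Φ in
theorem conj_comm' {m g a : Isom Q} (hg : g * a = a * g) (hm : m * a = a * m) :
    m * g * m⁻¹ * a = a * (m * g * m⁻¹) := by
  have hm' : m⁻¹ * a = a * m⁻¹ := ((show Commute m a from hm).inv_left).eq
  rw [mul_assoc, hm', ← mul_assoc, mul_assoc m g, hg, ← mul_assoc m a, hm]
  group

variable (hG : GCtx hF M)
include hG

/-- The possible images of the test element. -/
theorem x_image {m : Isom Q} (hm : m ∈ M) (ha : m * Φ.aR = Φ.aR * m) (hb : m * Φ.bL = Φ.bL * m)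
    (hx : m * Φ.xR * m⁻¹ ∈ Kr Q) : ∃ (A : Fin 4 → Fin 4 → C) (p q t : C), (A = oneA ∨ A = aA) ∧
      p * p + q * q = 1 ∧ t ≠ 0 ∧ Φ.Act (m * Φ.xR * m⁻¹) (kron A (revA p q t (-t))) := by
  classical
  set h := m * Φ.xR * m⁻¹ with hh
  have h2 : h * h = 1 := by
    rw [hh, show m * Φ.xR * m⁻¹ * (m * Φ.xR * m⁻¹) = m * (Φ.xR * Φ.xR) * m⁻¹ by group, Φ.xR_sq, mul_one,
      mul_inv_cancel]
  have hmh : m * Φ.xR = h * m := by rw [hh, inv_mul_cancel_right]
  have hcl : h * Φ.rhoL = Φ.rhoL * h := by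
    have e : h * (m * Φ.rhoL * m⁻¹) = m * Φ.rhoL * m⁻¹ * h := by
      rw [hh, show m * Φ.xR * m⁻¹ * (m * Φ.rhoL * m⁻¹) = m * (Φ.xR * Φ.rhoL) * m⁻¹ by group, Φ.xR_rhoL]
      group
    rcases Φ.conj_rhoL hG hm hb with h' | h'
    · rwa [h'] at e
    · rw [h'] at e
      exact ((show Commute h Φ.rhoL⁻¹ from e).inv_right.eq.trans (by rw [inv_inv])).trans rfl |> fun e' => by
        simpa using e'
  have hcr : h * Φ.rhoR = Φ.rhoR⁻¹ * h := by
    have e : h * (m * Φ.rhoR * m⁻¹) = (m * Φ.rhoR * m⁻¹)⁻¹ * h := by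
      rw [hh, show m * Φ.xR * m⁻¹ * (m * Φ.rhoR * m⁻¹) = m * (Φ.xR * Φ.rhoR) * m⁻¹ by group, Φ.xR_rhoR]
      group
    rcases Φ.conj_rhoR hG hm ha with h' | h'
    · rwa [h'] at e
    · rw [h', inv_inv] at e
      calc h * Φ.rhoR = Φ.rhoR⁻¹ * (Φ.rhoR * h) * Φ.rhoR := by group
        _ = Φ.rhoR⁻¹ * (h * Φ.rhoR⁻¹) * Φ.rhoR := by rw [e]
        _ = Φ.rhoR⁻¹ * h := by group
  obtain ⟨p, q, t, t', s, s', hpq, ht, ht', hs, hs', hact⟩ := Φ.invol_reverse hx h2 (Frame.conj_comm' Φ.xR_aR ha)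
    (Frame.conj_comm' Φ.xR_bL hb) hcl hcr
  choose c hc using fun a : Pos => Φ.exists_v2 (mat Q m *ᵥ ten (Φ.f a.1) (Φ.f a.2))
  have d1 : kron oneA aA = kron (diagA ![1, 1, 1, 1]) (diagA ![-1, -1, 1, 1]) := by decide +kernel
  have d2 : kron aA oneA = kron (diagA ![-1, -1, 1, 1]) (diagA ![1, 1, 1, 1]) := by decide +kernel
  have d3 : kron oneA xA = kron (diagA ![1, 1, 1, 1]) (diagA ![-1, 1, -1, 1]) := by decide +kernel
  have hone : ∀ i : Fin 4, (![1, 1, 1, 1] : Fin 4 → C) i = 1 := by decide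
  have hdg : ∀ (s : Fin 4 → C) i, diagA s i i = s i := fun s i => by simp [diagA]
  have hab : ∀ a b, c a b ≠ 0 → aA b.2 b.2 = aA a.2 a.2 ∧ aA b.1 b.1 = aA a.1 a.1 := fun a b h0 => by
    have k1 := Φ.eigen_coord (Φ.act_aR.congr Φ d1) (Φ.image_coord (Φ.act_aR.congr Φ d1) ha a (hc a)) b
    have k2 := Φ.eigen_coord (Φ.act_bL.congr Φ d2) (Φ.image_coord (Φ.act_bL.congr Φ d2) hb a (hc a)) b
    simp only [hone, one_mul, mul_one] at k1 k2
    simp only [aA, hdg]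
    exact ⟨sub_eq_zero.1 ((mul_eq_zero.1 k1).resolve_right h0), sub_eq_zero.1 ((mul_eq_zero.1 k2).resolve_right h0)⟩
  have hne : ∀ a, ∃ b, c a b ≠ 0 := fun a => by
    by_contra! h0
    have h1 := hc a
    rw [show c a = 0 from funext h0, show Φ.v2 0 = 0 by simp [v2]] at h1
    exact TensorMax.ten_eq_zero.not.2 (fun h => h.elim (fun h => Φ.f_ne a.1 (by simp [h]))
      (fun h => Φ.f_ne a.2 (by simp [h]))) ((mulVec_injective m (h1.symm.trans (mulVec_zero _).symm)))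
  have heig : ∀ a, (∀ b, c a b ≠ 0 → 2 ≤ b.2.val) → ∀ b, c a b ≠ 0 →
      (![1, 1, s, s'] : Fin 4 → C) b.1 * (![0, 0, t, t'] : Fin 4 → C) b.2 = (![-1, 1, -1, 1] : Fin 4 → C) a.2 := by
    intro a hsupp b hb'
    have e := Φ.image_coord (Φ.act_xR.congr Φ d3) hmh a (hc a)
    rw [hone, one_mul] at e
    have k := Φ.eigen_on hact (x := c a) (fun a' b' ha' hne' => by
      have h2' := hsupp a' ha'
      obtain ⟨i, j⟩ := a'
      obtain ⟨i', j'⟩ := b'
      simp only [kron, diagA]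
      by_cases hii : i' = i
      · subst hii
        have hjj : j' ≠ j := fun h => hne' (by rw [h])
        fin_cases j <;> fin_cases j' <;> first | exact absurd rfl hjj | simp [revA] at h2' ⊢
      · simp [hii]) e b
    have hT : kron (diagA ![1, 1, s, s']) (revA p q t t') b b =
        (![1, 1, s, s'] : Fin 4 → C) b.1 * (![0, 0, t, t'] : Fin 4 → C) b.2 := by
      have := hsupp b hb'
      obtain ⟨i, j⟩ := b
      fin_cases j <;> first | simp [kron, diagA, revA] at this ⊢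
    rw [hT] at k
    exact sub_eq_zero.1 ((mul_eq_zero.1 k).resolve_right hb')
  -- the signs on the hyperbolic plane differ
  have htt : t' = -t := by
    by_contra hne'
    have he : t' = t := by
      have key : ∀ a b : C, a ≠ 0 → b ≠ 0 → b ≠ -a → b = a := by decide
      exact key t t' ht ht' hne'
    subst he
    have hEH : ∀ a : Pos, a.1 = 0 → (a.2 = 2 ∨ a.2 = 3) → t' = (![-1, 1, -1, 1] : Fin 4 → C) a.2 := fun a h1 h2' => by
      have hs' : ∀ b, c a b ≠ 0 → b.1.val < 2 ∧ 2 ≤ b.2.val := fun b hb' => by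
        obtain ⟨e1', e2'⟩ := hab a b hb'
        refine eh_supp b ?_ ?_
        · rw [e1']; rcases h2' with h | h <;> rw [h] <;> decide
        · rw [e2', h1]; decide
      obtain ⟨b, hb'⟩ := hne a
      have := heig a (fun b hb => (hs' b hb).2) b hb'
      obtain ⟨i, j⟩ := b
      obtain ⟨hi, hj⟩ := hs' _ hb'
      fin_cases i <;> fin_cases j <;>
        first | exact absurd hi (by decide) | exact absurd hj (by decide) | simpa using this
    have e2' := hEH (0, 2) rfl (Or.inl rfl)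
    have e3' := hEH (0, 3) rfl (Or.inr rfl)
    simp at e2' e3'
    exact absurd (e2'.symm.trans e3') (by decide)
  subst htt
  have hss : s' = s := by
    by_contra hne'
    have key : ∀ a b : C, a ≠ 0 → b ≠ 0 → b ≠ a → b = -a := by decide
    have he := key s s' hs hs' hne'
    subst he
    have hsp : ∀ a : Pos, 2 ≤ a.1.val → 2 ≤ a.2.val → ∀ b, c a b ≠ 0 → 2 ≤ b.1.val ∧ 2 ≤ b.2.val :=
      fun a h1 h2' b hb' => by
        obtain ⟨e1', e2'⟩ := hab a b hb'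
        have key : ∀ i : Fin 4, 2 ≤ i.val → aA i i = 1 := by decide
        exact hh_supp b (e1'.trans (key _ h2')) (e2'.trans (key _ h1))
    have hA : ∀ a : Pos, 2 ≤ a.1.val → a.2 = 2 → ∀ b, c a b ≠ 0 →
        ((b = (2, 2) ∨ b = (3, 3)) → s * t = -1) ∧ ((b = (2, 3) ∨ b = (3, 2)) → s * t = 1) := by
      intro a h1 h2' b hb'
      have := heig a (fun b hb => (hsp a h1 (by rw [h2']; decide) b hb).2) b hb'
      rw [h2'] at this
      refine ⟨?_, ?_⟩ <;> rintro (rfl | rfl) <;> simp at this ⊢ <;> linear_combination this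
    have n1 := Φ.bf₂_image (hc (2, 2)) (hc (2, 2))
    have n2 := Φ.bf₂_image (hc (3, 2)) (hc (3, 2))
    have n3 := Φ.bf₂_image (hc (2, 2)) (hc (3, 2))
    rw [hh_sum _ (hsp (2, 2) (by decide) (by decide))] at n1 n3
    rw [hh_sum _ (hsp (3, 2) (by decide) (by decide))] at n2
    rw [show bf₂ (e2 (2, 2)) (e2 (2, 2)) = 1 by decide +kernel] at n1
    rw [show bf₂ (e2 (3, 2)) (e2 (3, 2)) = -1 by decide +kernel] at n2
    rw [show bf₂ (e2 (2, 2)) (e2 (3, 2)) = 0 by decide +kernel] at n3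
    rcases cases_of_ne _ (mul_ne_zero hs ht) with hst | hst
    · have z : ∀ a : Pos, 2 ≤ a.1.val → a.2 = 2 → c a (2, 2) = 0 ∧ c a (3, 3) = 0 := fun a h1 h2' =>
        ⟨by_contra fun h => absurd (hst.symm.trans ((hA a h1 h2' _ h).1 (Or.inl rfl))) (by decide),
          by_contra fun h => absurd (hst.symm.trans ((hA a h1 h2' _ h).1 (Or.inr rfl))) (by decide)⟩
      obtain ⟨z1, z2⟩ := z (2, 2) (by decide) rfl
      obtain ⟨z3, z4⟩ := z (3, 2) (by decide) rfl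
      refine key_hh (-1) (c (2, 2) (2, 3)) (c (2, 2) (3, 2)) (c (3, 2) (2, 3)) (c (3, 2) (3, 2)) (by decide) ?_ ?_ ?_
      · simp only [z1, z2] at n1; linear_combination n1
      · simp only [z3, z4] at n2; linear_combination n2
      · simp only [z1, z2] at n3; linear_combination n3
    · have z : ∀ a : Pos, 2 ≤ a.1.val → a.2 = 2 → c a (2, 3) = 0 ∧ c a (3, 2) = 0 := fun a h1 h2' =>
        ⟨by_contra fun h => absurd (hst.symm.trans ((hA a h1 h2' _ h).2 (Or.inl rfl))) (by decide),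
          by_contra fun h => absurd (hst.symm.trans ((hA a h1 h2' _ h).2 (Or.inr rfl))) (by decide)⟩
      obtain ⟨z1, z2⟩ := z (2, 2) (by decide) rfl
      obtain ⟨z3, z4⟩ := z (3, 2) (by decide) rfl
      refine key_hh 1 (c (2, 2) (2, 2)) (c (2, 2) (3, 3)) (c (3, 2) (2, 2)) (c (3, 2) (3, 3)) (by decide) ?_ ?_ ?_
      · simp only [z1, z2] at n1; linear_combination n1
      · simp only [z3, z4] at n2; linear_combination n2
      · simp only [z1, z2] at n3; linear_combination n3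
  subst hss
  rcases cases_of_ne _ hs with rfl | rfl
  · exact ⟨oneA, p, q, t, Or.inl rfl, hpq, ht, hact.congr Φ (by
      rw [show diagA ![1, 1, 1, 1] = oneA by decide])⟩
  · exact ⟨aA, -p, -q, -t, Or.inr rfl, by linear_combination hpq, neg_ne_zero.2 ht, by
      rw [neg_neg]; exact hact.congr Φ (neg_rev p q t)⟩

/-- The untwisted case. -/
theorem untwisted {m : Isom Q} (hm : m ∈ M) (ha : m * Φ.aR = Φ.aR * m) {h : Isom Q}
    (hh : m * Φ.xR = h * m) {p q t : C} (hpq : p * p + q * q = 1) (ht : t ≠ 0)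
    (hact : Φ.Act h (kron oneA (revA p q t (-t)))) : m ∈ hF.Nr := by
  have plain : ∀ {m h : Isom Q}, m ∈ M → m * Φ.aR = Φ.aR * m → m * Φ.xR = h * m → ∀ {p t : C}, p ≠ 0 → t ≠ 0 →
      Φ.Act h (kron oneA (revA p 0 t (-t))) → m ∈ hF.Nr := by
    intro m h hm ha hh p t hp ht hact
    have e : revA p 0 t (-t) = diagA ![p, -p, t, -t] := by
      funext i j; fin_cases i <;> fin_cases j <;> simp [revA, diagA]
    have key : ∀ x : C, x ≠ 0 → x ≠ -x := by decide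
    refine Φ.rigid hG hm ha Φ.act_xR (hact.congr Φ (by rw [e])) hh ?_ ?_ <;> simp <;>
      first | exact key p hp | exact key t ht
  rcases cases_pq p q hpq with ⟨rfl, hp⟩ | ⟨rfl, hq⟩
  · exact plain hm ha hh hp ht hact
  · obtain ⟨n, hnM, hnK, hnn, hn, hna, -⟩ := Φ.exists_turn hG
    have hni : n⁻¹ = n := inv_eq_of_mul_eq_one_right hnn
    have hN : n * m ∈ hF.Nr := plain (m := n * m) (h := n * h * n) (M.mul_mem hnM hm)
      (by rw [mul_assoc, ha, ← mul_assoc, hna, mul_assoc])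
      (by rw [mul_assoc, hh, show n * h * n * (n * m) = n * h * (n * n) * m by group, hnn, mul_one, mul_assoc]) hq
      (neg_ne_zero.2 ht) (by
        have h1 := (Act.mul Φ (Act.mul Φ hn hact) hn).congr Φ ((turn_rev q t hq ht).1)
        rwa [neg_neg])
    have := hF.Nr.mul_mem (hF.kr_le_nr hnK) hN
    rwa [← mul_assoc, hnn, one_mul] at this

/-- **Elements mapping both test elements into `Kr` stabilise.** -/
theorem mem_nr_of_test {m : Isom Q} (hm : m ∈ M) (ha : m * Φ.aR = Φ.aR * m) (hb : m * Φ.bL = Φ.bL * m)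
    (hx : m * Φ.xR * m⁻¹ ∈ Kr Q) (hz : m * Φ.zL * m⁻¹ ∈ Kr Q) : m ∈ hF.Nr := by
  classical
  -- translating by stabiliser elements
  have mv : ∀ {g m : Isom Q}, g ∈ M → g ∈ Kr Q → g * Φ.aR = Φ.aR * g → g * Φ.bL = Φ.bL * g → m ∈ M →
      m * Φ.aR = Φ.aR * m → m * Φ.bL = Φ.bL * m → m * Φ.zL * m⁻¹ ∈ Kr Q →
      g * m ∈ M ∧ g * m * Φ.aR = Φ.aR * (g * m) ∧ g * m * Φ.bL = Φ.bL * (g * m) ∧
      g * m * Φ.zL * (g * m)⁻¹ ∈ Kr Q ∧ (g * m ∈ hF.Nr → m ∈ hF.Nr) := by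
    intro g m hgM hgK hga hgb hm ha hb hz
    refine ⟨M.mul_mem hgM hm, by rw [mul_assoc, ha, ← mul_assoc, hga, mul_assoc],
      by rw [mul_assoc, hb, ← mul_assoc, hgb, mul_assoc], ?_, fun h => ?_⟩
    · rw [show g * m * Φ.zL * (g * m)⁻¹ = g * (m * Φ.zL * m⁻¹) * g⁻¹ by group]
      exact (Kr Q).mul_mem ((Kr Q).mul_mem hgK hz) ((Kr Q).inv_mem hgK)
    · have := hF.Nr.mul_mem (hF.Nr.inv_mem (hF.kr_le_nr hgK)) h
      rwa [inv_mul_cancel_left] at this
  -- the plain twisted case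
  have plain : ∀ {m : Isom Q}, m ∈ M → m * Φ.aR = Φ.aR * m → m * Φ.bL = Φ.bL * m → m * Φ.zL * m⁻¹ ∈ Kr Q →
      ∀ {h : Isom Q}, m * Φ.xR = h * m → ∀ {t : C}, t ≠ 0 → Φ.Act h (kron aA (revA (-1) 0 t (-t))) →
      m ∈ hF.Nr := by
    intro m hm ha hb hz h hh t ht hact
    have hz' : J * m * J * Φ.xR * (J * m * J)⁻¹ = J * (m * Φ.zL * m⁻¹) * J := by
      rw [show (J * m * J)⁻¹ = J * m⁻¹ * J by rw [_root_.mul_inv_rev, _root_.mul_inv_rev, hF.J_inv, mul_assoc],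
        ← Φ.flip_zL, hF.conj_mul, hF.conj_mul]
    obtain ⟨A', p', q', t', hA', hpq', ht', hact'⟩ := Φ.x_image hG.flip (hG.flip_mem hm)
      (by rw [← Φ.flip_bL, hF.conj_mul, hF.conj_mul, hb]) (by rw [← Φ.flip_aR, hF.conj_mul, hF.conj_mul, ha])
      (by rw [hz']; exact hF.conj_kr.2 hz)
    rcases hA' with rfl | rfl
    · exact hF.conj_nr.1 (Φ.untwisted hG.flip (hG.flip_mem hm)
        (by rw [← Φ.flip_bL, hF.conj_mul, hF.conj_mul, hb]) (by rw [inv_mul_cancel_right]) hpq' ht' hact')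
    rw [hz'] at hact'
    have hL0 := Φ.act_flip hact'
    rw [hF.conj_conj] at hL0
    -- the left image is plain
    choose c hc using fun a : Pos => Φ.exists_v2 (mat Q m *ᵥ ten (Φ.f a.1) (Φ.f a.2))
    have d1 : kron oneA aA = kron (diagA ![1, 1, 1, 1]) (diagA ![-1, -1, 1, 1]) := by decide +kernel
    have d2 : kron aA oneA = kron (diagA ![-1, -1, 1, 1]) (diagA ![1, 1, 1, 1]) := by decide +kernel
    have d3 : kron oneA xA = kron (diagA ![1, 1, 1, 1]) (diagA ![-1, 1, -1, 1]) := by decide +kernel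
    have d4 : kron xA oneA = kron (diagA ![-1, 1, -1, 1]) (diagA ![1, 1, 1, 1]) := by decide +kernel
    have hone : ∀ i : Fin 4, (![1, 1, 1, 1] : Fin 4 → C) i = 1 := by decide
    have hdg : ∀ (s : Fin 4 → C) i, diagA s i i = s i := fun s i => by simp [diagA]
    have hab : ∀ a b, c a b ≠ 0 → aA b.2 b.2 = aA a.2 a.2 ∧ aA b.1 b.1 = aA a.1 a.1 := fun a b h0 => by
      have k1 := Φ.eigen_coord (Φ.act_aR.congr Φ d1) (Φ.image_coord (Φ.act_aR.congr Φ d1) ha a (hc a)) b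
      have k2 := Φ.eigen_coord (Φ.act_bL.congr Φ d2) (Φ.image_coord (Φ.act_bL.congr Φ d2) hb a (hc a)) b
      simp only [hone, one_mul, mul_one] at k1 k2
      simp only [aA, hdg]
      exact ⟨sub_eq_zero.1 ((mul_eq_zero.1 k1).resolve_right h0),
        sub_eq_zero.1 ((mul_eq_zero.1 k2).resolve_right h0)⟩
    have er : kron aA (revA (-1) 0 t (-t)) = kron (diagA ![-1, -1, 1, 1]) (diagA ![-1, 1, t, -t]) := by
      congr 1
      funext i j; fin_cases i <;> fin_cases j <;> simp [revA, diagA]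
    have hright : ∀ a b, c a b ≠ 0 →
        (![-1, -1, 1, 1] : Fin 4 → C) b.1 * (![-1, 1, t, -t] : Fin 4 → C) b.2 = (![-1, 1, -1, 1] : Fin 4 → C) a.2 :=
      fun a b hb' => by
        have k := Φ.eigen_coord (hact.congr Φ er) (Φ.image_coord (Φ.act_xR.congr Φ d3) hh a (hc a)) b
        rw [hone, one_mul] at k
        exact sub_eq_zero.1 ((mul_eq_zero.1 k).resolve_right hb')
    have hmz : m * Φ.zL = m * Φ.zL * m⁻¹ * m := by rw [inv_mul_cancel_right]
    rcases cases_pq p' q' hpq' with ⟨rfl, hp'⟩ | ⟨rfl, hq'⟩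
    swap
    · exfalso
      have hsupp : ∀ b, c (0, 0) b ≠ 0 → b = (0, 1) ∨ b = (1, 1) := fun b hb' => by
        obtain ⟨k1, k2⟩ := hab _ _ hb'
        obtain ⟨h1, h2'⟩ := ee_supp b (k1.trans (by decide)) (k2.trans (by decide))
        have k3 := hright _ _ hb'
        obtain ⟨i, j⟩ := b
        fin_cases i <;> fin_cases j <;>
          first
          | exact Or.inl rfl
          | exact Or.inr rfl
          | exact absurd h1.1 (by decide)
          | exact absurd h1 (by decide)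
          | exact absurd h2' (by decide)
          | (exfalso; simp at k3; exact absurd k3 (by decide))
      have hz0 : ∀ b, b ≠ (0, 1) → b ≠ (1, 1) → c (0, 0) b = 0 := fun b h1 h2' => by
        by_contra h0; rcases hsupp b h0 with h | h <;> contradiction
      have n := Φ.bf₂_image (hc (0, 0)) (hc (0, 0))
      rw [show bf₂ (e2 (0, 0)) (e2 (0, 0)) = 1 by decide +kernel, bf₂,
        Fintype.sum_prod_type] at n
      simp [Fin.sum_univ_four, eps, hz0] at n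
      have e := Φ.image_coord (Φ.act_zL.congr Φ d4) hmz (0, 0) (hc (0, 0))
      rw [Act.app Φ hL0, ← Φ.v2_smul] at e
      have e1 := congrFun (Φ.v2_inj e) (0, 1)
      rw [Fintype.sum_prod_type] at e1
      simp [Fin.sum_univ_four, hz0, kron, revA, aA, diagA] at e1
      have h30 : (3 : C) = 0 := by decide
      rcases cases_of_ne _ hq' with rfl | rfl
      · exact sq_ne_neg_one (c (0, 0) (1, 1)) (by linear_combination -n - (c (0, 0) (0, 1) + c (0, 0) (1, 1)) * e1 + (c (0, 0) (1, 1) * c (0, 0) (1, 1)) *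
          h30)
      · exact sq_ne_neg_one (c (0, 0) (1, 1)) (by linear_combination -n - (c (0, 0) (0, 1) - c (0, 0) (1, 1)) * e1 + (c (0, 0) (1, 1) * c (0, 0) (1, 1)) *
          h30)
    -- adjust the left image by the left rotation
    have hrb : Φ.rhoL * Φ.bL = Φ.bL * Φ.rhoL :=
      Φ.act_ext (Act.mul Φ Φ.act_rhoL Φ.act_bL) ((Act.mul Φ Φ.act_bL Φ.act_rhoL).congr Φ (by decide +kernel))
    have hra : Φ.rhoL * Φ.aR = Φ.aR * Φ.rhoL :=
      Φ.act_ext (Act.mul Φ Φ.act_rhoL Φ.act_aR) ((Act.mul Φ Φ.act_aR Φ.act_rhoL).congr Φ (by decide +kernel))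
    have hrM : Φ.rhoL ∈ M := Φ.LL_mem (by decide) (by decide) hG
    have fin : ∀ {m : Isom Q}, m ∈ M → m * Φ.aR = Φ.aR * m → m * Φ.bL = Φ.bL * m →
        ∀ {h h' : Isom Q}, m * Φ.xR = h * m → m * Φ.zL = h' * m → Φ.Act h (kron aA (revA (-1) 0 t (-t))) →
        Φ.Act h' (kron (revA (-1) 0 t' (-t')) aA) → m ∈ hF.Nr := by
      intro m hm ha hb h h' hh hh' hact hact'
      have er' : kron (revA (-1) 0 t' (-t')) aA = kron (diagA ![-1, 1, t', -t']) (diagA ![-1, -1, 1, 1]) := by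
        congr 1
        funext i j; fin_cases i <;> fin_cases j <;> simp [revA, diagA]
      choose c hc using fun a : Pos => Φ.exists_v2 (mat Q m *ᵥ ten (Φ.f a.1) (Φ.f a.2))
      have hall : ∀ a b, c a b ≠ 0 → ((![-1, -1, 1, 1] : Fin 4 → C) b.2 = (![-1, -1, 1, 1] : Fin 4 → C) a.2) ∧
          ((![-1, -1, 1, 1] : Fin 4 → C) b.1 = (![-1, -1, 1, 1] : Fin 4 → C) a.1) ∧
          (![-1, -1, 1, 1] : Fin 4 → C) b.1 * (![-1, 1, t, -t] : Fin 4 → C) b.2 =
            (![-1, 1, -1, 1] : Fin 4 → C) a.2 ∧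
          (![-1, 1, t', -t'] : Fin 4 → C) b.1 * (![-1, -1, 1, 1] : Fin 4 → C) b.2 =
            (![-1, 1, -1, 1] : Fin 4 → C) a.1 := fun a b hb' => by
        have k1 := Φ.eigen_coord (Φ.act_aR.congr Φ d1) (Φ.image_coord (Φ.act_aR.congr Φ d1) ha a (hc a)) b
        have k2 := Φ.eigen_coord (Φ.act_bL.congr Φ d2) (Φ.image_coord (Φ.act_bL.congr Φ d2) hb a (hc a)) b
        have k3 := Φ.eigen_coord (hact.congr Φ er) (Φ.image_coord (Φ.act_xR.congr Φ d3) hh a (hc a)) b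
        have k4 := Φ.eigen_coord (hact'.congr Φ er') (Φ.image_coord (Φ.act_zL.congr Φ d4) hh' a (hc a)) b
        simp only [hone, one_mul, mul_one] at k1 k2 k3 k4
        exact ⟨sub_eq_zero.1 ((mul_eq_zero.1 k1).resolve_right hb'),
          sub_eq_zero.1 ((mul_eq_zero.1 k2).resolve_right hb'), sub_eq_zero.1 ((mul_eq_zero.1 k3).resolve_right hb'),
          sub_eq_zero.1 ((mul_eq_zero.1 k4).resolve_right hb')⟩
      -- norms fix both signs
      have ht1 : t = 1 := by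
        rcases cases_of_ne _ ht with h1 | h1
        · exact h1
        exfalso
        have hz0 : ∀ b, b ≠ (0, 3) → c (0, 2) b = 0 := fun b hb' => by
          by_contra h0
          obtain ⟨a1, a2, a3, a4⟩ := hall _ _ h0
          rcases (keyt t t' b ht ht').1 a1 a2 a3 a4 with ⟨h2', -⟩ | ⟨-, h2'⟩
          · exact absurd (h1.symm.trans h2') (by decide)
          · exact hb' h2'
        have n := Φ.bf₂_image (hc (0, 2)) (hc (0, 2))
        rw [show bf₂ (e2 (0, 2)) (e2 (0, 2)) = 1 by decide +kernel, bf₂,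
          Finset.sum_eq_single ((0, 3) : Pos) (fun b _ hb' => by rw [hz0 b hb']; ring) (by simp)] at n
        simp [eps] at n
        exact sq_ne_neg_one (c (0, 2) (0, 3)) (by linear_combination -n)
      have ht1' : t' = 1 := by
        rcases cases_of_ne _ ht' with h1 | h1
        · exact h1
        exfalso
        have hz0 : ∀ b, b ≠ (3, 0) → c (2, 0) b = 0 := fun b hb' => by
          by_contra h0
          obtain ⟨a1, a2, a3, a4⟩ := hall _ _ h0
          rcases (keyt t t' b ht ht').2 a1 a2 a3 a4 with ⟨h2', -⟩ | ⟨-, h2'⟩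
          · exact absurd (h1.symm.trans h2') (by decide)
          · exact hb' h2'
        have n := Φ.bf₂_image (hc (2, 0)) (hc (2, 0))
        rw [show bf₂ (e2 (2, 0)) (e2 (2, 0)) = 1 by decide +kernel, bf₂,
          Finset.sum_eq_single ((3, 0) : Pos) (fun b _ hb' => by rw [hz0 b hb']; ring) (by simp)] at n
        simp [eps] at n
        exact sq_ne_neg_one (c (2, 0) (3, 0)) (by linear_combination -n)
      subst ht1 ht1'
      exact Φ.not_standard hG hm ha hb (hact.congr Φ (by decide +kernel)) (hact'.congr Φ (by decide +kernel)) hh hh'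
    rcases cases_of_ne _ hp' with rfl | rfl
    · obtain ⟨hgm, hga, hgb, -, hback⟩ := mv hrM (Φ.LL_kr _ _) hra hrb hm ha hb hz
      have hrx : Φ.rhoL * h * Φ.rhoL⁻¹ = h := by
        have hli : Φ.Act Φ.rhoL⁻¹ (kron ![![0, -1, 0, 0], ![1, 0, 0, 0], ![0, 0, 1, 0], ![0, 0, 0, 1]] oneA) := by
          rw [show Φ.rhoL⁻¹ = J * Φ.rhoR⁻¹ * J by
            rw [← Φ.flip_rhoR, _root_.mul_inv_rev, _root_.mul_inv_rev, hF.J_inv, mul_assoc]]
          exact Φ.act_flip Φ.act_rhoR_inv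
        refine Φ.act_ext ((Act.mul Φ (Act.mul Φ Φ.act_rhoL hact) hli).congr Φ ?_) hact
        rw [(mulA_one _).2, (mulA_one _).1]
        congr 1
        decide +kernel
      refine hback (fin (m := Φ.rhoL * m) hgm hga hgb (h := h)
        (h' := Φ.rhoL * (m * Φ.zL * m⁻¹) * Φ.rhoL⁻¹) ?_ (by group) hact ?_)
      · conv_rhs => rw [← hrx]
        rw [mul_assoc, hh]; group
      · have hli : Φ.Act Φ.rhoL⁻¹ (kron ![![0, -1, 0, 0], ![1, 0, 0, 0], ![0, 0, 1, 0], ![0, 0, 0, 1]] oneA) := by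
          rw [show Φ.rhoL⁻¹ = J * Φ.rhoR⁻¹ * J by
            rw [← Φ.flip_rhoR, _root_.mul_inv_rev, _root_.mul_inv_rev, hF.J_inv, mul_assoc]]
          exact Φ.act_flip Φ.act_rhoR_inv
        refine (Act.mul Φ (Act.mul Φ Φ.act_rhoL hL0) hli).congr Φ ?_
        rw [(rot_rev t').1, (mulA_one _).2, (mulA_one _).1]
    · exact fin hm ha hb hh hmz hact hL0
  obtain ⟨A, p, q, t, hA, hpq, ht, hact⟩ := Φ.x_image hG hm ha hb hx
  have hmx : m * Φ.xR = m * Φ.xR * m⁻¹ * m := by rw [inv_mul_cancel_right]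
  rcases hA with rfl | rfl
  · exact Φ.untwisted hG hm ha hmx hpq ht hact
  -- turn and rotate to the plain case
  have hRb : Φ.rhoR * Φ.bL = Φ.bL * Φ.rhoR :=
    Φ.act_ext (Act.mul Φ Φ.act_rhoR Φ.act_bL) ((Act.mul Φ Φ.act_bL Φ.act_rhoR).congr Φ (by decide +kernel))
  have hRa : Φ.rhoR * Φ.aR = Φ.aR * Φ.rhoR :=
    Φ.act_ext (Act.mul Φ Φ.act_rhoR Φ.act_aR) ((Act.mul Φ Φ.act_aR Φ.act_rhoR).congr Φ (by decide +kernel))
  have hRM : Φ.rhoR ∈ M := Φ.RR_mem (by decide) (by decide) hG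
  have sgn : ∀ {m : Isom Q}, m ∈ M → m * Φ.aR = Φ.aR * m → m * Φ.bL = Φ.bL * m → m * Φ.zL * m⁻¹ ∈ Kr Q →
      ∀ {h : Isom Q}, m * Φ.xR = h * m → ∀ {p t : C}, p ≠ 0 → t ≠ 0 → Φ.Act h (kron aA (revA p 0 t (-t))) →
      m ∈ hF.Nr := by
    intro m hm ha hb hz h hh p t hp ht hact
    rcases cases_of_ne _ hp with rfl | rfl
    · obtain ⟨hgm, hga, hgb, hgz, hback⟩ := mv hRM (Φ.RR_kr _ _) hRa hRb hm ha hb hz
      refine hback (plain hgm hga hgb hgz (h := Φ.rhoR * h * Φ.rhoR⁻¹) ?_ ht ?_)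
      · rw [mul_assoc, hh]; group
      · refine (Act.mul Φ (Act.mul Φ Φ.act_rhoR hact) Φ.act_rhoR_inv).congr Φ ?_
        rw [(rot_rev t).1, (mulA_one _).2, (mulA_one _).1]
    · exact plain hm ha hb hz hh ht hact
  rcases cases_pq p q hpq with ⟨rfl, hp⟩ | ⟨rfl, hq⟩
  · exact sgn hm ha hb hz hmx hp ht hact
  · obtain ⟨n, hnM, hnK, hnn, hn, hna, hnb⟩ := Φ.exists_turn hG
    obtain ⟨hgm, hga, hgb, hgz, hback⟩ := mv hnM hnK hna hnb hm ha hb hz
    refine hback (sgn hgm hga hgb hgz (h := n * (m * Φ.xR * m⁻¹) * n) ?_ hq (neg_ne_zero.2 ht) ?_)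
    · rw [show n * (m * Φ.xR * m⁻¹) * n * (n * m) = n * (m * Φ.xR * m⁻¹) * (n * n) * m by group, hnn]; group
    · have h1 := (Act.mul Φ (Act.mul Φ hn hact) hn).congr Φ ((turn_rev q t hq ht).2)
      rwa [neg_neg]

end Frame

end CfsgLib.TWGap
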