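import Cfsg.Agent.TensorWreathOrth.Gap.Three.Frame
import Cfsg.Agent.TensorWreathOrth.Gap.SliceFour

/-!
# Three elements: frames for a plane reflection pair, diagonal elements, rigidity
-/

set_option autoImplicit false
set_option linter.unusedSectionVars false

namespace CfsgLib.TWGap

open Matrix Module CfsgLib.Spinor CfsgLib.OrthMax CfsgLib.TensorOrth
open CfsgLib.TensorMax (Idx ten ten_add_left ten_add_right ten_smul_left ten_smul_right ten_eq_zero
  ten_inj_left ten_inj_right)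

variable {F : Type*} [Field F] [Fintype F] {k : ℕ} {Q : QuadraticForm F (Idx k k → F)}
  {B₁ B₂ : LinearMap.BilinForm F (Fin k → F)} {J : Isom Q} {M : Subgroup (Isom Q)}

namespace GCtx

variable {hF : Fl Q B₁ B₂ J} (hG : GCtx hF M)
include hG

/-- An anisotropic vector orthogonal to given anisotropic vectors. -/
theorem exists_aniso_orth {n : ℕ} (hn : n < 4) (hk : k = 4) (p : Fin n → Fin k → F)
    (hp : CfsgLib.TensorSlice.IsOrth B₂ p) : ∃ x, B₂ x x ≠ 0 ∧ ∀ i, B₂ x (p i) = 0 := by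
  classical
  have hs := hF.aset
  let W : Submodule F (Fin k → F) := CfsgLib.TensorSlice.perp B₂ p
  have hd := CfsgLib.TensorSlice.finrank_perp B₂ p
  by_contra! hall
  have hW0 : ∀ x ∈ W, B₂ x x = 0 := fun x hx => by
    by_contra h
    obtain ⟨i, hi⟩ := hall x h
    exact hi (CfsgLib.TensorSlice.mem_perp.1 hx i)
  have hne : W ≠ ⊥ := fun h => by
    change W = ⊥ at h
    have : finrank F W = 0 := by rw [h, finrank_bot]
    have h4 : k ≤ finrank F W + n := hd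
    omega
  obtain ⟨x, hx, hx0⟩ := (Submodule.ne_bot_iff _).1 hne
  obtain ⟨y, hy⟩ := hs.tset.f₂.exists_one hx0
  set y' := y - ∑ i, (B₂ y (p i) / B₂ (p i) (p i)) • p i with hy'
  have hy'W : y' ∈ W := CfsgLib.TensorSlice.mem_perp.2 fun j => by
    rw [hy', map_sub, LinearMap.sub_apply, map_sum, LinearMap.sum_apply, Finset.sum_eq_single j]
    · rw [map_smul, LinearMap.smul_apply, smul_eq_mul, div_mul_cancel₀ _ (hp.1 j), sub_self]
    · intro i _ hi
      rw [map_smul, LinearMap.smul_apply, hp.2 i j hi, smul_zero]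
    · simp
  have h1 : B₂ y' x = 1 := by
    rw [hy', map_sub, LinearMap.sub_apply, map_sum, LinearMap.sum_apply, hy,
      Finset.sum_eq_zero fun i _ => ?_, sub_zero]
    rw [map_smul, LinearMap.smul_apply, hs.symm₂ (p i) x, CfsgLib.TensorSlice.mem_perp.1 hx i, smul_zero]
  have h := hW0 _ (W.add_mem hy'W hx)
  simp only [map_add, LinearMap.add_apply, hW0 _ hy'W, hW0 _ hx, hs.symm₂ x y', h1] at h
  exact hs.two (by linear_combination h)

end GCtx

namespace Frame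

open Three

variable [CharP F 3] {hF : Fl Q B₁ B₂ J} (Φ : Frame hF)

/-- A pair of right reflections. -/
noncomputable def RR (v w : Fin 4 → C) : Isom Q := hF.aset.R (Φ.v1 v) * hF.aset.R (Φ.v1 w)

/-- A pair of left reflections. -/
noncomputable def LL (v w : Fin 4 → C) : Isom Q := hF.L (Φ.v1 v) * hF.L (Φ.v1 w)

theorem v1_aniso {w : Fin 4 → C} (hw : bf w w ≠ 0) : B₂ (Φ.v1 w) (Φ.v1 w) ≠ 0 := by
  rw [Φ.form_v1]; exact mul_ne_zero Φ.u_ne fun h => hw (cst_inj (by rw [h, map_zero]))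

theorem RR_mem {v w : Fin 4 → C} (hv : bf v v ≠ 0) (hw : bf w w ≠ 0) (hG : GCtx hF M) : Φ.RR v w ∈ M :=
  hG.mem_kr (hF.RR_omega (Φ.v1_aniso hv) (Φ.v1_aniso hw))
    ((Kr Q).mul_mem (hF.aset.R_mem _) (hF.aset.R_mem _))

theorem LL_mem {v w : Fin 4 → C} (hv : bf v v ≠ 0) (hw : bf w w ≠ 0) (hG : GCtx hF M) : Φ.LL v w ∈ M :=
  hG.mem_kr (hF.LL_omega (Φ.v1_aniso hv) (Φ.v1_aniso hw)) ((Kr Q).mul_mem (hF.L_mem _) (hF.L_mem _))

theorem RR_kr (v w : Fin 4 → C) : Φ.RR v w ∈ Kr Q := (Kr Q).mul_mem (hF.aset.R_mem _) (hF.aset.R_mem _)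

theorem LL_kr (v w : Fin 4 → C) : Φ.LL v w ∈ Kr Q := (Kr Q).mul_mem (hF.L_mem _) (hF.L_mem _)

theorem act_RR {v w : Fin 4 → C} (hv : bf v v ≠ 0) (hw : bf w w ≠ 0) {B : Fin 4 → Fin 4 → C}
    (h : mulA (rfA v) (rfA w) = B) : Φ.Act (Φ.RR v w) (kron oneA B) :=
  (Act.mul Φ (Φ.act_R hv) (Φ.act_R hw)).congr Φ (by rw [h, show mulA oneA oneA = oneA by decide])

theorem act_LL {v w : Fin 4 → C} (hv : bf v v ≠ 0) (hw : bf w w ≠ 0) {A : Fin 4 → Fin 4 → C}
    (h : mulA (rfA v) (rfA w) = A) : Φ.Act (Φ.LL v w) (kron A oneA) :=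
  (Act.mul Φ (Φ.act_L hv) (Φ.act_L hw)).congr Φ (by rw [h, show mulA oneA oneA = oneA by decide])

/-- `-1` on the elliptic plane, right. -/
noncomputable def aR : Isom Q := Φ.RR (e1 0) (e1 1)

/-- `-1` on the elliptic plane, left. -/
noncomputable def bL : Isom Q := Φ.LL (e1 0) (e1 1)

/-- The right rotation. -/
noncomputable def rhoR : Isom Q := Φ.RR (e1 0 + e1 1) (e1 0)

/-- The left rotation. -/
noncomputable def rhoL : Isom Q := Φ.LL (e1 0 + e1 1) (e1 0)

theorem act_aR : Φ.Act Φ.aR (kron oneA (diagA ![-1, -1, 1, 1])) :=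
  Φ.act_RR (by decide) (by decide) (by decide)

theorem act_bL : Φ.Act Φ.bL (kron (diagA ![-1, -1, 1, 1]) oneA) :=
  Φ.act_LL (by decide) (by decide) (by decide)

theorem act_rhoR : Φ.Act Φ.rhoR (kron oneA rhoA) := Φ.act_RR (by decide) (by decide) (by decide)

theorem act_rhoL : Φ.Act Φ.rhoL (kron rhoA oneA) := Φ.act_LL (by decide) (by decide) (by decide)

/-- Coordinates of eigenvectors of diagonal elements. -/
theorem eigen_coord {g : Isom Q} {s t : Fin 4 → C} (hg : Φ.Act g (kron (diagA s) (diagA t))) {x : Pos → C} {ε : C}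
    (h : mat Q g *ᵥ Φ.v2 x = cst F ε • Φ.v2 x) (b : Pos) : (s b.1 * t b.2 - ε) * x b = 0 := by
  rw [Act.app Φ hg, ← Φ.v2_smul] at h
  have h1 := congrFun (Φ.v2_inj h) b
  rw [Finset.sum_eq_single b (fun a _ ha => ?_) (by simp)] at h1
  · simp only [kron, diagA, Pi.smul_apply, smul_eq_mul, if_pos] at h1
    linear_combination h1
  · simp only [kron, diagA]
    rcases eq_or_ne b.1 a.1 with h2 | h2
    · rw [if_neg fun h3 : b.2 = a.2 => ha (Prod.ext h2.symm h3.symm)]; ring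
    · rw [if_neg h2]; ring

/-- A diagonal element on a frame tensor. -/
theorem diag_ten {g : Isom Q} {s t : Fin 4 → C} (hg : Φ.Act g (kron (diagA s) (diagA t))) (a : Pos) :
    mat Q g *ᵥ ten (Φ.f a.1) (Φ.f a.2) = cst F (s a.1 * t a.2) • ten (Φ.f a.1) (Φ.f a.2) := by
  rw [hg, ← Φ.v2_e2, ← Φ.v2_smul]
  congr 1
  funext b
  simp only [kron, diagA, e2, Pi.smul_apply, smul_eq_mul, Prod.ext_iff]
  by_cases h1 : b.1 = a.1 <;> by_cases h2 : b.2 = a.2 <;> simp [h1, h2]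

/-- A diagonal right element on a slice. -/
theorem diag_slice {g : Isom Q} {t : Fin 4 → C} (hg : Φ.Act g (kron oneA (diagA t))) (x : Fin k → F) (j : Fin 4) :
    mat Q g *ᵥ ten x (Φ.f j) = cst F (t j) • ten x (Φ.f j) := by
  obtain ⟨c, rfl⟩ := Φ.exists_v1 x
  rw [← Φ.v1_e1, Φ.ten_v1, Act.app Φ hg, ← Φ.v2_smul]
  congr 1
  funext b
  rw [Finset.sum_eq_single b (fun a _ ha => ?_) (by simp)]
  · simp only [kron, oneA, diagA, e1, Pi.smul_apply, smul_eq_mul, if_pos]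
    rcases eq_or_ne b.2 j with h | h
    · rw [h, if_pos rfl]; ring
    · rw [if_neg h]; ring
  · simp only [kron, oneA, diagA, e1]
    rcases eq_or_ne b.1 a.1 with h2 | h2
    · rw [if_neg fun h3 : b.2 = a.2 => ha (Prod.ext h2.symm h3.symm)]; ring
    · rw [if_neg h2]; ring

variable (hG : GCtx hF M)
include hG

/-- **Rigidity**: mapping two commuting right elements to right elements. -/
theorem rigid {m xs xt : Isom Q} (hm : m ∈ M) {s t : Fin 4 → C} (ha : m * Φ.aR = Φ.aR * m)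
    (hs : Φ.Act xs (kron oneA (diagA s))) (ht : Φ.Act xt (kron oneA (diagA t))) (hmx : m * xs = xt * m)
    (ht01 : t 0 ≠ t 1) (ht23 : t 2 ≠ t 3) : m ∈ hF.Nr := by
  classical
  have h2 := hF.aset.two
  -- the target column
  obtain ⟨j, hj⟩ : ∃ j : Fin 4, ∀ l : Fin 4, ((![-1, -1, 1, 1] : Fin 4 → C) l = 1 ∧ t l = s 3) → l = j := by
    by_cases h : t 2 = s 3
    · refine ⟨2, fun l => ?_⟩
      fin_cases l <;> intro ⟨h1, h3⟩ <;> first | rfl | exact absurd h1 (by decide) | exact absurd (h.trans h3.symm) ht23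
    · refine ⟨3, fun l => ?_⟩
      fin_cases l <;> intro ⟨h1, h3⟩ <;> first | rfl | exact absurd h1 (by decide) | exact absurd h3 h
  have hsl : ∀ x, ∃ x', mat Q m *ᵥ ten x (Φ.f 3) = ten x' (Φ.f j) := fun x => by
    obtain ⟨c, hc⟩ := Φ.exists_v2 (mat Q m *ᵥ ten x (Φ.f 3))
    refine ⟨Φ.v1 fun i => c (i, j), ?_⟩
    have e1' : mat Q Φ.aR *ᵥ Φ.v2 c = cst F 1 • Φ.v2 c := by
      rw [hc, ← Fl.mul_vec, ← ha, Fl.mul_vec, Φ.diag_slice Φ.act_aR, mulVec_smul]; rfl
    have e2' : mat Q xt *ᵥ Φ.v2 c = cst F (s 3) • Φ.v2 c := by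
      rw [hc, ← Fl.mul_vec, ← hmx, Fl.mul_vec, Φ.diag_slice hs, mulVec_smul]
    have hd : kron oneA (diagA ![-1, -1, 1, 1]) = kron (diagA ![1, 1, 1, 1]) (diagA ![-1, -1, 1, 1]) := by decide
    have hone : oneA = diagA ![1, 1, 1, 1] := by decide
    have h0 : ∀ b : Pos, b.2 ≠ j → c b = 0 := fun b hb => by
      have k1 := Φ.eigen_coord (Φ.act_aR.congr Φ hd) e1' b
      have k2 := Φ.eigen_coord (ht.congr Φ (by rw [hone])) e2' b
      have hone' : ∀ i : Fin 4, (![1, 1, 1, 1] : Fin 4 → C) i = 1 := by decide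
      rw [hone', one_mul] at k1 k2
      by_contra hc0
      exact hb (hj b.2 ⟨sub_eq_zero.1 ((mul_eq_zero.1 k1).resolve_right hc0),
        sub_eq_zero.1 ((mul_eq_zero.1 k2).resolve_right hc0)⟩)
    rw [← hc, ← Φ.v1_e1 j, Φ.ten_v1]
    congr 1
    funext b
    rcases eq_or_ne b.2 j with h | h
    · obtain ⟨b1, b2⟩ := b
      subst h
      simp [e1]
    · simp [e1, h, h0 b h]
  refine hG.mem_of_conj_R hm (Φ.f_ne 3) (Φ.f_ne j) ?_
  choose f' hf' using hsl
  rw [mul_inv_eq_iff_eq_mul]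
  refine hF.ext fun x y => ?_
  have hjn : Φ.f j ≠ 0 := fun h0 => Φ.f_ne j (by simp [h0])
  have he3 := Φ.f_ne 3
  let fL : (Fin k → F) →ₗ[F] (Fin k → F) :=
    { toFun := f'
      map_add' := fun a b => ten_inj_left hjn (by rw [← hf', ten_add_left, mulVec_add, hf', hf', ← ten_add_left])
      map_smul' := fun r a => ten_inj_left hjn (by
        rw [← hf', ten_smul_left, mulVec_smul, hf', RingHom.id_apply, ← ten_smul_left]) }
  have hf3 : Φ.f 3 ≠ 0 := fun h0 => he3 (by simp [h0])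
  have hsurj : Function.Surjective fL := LinearMap.surjective_of_injective fun a b hab =>
    ten_inj_left hf3 (mulVec_injective m (by
      show mat Q m *ᵥ _ = mat Q m *ᵥ _
      rw [hf', hf', show f' a = f' b from hab]))
  rw [Fl.mul_vec, Fl.mul_vec, hF.aset.R_vec he3, hF.aset.R_vec (Φ.f_ne j), mulVec_sub, mulVec_smul, hf']
  congr 1
  rw [← ten_smul_left, ← ten_smul_left]
  congr 1
  -- compare the contractions
  refine sub_eq_zero.1 (hF.aset.tset.f₁.sep fun z => ?_)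
  obtain ⟨z', rfl⟩ := hsurj z
  rw [map_sub, LinearMap.sub_apply, map_smul, map_smul, LinearMap.smul_apply, LinearMap.smul_apply,
    ← hF.aset.tset.polar_ten (mat Q m *ᵥ ten x y), show fL z' = f' z' from rfl, ← hf', polar_mulVec,
    hF.aset.tset.polar_ten, evB_ten, smul_eq_mul, smul_eq_mul]
  have key := polar_mulVec Q m (ten (B₂ y (Φ.f 3) • x) (Φ.f 3)) (ten z' (Φ.f 3))
  rw [hf', hf', hF.aset.tset.polar, hF.aset.tset.polar] at key
  have := Φ.f_ne j
  field_simp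
  linear_combination 2 * key

/-- Elements commuting with two commuting right elements. -/
theorem rigid_comm {m xs : Isom Q} (hm : m ∈ M) {s : Fin 4 → C} (ha : m * Φ.aR = Φ.aR * m)
    (hs : Φ.Act xs (kron oneA (diagA s))) (hmx : m * xs = xs * m) (h01 : s 0 ≠ s 1) (h23 : s 2 ≠ s 3) :
    m ∈ hF.Nr :=
  Φ.rigid hG hm ha hs hs hmx h01 h23

/-- **The rotation**: elements commuting with `aR` normalise it. -/
theorem conj_rhoR {y : Isom Q} (hy : y ∈ M) (ha : y * Φ.aR = Φ.aR * y) :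
    y * Φ.rhoR * y⁻¹ = Φ.rhoR ∨ y * Φ.rhoR * y⁻¹ = Φ.rhoR⁻¹ := by
  classical
  set z := y * Φ.rhoR * y⁻¹ with hz
  have hfix : ∀ j : Fin 4, 2 ≤ j.val → ∀ x, mat Q z *ᵥ ten x (Φ.f j) = ten x (Φ.f j) := by
    intro j hj x
    rw [hz, Fl.mul_vec, Fl.mul_vec]
    set v := mat Q y⁻¹ *ᵥ ten x (Φ.f j) with hv
    obtain ⟨c, hc⟩ := Φ.exists_v2 v
    have ha' : Φ.aR * y⁻¹ = y⁻¹ * Φ.aR := ((Commute.inv_right (show Commute Φ.aR y from ha.symm))).eq
    have e1' : mat Q Φ.aR *ᵥ Φ.v2 c = cst F 1 • Φ.v2 c := by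
      rw [hc, hv, ← Fl.mul_vec, ha', Fl.mul_vec, Φ.diag_slice Φ.act_aR, mulVec_smul]
      congr 2
      fin_cases j <;> first | rfl | simp at hj
    have h0 : ∀ b : Pos, b.2.val < 2 → c b = 0 := fun b hb => by
      have hd : kron oneA (diagA ![-1, -1, 1, 1]) = kron (diagA ![1, 1, 1, 1]) (diagA ![-1, -1, 1, 1]) := by decide
      have k1 := Φ.eigen_coord (Φ.act_aR.congr Φ hd) e1' b
      have h2' : ∀ b : Pos, b.2.val < 2 →
          (![1, 1, 1, 1] : Fin 4 → C) b.1 * (![-1, -1, 1, 1] : Fin 4 → C) b.2 - 1 ≠ 0 := by decide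
      exact (mul_eq_zero.1 k1).resolve_left (h2' b hb)
    have hr : mat Q Φ.rhoR *ᵥ v = v := by
      rw [← hc, Act.app Φ Φ.act_rhoR]
      congr 1
      funext b
      rw [Finset.sum_eq_single b]
      · rcases Nat.lt_or_ge b.2.val 2 with h | h
        · rw [h0 b h, zero_mul]
        · have hk : ∀ b : Pos, 2 ≤ b.2.val → kron oneA rhoA b b = 1 := by decide
          rw [hk b h, mul_one]
      · intro a _ hab
        rcases Nat.lt_or_ge a.2.val 2 with h | h
        · rw [h0 a h, zero_mul]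
        · have hk : ∀ a b : Pos, 2 ≤ a.2.val → a ≠ b → kron oneA rhoA a b = 0 := by decide +kernel
          rw [hk a b h hab, mul_zero]
      · simp
    rw [hr, hv, mulVec_cancel']
  have hfixR : ∀ x, mat Q z *ᵥ ten x (Φ.f 2) = ten x (Φ.f 2) := hfix 2 le_rfl
  have hzM : z ∈ M := M.mul_mem (M.mul_mem hy (Φ.RR_mem (by decide) (by decide) hG)) (M.inv_mem hy)
  have hzK := hG.mem_kr_of_fix hzM (Φ.f_ne 2) hfixR
  obtain ⟨T, hT, -⟩ := hF.aset.kr_fix hzK (fun h0 => Φ.f_ne 2 (by simp [h0])) hfixR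
  obtain ⟨B, hB⟩ := Φ.exists_mp (T.1 : Matrix (Fin k) (Fin k) F)
  have hzact : Φ.Act z (kron oneA B) := Φ.act_kron (S := 1)
    (fun x y => by rw [hT, hF.aset.kR_ten, one_mulVec]) Φ.mp_one hB
  have hfB : ∀ j : Fin 4, 2 ≤ j.val → B j = e1 j := fun j hj => by
    refine Φ.v1_inj (ten_inj_right (show Φ.f 0 ≠ 0 from fun h0 => Φ.f_ne 0 (by simp [h0])) ?_)
    rw [← hB, Φ.v1_e1, ← hF.aset.kR_ten, ← hT, hfix j hj]
  obtain ⟨m1, hm1, hbf⟩ := Mp.bf_eq Φ hB (μ := 1) fun x y => by rw [one_mul]; exact T.2 x y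
  have hm1' : m1 = 1 := cst_inj (F := F) (by rw [hm1, map_one])
  subst hm1'
  have hsq : z * z = Φ.aR := by
    rw [hz, show y * Φ.rhoR * y⁻¹ * (y * Φ.rhoR * y⁻¹) = y * (Φ.rhoR * Φ.rhoR) * y⁻¹ by group,
      Φ.act_ext ((Act.mul Φ Φ.act_rhoR Φ.act_rhoR).congr Φ
        (show kron (mulA oneA oneA) (mulA rhoA rhoA) = kron oneA (diagA ![-1, -1, 1, 1]) by decide +kernel)) Φ.act_aR,
      ha, mul_inv_cancel_right]
  have hB2 : mulA B B = diagA ![-1, -1, 1, 1] := by
    have h1 := ((Act.mul Φ hzact hzact).congr Φ (show kron (mulA oneA oneA) (mulA B B) = kron oneA (mulA B B) by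
      rw [show mulA oneA oneA = oneA by decide]))
    rw [hsq] at h1
    have h3 := Act.unique Φ h1 Φ.act_aR
    funext i j
    have h4 := congrFun (congrFun h3 (0, i)) (0, j)
    simpa [kron, oneA, e1] using h4
  -- the two columns on the elliptic plane
  have horth : ∀ i : Fin 4, i.val < 2 → ∀ j : Fin 4, 2 ≤ j.val → B i j = 0 := fun i hi j hj => by
    have h1 := hbf i j
    rw [hfB j hj] at h1
    have h3 : ∀ (v : Fin 4 → C) (j : Fin 4), bf v (e1 j) = eps j * v j := fun v j => by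
      rw [bf, Finset.sum_eq_single j (fun b _ hb => by simp [e1, hb]) (by simp)]; simp [e1]
    have h4 : ∀ i j : Fin 4, i.val < 2 → 2 ≤ j.val → bf (e1 i) (e1 j) = 0 := by decide
    have h5 : ∀ j, eps j ≠ 0 := by decide
    rw [h3, h4 i j hi hj, mul_zero] at h1
    exact (mul_eq_zero.1 h1).resolve_left (h5 j)
  have key : ∀ p q r s : C, p * p + q * q = 1 → p * p + q * r = -1 → p * q + q * s = 0 → r * p + s * r = 0 →
      r * q + s * s = -1 → (p = 0 ∧ s = 0 ∧ r = -q ∧ (q = 1 ∨ q = -1)) := by decide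
  have h00 := hbf 0 0
  have a00 := congrFun (congrFun hB2 0) 0
  have a01 := congrFun (congrFun hB2 0) 1
  have a10 := congrFun (congrFun hB2 1) 0
  have a11 := congrFun (congrFun hB2 1) 1
  simp [mulA, bf, e1, eps, diagA, Fin.sum_univ_four, horth 0 (by decide) 2 (by decide),
    horth 0 (by decide) 3 (by decide), horth 1 (by decide) 2 (by decide), horth 1 (by decide) 3 (by decide)]
    at h00 a00 a01 a10 a11
  obtain ⟨hp, hs', hr, hq⟩ := key _ _ _ _ h00 a00 a01 a10 a11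
  have hrhoinv : Φ.Act Φ.rhoR⁻¹ (kron oneA ![![0, -1, 0, 0], ![1, 0, 0, 0], ![0, 0, 1, 0], ![0, 0, 0, 1]]) := by
    rw [show Φ.rhoR⁻¹ = Φ.RR (e1 0) (e1 0 + e1 1) by
      rw [rhoR, RR, _root_.mul_inv_rev, hF.aset.R_inv, hF.aset.R_inv]; rfl]
    exact Φ.act_RR (by decide) (by decide) (by decide)
  rcases hq with hq | hq
  · refine Or.inl (Φ.act_ext hzact (Φ.act_rhoR.congr Φ ?_))
    congr 1
    funext i j
    fin_cases i <;> fin_cases j <;>
      simp [rhoA, hfB, e1, hp, hs', hr, hq, horth]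
  · refine Or.inr (Φ.act_ext hzact (hrhoinv.congr Φ ?_))
    congr 1
    funext i j
    fin_cases i <;> fin_cases j <;>
      simp [hfB, e1, hp, hs', hr, hq, horth]

end Frame

namespace GCtx

variable {hF : Fl Q B₁ B₂ J} (hG : GCtx hF M)
include hG

/-- A frame carrying a pair of orthogonal reflections, up to sign. -/
theorem exists_frame (hk : k = 4) (h3 : Fintype.card F = 3) [CharP F 3] {e g : Fin k → F} (he : B₂ e e ≠ 0)
    (hg : B₂ g g ≠ 0) (heg : B₂ e g = 0) : ∃ Φ : Frame hF,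
      ∀ y : Isom Q, y * (hF.aset.R e * hF.aset.R g) = (hF.aset.R e * hF.aset.R g) * y → y * Φ.aR = Φ.aR * y := by
  classical
  have hs := hF.aset
  have hge : B₂ g e = 0 := by rw [hs.symm₂]; exact heg
  obtain ⟨h, hh, hhp⟩ := hG.exists_aniso_orth (by norm_num) hk ![e, g]
    ⟨fun i => by fin_cases i <;> assumption, fun i j hij => by
      fin_cases i <;> fin_cases j <;> first | exact absurd rfl hij | assumption⟩
  have h_e : B₂ h e = 0 := hhp 0
  have h_g : B₂ h g = 0 := hhp 1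
  have e_h : B₂ e h = 0 := by rw [hs.symm₂]; exact h_e
  have g_h : B₂ g h = 0 := by rw [hs.symm₂]; exact h_g
  obtain ⟨l, hl, hlp⟩ := hG.exists_aniso_orth (by norm_num) hk ![e, g, h]
    ⟨fun i => by fin_cases i <;> assumption, fun i j hij => by
      fin_cases i <;> fin_cases j <;> first | exact absurd rfl hij | assumption⟩
  have l_e : B₂ l e = 0 := hlp 0
  have l_g : B₂ l g = 0 := hlp 1
  have l_h : B₂ l h = 0 := hlp 2
  have e_l : B₂ e l = 0 := by rw [hs.symm₂]; exact l_e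
  have g_l : B₂ g l = 0 := by rw [hs.symm₂]; exact l_g
  have h_l : B₂ h l = 0 := by rw [hs.symm₂]; exact l_h
  have hsurj := ((Fintype.bijective_iff_injective_and_card (Frame.cst F)).2
    ⟨Frame.cst_inj, by rw [h3, ZMod.card]⟩).2
  have hneg : ∀ {a b : F}, a ≠ 0 → b ≠ 0 → a ≠ b → b = -a := fun {a b} ha hb hab => by
    obtain ⟨c, rfl⟩ := hsurj a
    obtain ⟨d, rfl⟩ := hsurj b
    rw [← map_neg]
    have key : ∀ c d : Three.C, c ≠ 0 → d ≠ 0 → c ≠ d → d = -c := by decide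
    exact congrArg _ (key c d (fun h => ha (by rw [h, map_zero])) (fun h => hb (by rw [h, map_zero]))
      fun h => hab (by rw [h]))
  have h30 : (3 : F) = 0 := by exact_mod_cast CharP.cast_eq_zero F 3
  have hpl := hG.plane hk
  have hno : ∀ {a b c d : Fin k → F}, B₂ a b = 0 → B₂ a c = 0 → B₂ a d = 0 → B₂ b c = 0 → B₂ b d = 0 →
      B₂ c d = 0 → B₂ a a ≠ 0 → B₂ b b ≠ 0 → B₂ c c = -B₂ a a → B₂ d d = -B₂ b b → False := by
    intro a b c d hab hac had hbc hbd hcd ha hb hc hd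
    have hca : B₂ c a = 0 := by rw [hs.symm₂]; exact hac
    have hdb : B₂ d b = 0 := by rw [hs.symm₂]; exact hbd
    obtain ⟨r, hr⟩ := hpl (a + c) (b + d)
      (fun h0 => ha (by have := congrArg (fun v => B₂ v a) h0; simpa [hca] using this))
      (by simp [hac, hca, hc]) (by simp [hbd, hdb, hd])
      (by simp [hab, had, hcd, hs.symm₂ c b, hbc])
    have := congrArg (fun v => B₂ v b) hr
    simp [hab, hdb, hs.symm₂ c b, hbc] at this
    exact hb this.symm
  have hfour : ∀ {v : F}, B₂ e e = v → B₂ g g = v → B₂ h h = v → B₂ l l = v → False := by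
    intro v ve vg vh vl
    have hg' : B₂ g g = B₂ e e := by rw [vg, ve]
    obtain ⟨r, hr⟩ := hpl (e + g + h) (e - g + l)
      (fun h0 => he (by have := congrArg (fun v => B₂ v e) h0; simpa [hge, h_e] using this))
      (by simp [heg, hge, e_h, h_e, g_h, h_g, ve, vg, vh]; linear_combination v * h30)
      (by simp [heg, hge, e_l, l_e, g_l, l_g, ve, vg, vl]; linear_combination v * h30)
      (by simp [heg, hge, e_l, l_e, g_l, l_g, e_h, h_e, g_h, h_g, h_l, ve, vg])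
    have := congrArg (fun v => B₂ v l) hr
    simp [e_l, g_l, h_l] at this
    exact hl this.symm
  obtain ⟨κ, hκ, hκv⟩ := hF.prop
  -- the frame and its reflection pair
  have mk : ∀ (a b c d : Fin k → F), B₂ a b = 0 → B₂ a c = 0 → B₂ a d = 0 → B₂ b c = 0 → B₂ b d = 0 →
      B₂ c d = 0 → B₂ a a ≠ 0 → B₂ b b = B₂ a a → B₂ c c = B₂ a a → B₂ d d = -B₂ a a →
      ∃ Φ : Frame hF, Φ.f = ![a, b, c, d] := fun a b c d hab hac had hbc hbd hcd ha hb hc hd =>
    ⟨⟨hk, h3, ![a, b, c, d], B₂ a a, κ, ha, hκ, hκv, fun i => by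
      fin_cases i <;> simp [hb, hc, hd], fun i j hij => by
      fin_cases i <;> fin_cases j <;>
        first | exact absurd rfl hij | assumption | (rw [hs.symm₂]; assumption)⟩, rfl⟩
  by_cases hp : B₂ g g = B₂ e e
  · have hhl : B₂ h h ≠ B₂ l l := fun hhl => by
      by_cases hh' : B₂ h h = B₂ e e
      · exact hfour rfl hp hh' (hhl ▸ hh')
      · exact hno heg e_h e_l g_h g_l h_l he hg (hneg he hh fun h' => hh' h'.symm)
          (by rw [← hhl, hp]; exact hneg he hh fun h' => hh' h'.symm)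
    obtain ⟨Φ, hΦ⟩ : ∃ Φ : Frame hF, Φ.f 0 = e ∧ Φ.f 1 = g := by
      by_cases hh' : B₂ h h = B₂ e e
      · obtain ⟨Φ, hΦ⟩ := mk e g h l heg e_h e_l g_h g_l h_l he hp hh'
          (hneg he hl fun h' => hhl (hh'.trans h'))
        exact ⟨Φ, by simp [hΦ], by simp [hΦ]⟩
      · have h' := hneg he hh fun h' => hh' h'.symm
        obtain ⟨Φ, hΦ⟩ := mk e g l h heg e_l e_h g_l g_h l_h he hp
          (by have := hneg hh hl hhl; rw [this, h', neg_neg]) h'
        exact ⟨Φ, by simp [hΦ], by simp [hΦ]⟩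
    refine ⟨Φ, fun y hy => ?_⟩
    rw [show Φ.aR = hF.aset.R e * hF.aset.R g by
      rw [Frame.aR, Frame.RR, Φ.v1_e1, Φ.v1_e1, hΦ.1, hΦ.2]]
    exact hy
  · have hge' : B₂ g g = -B₂ e e := hneg he hg fun h' => hp h'.symm
    have hhl : B₂ l l = B₂ h h := by
      by_contra hhl
      exact hno (a := e) (b := h) (c := g) (d := l) e_h heg e_l h_g h_l g_l he hh hge'
        (hneg hh hl fun h' => hhl h'.symm)
    obtain ⟨Φ, h0, h1, h23⟩ : ∃ Φ : Frame hF, Φ.f 0 = h ∧ Φ.f 1 = l ∧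
        ((Φ.f 2 = e ∧ Φ.f 3 = g) ∨ (Φ.f 2 = g ∧ Φ.f 3 = e)) := by
      by_cases he' : B₂ e e = B₂ h h
      · obtain ⟨Φ, hΦ⟩ := mk h l e g h_l h_e h_g l_e l_g heg hh hhl he' (by rw [hge', he'])
        exact ⟨Φ, by simp [hΦ], by simp [hΦ], Or.inl ⟨by simp [hΦ], by simp [hΦ]⟩⟩
      · have h' := hneg hh he fun h' => he' h'.symm
        obtain ⟨Φ, hΦ⟩ := mk h l g e h_l h_g h_e l_g l_e hge hh hhl (by rw [hge', h', neg_neg]) h'
        exact ⟨Φ, by simp [hΦ], by simp [hΦ], Or.inr ⟨by simp [hΦ], by simp [hΦ]⟩⟩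
    refine ⟨Φ, fun y hy => ?_⟩
    have hd : Φ.Act (hF.aset.R e * hF.aset.R g) (Three.kron Three.oneA (Three.diagA ![1, 1, -1, -1])) := by
      rcases h23 with ⟨e2', e3'⟩ | ⟨e2', e3'⟩
      · rw [← e2', ← e3', ← Φ.v1_e1, ← Φ.v1_e1 3]
        exact Φ.act_RR (by decide) (by decide) (by decide)
      · rw [← e2', ← e3', ← Φ.v1_e1, ← Φ.v1_e1 2]
        exact Φ.act_RR (by decide) (by decide) (by decide)
    have hneg' : ∀ v, mat Q Φ.aR *ᵥ v = -(mat Q (hF.aset.R e * hF.aset.R g) *ᵥ v) := fun v => by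
      obtain ⟨c, rfl⟩ := Φ.exists_v2 v
      rw [Frame.Act.app Φ Φ.act_aR, Frame.Act.app Φ hd, eq_neg_iff_add_eq_zero, ← Φ.v2_add,
        show (0 : Idx k k → F) = Φ.v2 0 by simp [Frame.v2]]
      congr 1
      funext b
      rw [Pi.add_apply, ← Finset.sum_add_distrib, Pi.zero_apply]
      refine Finset.sum_eq_zero fun a _ => ?_
      have hk' : ∀ a b : Three.Pos, Three.kron Three.oneA (Three.diagA ![-1, -1, 1, 1]) a b =
          -1 * Three.kron Three.oneA (Three.diagA ![1, 1, -1, -1]) a b := by decide +kernel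
      rw [hk']; ring
    refine hF.ext fun x x' => ?_
    rw [Fl.mul_vec, Fl.mul_vec, hneg', hneg', mulVec_neg, ← Fl.mul_vec, hy, Fl.mul_vec]

end GCtx

end CfsgLib.TWGap
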