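import Cfsg.Agent.TensorWreathOrth.Gap.Three.Classify

/-!
# Three elements: elements normalising the centraliser of two plane involutions of both sides
-/

set_option autoImplicit false
set_option linter.unusedSectionVars false

namespace CfsgLib.TWGap

open Matrix Module CfsgLib.Spinor CfsgLib.OrthMax CfsgLib.TensorOrth
open CfsgLib.TensorMax (Idx ten ten_add_left ten_add_right ten_smul_left ten_smul_right ten_eq_zero)

namespace Three

/-- The signs of the elliptic plane. -/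
def aA : Fin 4 → Fin 4 → C := diagA ![-1, -1, 1, 1]

/-- The signs of the test element. -/
def xA : Fin 4 → Fin 4 → C := diagA ![-1, 1, -1, 1]

/-- The signs of its standard twisted image. -/
def yA : Fin 4 → Fin 4 → C := diagA ![-1, 1, 1, -1]

/-- The positions under a standard twisted element. -/
def piP (a : Pos) : Pos :=
  if (a.1.val < 2 ∧ a.2.val < 2) ∨ (2 ≤ a.1.val ∧ 2 ≤ a.2.val) then
    (![1, 0, 3, 2] a.1, ![1, 0, 3, 2] a.2) else a

/-- A monomial array. -/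
def monA (σ : Pos → C) : Pos → Pos → C := fun a b => if b = piP a then σ a else 0

theorem piP_chars : ∀ a b : Pos,
    (aA b.2 b.2 = aA a.2 a.2 ∧ aA b.1 b.1 = aA a.1 a.1 ∧ aA b.1 b.1 * yA b.2 b.2 = xA a.2 a.2 ∧
      yA b.1 b.1 * aA b.2 b.2 = xA a.1 a.1) → b = piP a := by decide +kernel

theorem key_hh : ∀ w p q p' q' : C, w ≠ 0 → w * (p * p + q * q) = 1 → w * (p' * p' + q' * q') = -1 →
    w * (p * p' + q * q') = 0 → False := by decide

/-- The signs of an involution after normalisation. -/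
def tauS (τ ω ω' : C) : Pos → C := fun a =>
  if a.1.val < 2 ∧ a.2.val < 2 then (if a.1.val = a.2.val then τ else -τ)
  else if 2 ≤ a.1.val ∧ 2 ≤ a.2.val then (if a.1.val = a.2.val then ω else ω') else 1

/-- Reflection vectors of a normalised involution. -/
def tauW (τ ω ω' : C) : List (Pos → C) :=
  [fun b => e2 (0, 0) b - τ * e2 (1, 1) b, fun b => e2 (0, 1) b + τ * e2 (1, 0) b,
   fun b => e2 (2, 2) b - ω * e2 (3, 3) b, fun b => e2 (2, 3) b - ω' * e2 (3, 2) b]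

theorem tau_fold (τ ω ω' : C) (h : τ ≠ 0) (h' : ω ≠ 0) (h'' : ω' ≠ 0) :
    ∀ a b, (tauW τ ω ω').foldr rf₂ (e2 a) b = monA (tauS τ ω ω') a b := by
  rcases cases_of_ne _ h with rfl | rfl <;> rcases cases_of_ne _ h' with rfl | rfl <;>
    rcases cases_of_ne _ h'' with rfl | rfl <;> decide +kernel

theorem tau_values (τ ω ω' : C) (h : τ ≠ 0) (h' : ω ≠ 0) (h'' : ω' ≠ 0) :
    ((tauW τ ω ω').map fun w => bf₂ w w) = [-1, -1, -1, 1] := by
  rcases cases_of_ne _ h with rfl | rfl <;> rcases cases_of_ne _ h' with rfl | rfl <;>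
    rcases cases_of_ne _ h'' with rfl | rfl <;> decide +kernel

theorem mon_sum (x σ : Pos → C) (b : Pos) : ∑ a, x a * monA σ a b = x (piP b) * σ (piP b) := by
  have h : ∀ a, piP (piP a) = a := by decide +kernel
  rw [Finset.sum_eq_single (piP b) (fun a _ ha => ?_) (by simp)]
  · simp [monA, h]
  · rw [monA, if_neg (fun hb : b = piP a => ha (by rw [hb, h])), mul_zero]

theorem unit_key {a b c d x y e : C} (ha : a ≠ 0) (hd : d ≠ 0) (hx : x ≠ 0) (h1 : a * b * c * d = e)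
    (h2 : x * y = e) : a * d * y = b * c * x := by
  linear_combination (a * d * x) * (h2 - h1) - (a * d * y) * sq_of_ne x hx +
    (b * c * x) * sq_of_ne (a * d) (mul_ne_zero ha hd)

theorem piP_swap : ∀ a : Pos, piP (a.2, a.1) = ((piP a).2, (piP a).1) := by decide +kernel

/-- Relations between the signs of a standard twisted element. -/
structure SignRel (σ : Pos → C) (δ ε : C) : Prop where
  ne : ∀ a, σ a ≠ 0
  hδ : δ * δ = 1
  hε : ε * ε = 1
  r10 : σ (1, 0) = -δ * σ (0, 0)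
  r11 : σ (1, 1) = -δ * σ (0, 1)
  r12 : σ (1, 2) = δ * σ (0, 2)
  r13 : σ (1, 3) = δ * σ (0, 3)
  r01 : σ (0, 1) = -ε * σ (0, 0)
  r21 : σ (2, 1) = ε * σ (2, 0)
  r31 : σ (3, 1) = ε * σ (3, 0)
  q22 : σ (2, 2) * σ (3, 3) = δ * ε
  q23 : σ (2, 3) * σ (3, 2) = δ * ε

end Three

variable {F : Type*} [Field F] [Fintype F] {k : ℕ} {Q : QuadraticForm F (Idx k k → F)}
  {B₁ B₂ : LinearMap.BilinForm F (Fin k → F)} {J : Isom Q} {M : Subgroup (Isom Q)}

namespace Frame

open Three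

variable [CharP F 3] {hF : Fl Q B₁ B₂ J} (Φ : Frame hF)

/-- The right test element. -/
noncomputable def xR : Isom Q := Φ.RR (e1 0) (e1 2)

/-- The left test element. -/
noncomputable def zL : Isom Q := Φ.LL (e1 0) (e1 2)

theorem act_xR : Φ.Act Φ.xR (kron oneA xA) := Φ.act_RR (by decide) (by decide) (by decide)

theorem act_zL : Φ.Act Φ.zL (kron xA oneA) := Φ.act_LL (by decide) (by decide) (by decide)

theorem flip_zL : J * Φ.zL * J = Φ.xR := Φ.act_ext (Φ.act_flip Φ.act_zL) Φ.act_xR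

theorem flip_xR : J * Φ.xR * J = Φ.zL := Φ.act_ext (Φ.act_flip Φ.act_xR) Φ.act_zL

theorem flip_rhoR : J * Φ.rhoR * J = Φ.rhoL := Φ.act_ext (Φ.act_flip Φ.act_rhoR) Φ.act_rhoL

theorem flip_rhoL : J * Φ.rhoL * J = Φ.rhoR := Φ.act_ext (Φ.act_flip Φ.act_rhoL) Φ.act_rhoR

/-- Coordinates of eigenvectors supported where the arrays are diagonal. -/
theorem eigen_on {g : Isom Q} {T : Pos → Pos → C} (hg : Φ.Act g T) {x : Pos → C} {ε : C}
    (hx : ∀ a b, x a ≠ 0 → b ≠ a → T a b = 0) (h : mat Q g *ᵥ Φ.v2 x = cst F ε • Φ.v2 x) (b : Pos) :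
    (T b b - ε) * x b = 0 := by
  rw [Act.app Φ hg, ← Φ.v2_smul] at h
  have h1 := congrFun (Φ.v2_inj h) b
  rw [Finset.sum_eq_single b (fun a _ ha => ?_) (by simp)] at h1
  · simp only [Pi.smul_apply, smul_eq_mul] at h1
    linear_combination h1
  · by_cases hxa : x a = 0
    · rw [hxa, zero_mul]
    · rw [hx a b hxa (Ne.symm ha), mul_zero]

/-- The image of a frame tensor, in coordinates. -/
theorem image_coord {m g g' : Isom Q} {s t : Fin 4 → C} (hg : Φ.Act g (kron (diagA s) (diagA t)))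
    (hm : m * g = g' * m) (a : Pos) {c : Pos → C} (hc : Φ.v2 c = mat Q m *ᵥ ten (Φ.f a.1) (Φ.f a.2)) :
    mat Q g' *ᵥ Φ.v2 c = cst F (s a.1 * t a.2) • Φ.v2 c := by
  rw [hc, ← Fl.mul_vec, ← hm, Fl.mul_vec, Φ.diag_ten hg, mulVec_smul]

theorem bf₂_image {m : Isom Q} {a b : Pos} {c d : Pos → C} (hc : Φ.v2 c = mat Q m *ᵥ ten (Φ.f a.1) (Φ.f a.2))
    (hd : Φ.v2 d = mat Q m *ᵥ ten (Φ.f b.1) (Φ.f b.2)) : bf₂ c d = bf₂ (e2 a) (e2 b) := by
  have h := Φ.polar_v2 c d
  rw [hc, hd, polar_mulVec, ← Φ.v2_e2, ← Φ.v2_e2, Φ.polar_v2] at h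
  exact (cst_inj (mul_left_cancel₀ Φ.κ_ne h)).symm

theorem act_pick {g : Isom Q} {s t : Fin 4 → C} (hg : Φ.Act g (kron (diagA s) (diagA t))) (c : C) :
    Φ.Act (if c = -1 then g else 1)
      (kron (diagA fun i => if c = -1 then s i else 1) (diagA fun i => if c = -1 then t i else 1)) := by
  split_ifs with h
  · exact hg
  · exact Φ.act_one

theorem diag_mul (s t : Fin 4 → C) : mulA (diagA s) (diagA t) = diagA fun i => s i * t i := by
  funext i j
  rw [mulA, Finset.sum_eq_single i (fun b _ hb => by simp [diagA, hb]) (by simp)]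
  by_cases h : j = i
  · subst h; simp [diagA, mul_comm]
  · simp [diagA, h]

variable (hG : GCtx hF M)
include hG

/-- **Sign elements of equal parity lie in `M`.** -/
theorem exists_sign (s₁ s₂ s₃ t₁ t₂ t₃ : C) (h₁ : s₁ ≠ 0) (h₂ : s₂ ≠ 0) (h₃ : s₃ ≠ 0) (h₄ : t₁ ≠ 0)
    (h₅ : t₂ ≠ 0) (h₆ : t₃ ≠ 0) (hpar : s₁ * s₂ * s₃ = t₁ * t₂ * t₃) :
    ∃ d ∈ M, d ∈ Kr Q ∧ Φ.Act d (kron (diagA ![1, s₁, s₂, s₃]) (diagA ![1, t₁, t₂, t₃])) := by
  classical
  let g : Fin 4 → Fin 4 → Isom Q := fun i j => hF.L (Φ.f i) * hF.aset.R (Φ.f j)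
  have hgM : ∀ i j, g i j ∈ M ∧ g i j ∈ Kr Q := fun i j =>
    ⟨hG.mem_kr (hF.LR_omega (Φ.f_ne i) (Φ.f_ne j)) ((Kr Q).mul_mem (hF.L_mem _) (hF.aset.R_mem _)),
      (Kr Q).mul_mem (hF.L_mem _) (hF.aset.R_mem _)⟩
  let sg : Fin 4 → Fin 4 → C := fun i l => if l = i then -1 else 1
  have hga : ∀ i j, Φ.Act (g i j) (kron (diagA (sg i)) (diagA (sg j))) := fun i j => by
    have hw : ∀ i, bf (e1 i) (e1 i) ≠ 0 := by decide
    have hr : ∀ i, rfA (e1 i) = diagA fun l => if l = i then -1 else 1 := by decide +kernel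
    show Φ.Act (hF.L (Φ.f i) * hF.aset.R (Φ.f j)) _
    rw [← Φ.v1_e1 i, ← Φ.v1_e1 j]
    exact (Act.mul Φ (Φ.act_L (hw i)) (Φ.act_R (hw j))).congr Φ (by
      rw [hr, hr, (mulA_one _).1, (mulA_one _).2])
  have hmem : ∀ (c : C) i j, (if c = -1 then g i j else 1) ∈ M ∧ (if c = -1 then g i j else 1) ∈ Kr Q :=
    fun c i j => by
      split_ifs
      · exact hgM i j
      · exact ⟨M.one_mem, (Kr Q).one_mem⟩
  refine ⟨(if s₁ = -1 then g 1 0 else 1) * (if s₂ = -1 then g 2 0 else 1) * (if s₃ = -1 then g 3 0 else 1) *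
    (if t₁ = -1 then g 0 1 else 1) * (if t₂ = -1 then g 0 2 else 1) * (if t₃ = -1 then g 0 3 else 1) *
    (if t₁ * t₂ * t₃ = -1 then g 0 0 else 1), ?_, ?_, ?_⟩
  · iterate 6 refine M.mul_mem ?_ (hmem _ _ _).1
    exact (hmem _ _ _).1
  · iterate 6 refine (Kr Q).mul_mem ?_ (hmem _ _ _).2
    exact (hmem _ _ _).2
  · have h := Act.mul Φ (Act.mul Φ (Act.mul Φ (Act.mul Φ (Act.mul Φ (Act.mul Φ (Φ.act_pick (hga 1 0) s₁)
      (Φ.act_pick (hga 2 0) s₂)) (Φ.act_pick (hga 3 0) s₃)) (Φ.act_pick (hga 0 1) t₁))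
      (Φ.act_pick (hga 0 2) t₂)) (Φ.act_pick (hga 0 3) t₃)) (Φ.act_pick (hga 0 0) (t₁ * t₂ * t₃))
    simp only [diag_mul] at h
    refine h.congr Φ ?_
    congr 1 <;> congr 1 <;> funext l
    · rcases cases_of_ne _ h₁ with rfl | rfl <;> rcases cases_of_ne _ h₂ with rfl | rfl <;>
        rcases cases_of_ne _ h₃ with rfl | rfl <;> rcases cases_of_ne _ h₄ with rfl | rfl <;>
        rcases cases_of_ne _ h₅ with rfl | rfl <;> rcases cases_of_ne _ h₆ with rfl | rfl <;>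
        first | exact absurd hpar (by decide) | (revert l; decide)
    · rcases cases_of_ne _ h₁ with rfl | rfl <;> rcases cases_of_ne _ h₂ with rfl | rfl <;>
        rcases cases_of_ne _ h₃ with rfl | rfl <;> rcases cases_of_ne _ h₄ with rfl | rfl <;>
        rcases cases_of_ne _ h₅ with rfl | rfl <;> rcases cases_of_ne _ h₆ with rfl | rfl <;>
        first | exact absurd hpar (by decide) | (revert l; decide)

/-- An element mapping the test elements to the standard twisted images is monomial. -/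
theorem monomial {m : Isom Q} (ha : m * Φ.aR = Φ.aR * m) (hb : m * Φ.bL = Φ.bL * m)
    {hx hz : Isom Q} (hhx : Φ.Act hx (kron aA yA)) (hhz : Φ.Act hz (kron yA aA))
    (hmx : m * Φ.xR = hx * m) (hmz : m * Φ.zL = hz * m) :
    ∃ σ : Pos → C, (∀ a, σ a ≠ 0) ∧ Φ.Act m (monA σ) := by
  classical
  choose c hc using fun a : Pos => Φ.exists_v2 (mat Q m *ᵥ ten (Φ.f a.1) (Φ.f a.2))
  -- the support
  have hsupp : ∀ a b, b ≠ piP a → c a b = 0 := by
    intro a b hb'
    by_contra h0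
    have d1 : kron oneA aA = kron (diagA ![1, 1, 1, 1]) (diagA ![-1, -1, 1, 1]) := by decide +kernel
    have d2 : kron aA oneA = kron (diagA ![-1, -1, 1, 1]) (diagA ![1, 1, 1, 1]) := by decide +kernel
    have d3 : kron oneA xA = kron (diagA ![1, 1, 1, 1]) (diagA ![-1, 1, -1, 1]) := by decide +kernel
    have d4 : kron xA oneA = kron (diagA ![-1, 1, -1, 1]) (diagA ![1, 1, 1, 1]) := by decide +kernel
    have hone : ∀ i : Fin 4, (![1, 1, 1, 1] : Fin 4 → C) i = 1 := by decide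
    have hdg : ∀ (s : Fin 4 → C) i, diagA s i i = s i := fun s i => by simp [diagA]
    have k1 := Φ.eigen_coord (Φ.act_aR.congr Φ d1) (Φ.image_coord (Φ.act_aR.congr Φ d1) ha a (hc a)) b
    have k2 := Φ.eigen_coord (Φ.act_bL.congr Φ d2) (Φ.image_coord (Φ.act_bL.congr Φ d2) hb a (hc a)) b
    have k3 := Φ.eigen_coord hhx (Φ.image_coord (Φ.act_xR.congr Φ d3) hmx a (hc a)) b
    have k4 := Φ.eigen_coord hhz (Φ.image_coord (Φ.act_zL.congr Φ d4) hmz a (hc a)) b
    simp only [hone, one_mul, mul_one] at k1 k2 k3 k4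
    refine hb' (piP_chars a b ⟨?_, ?_, ?_, ?_⟩) <;> simp only [aA, xA, yA, hdg]
    · exact sub_eq_zero.1 ((mul_eq_zero.1 k1).resolve_right h0)
    · exact sub_eq_zero.1 ((mul_eq_zero.1 k2).resolve_right h0)
    · exact sub_eq_zero.1 ((mul_eq_zero.1 k3).resolve_right h0)
    · exact sub_eq_zero.1 ((mul_eq_zero.1 k4).resolve_right h0)
  generalize hσ : (fun a => c a (piP a)) = σ
  have hact : Φ.Act m (monA σ) := fun a => by
    rw [← hc a]
    congr 1
    funext b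
    by_cases h : b = piP a
    · subst h; simp [monA, ← hσ]
    · simp [monA, h, hsupp a b h]
  have hne : ∀ a, σ a ≠ 0 := fun a h0 => by
    have hz' : c a = 0 := funext fun b => by
      by_cases h : b = piP a
      · subst h; rw [← hσ] at h0; exact h0
      · exact hsupp a b h
    have h1 := hc a
    rw [hz', show Φ.v2 0 = 0 by simp [v2]] at h1
    exact TensorMax.ten_eq_zero.not.2 (fun h => h.elim (fun h => Φ.f_ne a.1 (by simp [h]))
      (fun h => Φ.f_ne a.2 (by simp [h]))) ((mulVec_injective m (h1.symm.trans (mulVec_zero _).symm)))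
  exact ⟨σ, hne, hact⟩

/-- The signs satisfy the relations. -/
theorem sign_rel {m : Isom Q} (hm : m ∈ M) (ha : m * Φ.aR = Φ.aR * m) (hb : m * Φ.bL = Φ.bL * m) {σ : Pos → C}
    (hne : ∀ a, σ a ≠ 0) (hact : Φ.Act m (monA σ)) : ∃ δ ε : C, SignRel σ δ ε := by
  have hsq : ∀ a, σ a * σ a = 1 := fun a => sq_of_ne _ (hne a)
  have hrel : ∀ (ρ : Isom Q) (T : Pos → Pos → C), Φ.Act ρ T → ∀ (ρ' : Isom Q) (T' : Pos → Pos → C), Φ.Act ρ' T' →
      m * ρ = ρ' * m → ∀ a b, ∑ e, T a e * monA σ e b = ∑ e, monA σ a e * T' e b := by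
    intro ρ T hT ρ' T' hT' heq a b
    have h1 : mat Q (m * ρ) *ᵥ ten (Φ.f a.1) (Φ.f a.2) = mat Q (ρ' * m) *ᵥ ten (Φ.f a.1) (Φ.f a.2) := by rw [heq]
    rw [Fl.mul_vec, Fl.mul_vec, hT, hact, Act.app Φ hact, Act.app Φ hT'] at h1
    exact congrFun (Φ.v2_inj h1) b
  have hinv : ∀ g : Isom Q, m * g * m⁻¹ = g → m * g = g * m := fun g h => mul_inv_eq_iff_eq_mul.1 h
  obtain ⟨δ, hδ, r10, r11, r12, r13⟩ : ∃ δ : C, δ * δ = 1 ∧ σ (1, 0) = -δ * σ (0, 0) ∧
      σ (1, 1) = -δ * σ (0, 1) ∧ σ (1, 2) = δ * σ (0, 2) ∧ σ (1, 3) = δ * σ (0, 3) := by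
    rcases Φ.conj_rhoL hG hm hb with h | h
    · have hr := hrel _ _ Φ.act_rhoL _ _ Φ.act_rhoL (mul_inv_eq_iff_eq_mul.1 h)
      have a1 := hr (0, 0) (0, 1)
      have a2 := hr (0, 1) (0, 0)
      have a3 := hr (0, 2) (1, 2)
      have a4 := hr (0, 3) (1, 3)
      simp [mon_sum, Fintype.sum_prod_type, Fin.sum_univ_four, monA, piP, kron, rhoA, oneA, e1] at a1 a2 a3 a4
      exact ⟨1, one_mul 1, by linear_combination a1, by linear_combination a2, by linear_combination a3,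
        by linear_combination a4⟩
    · have hli : Φ.Act Φ.rhoL⁻¹ (kron ![![0, -1, 0, 0], ![1, 0, 0, 0], ![0, 0, 1, 0], ![0, 0, 0, 1]] oneA) := by
        rw [show Φ.rhoL⁻¹ = J * Φ.rhoR⁻¹ * J by
          rw [← Φ.flip_rhoR, _root_.mul_inv_rev, _root_.mul_inv_rev, hF.J_inv, mul_assoc]]
        exact Φ.act_flip Φ.act_rhoR_inv
      have hr := hrel _ _ Φ.act_rhoL _ _ hli (mul_inv_eq_iff_eq_mul.1 h)
      have a1 := hr (0, 0) (0, 1)
      have a2 := hr (0, 1) (0, 0)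
      have a3 := hr (0, 2) (1, 2)
      have a4 := hr (0, 3) (1, 3)
      simp [mon_sum, Fintype.sum_prod_type, Fin.sum_univ_four, monA, piP, kron, rhoA, oneA, e1] at a1 a2 a3 a4
      exact ⟨-1, by ring, by linear_combination a1, by linear_combination a2, by linear_combination a3,
        by linear_combination a4⟩
  obtain ⟨ε, hε, r01, r21, r31⟩ : ∃ ε : C, ε * ε = 1 ∧ σ (0, 1) = -ε * σ (0, 0) ∧ σ (2, 1) = ε * σ (2, 0) ∧
      σ (3, 1) = ε * σ (3, 0) := by
    rcases Φ.conj_rhoR hG hm ha with h | h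
    · have hr := hrel _ _ Φ.act_rhoR _ _ Φ.act_rhoR (mul_inv_eq_iff_eq_mul.1 h)
      have a1 := hr (0, 0) (1, 0)
      have a2 := hr (2, 0) (2, 1)
      have a3 := hr (3, 0) (3, 1)
      simp [mon_sum, Fintype.sum_prod_type, Fin.sum_univ_four, monA, piP, kron, rhoA, oneA, e1] at a1 a2 a3
      exact ⟨1, one_mul 1, by linear_combination a1, by linear_combination a2, by linear_combination a3⟩
    · have hr := hrel _ _ Φ.act_rhoR _ _ Φ.act_rhoR_inv (mul_inv_eq_iff_eq_mul.1 h)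
      have a1 := hr (0, 0) (1, 0)
      have a2 := hr (2, 0) (2, 1)
      have a3 := hr (3, 0) (3, 1)
      simp [mon_sum, Fintype.sum_prod_type, Fin.sum_univ_four, monA, piP, kron, rhoA, oneA, e1] at a1 a2 a3
      exact ⟨-1, by ring, by linear_combination a1, by linear_combination a2, by linear_combination a3⟩
  have hinvol : ∀ a, piP (piP a) = a := by decide +kernel
  have hm2 : ∀ a : Pos, mat Q (m * m) *ᵥ ten (Φ.f a.1) (Φ.f a.2) =
      cst F (σ a * σ (piP a)) • ten (Φ.f a.1) (Φ.f a.2) := fun a => by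
    rw [Fl.mul_vec, hact, Act.app Φ hact, ← Φ.v2_e2, ← Φ.v2_smul]
    congr 1
    funext b
    rw [Finset.sum_eq_single (piP a) (fun e _ he => by simp [monA, he]) (by simp)]
    by_cases h : b = a
    · subst h; simp [monA, e2, hinvol]
    · simp [monA, e2, h, hinvol]
  have hxh : m * m * Φ.xR = Φ.xR * (m * m) := by
    refine hF.ext fun x y => ?_
    obtain ⟨c₁, rfl⟩ := Φ.exists_v1 x
    obtain ⟨d₁, rfl⟩ := Φ.exists_v1 y
    rw [Φ.ten_v1, v2, mulVec_sum, mulVec_sum]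
    refine Finset.sum_congr rfl fun a _ => ?_
    have hd : kron oneA xA = kron (diagA ![1, 1, 1, 1]) (diagA ![-1, 1, -1, 1]) := by decide +kernel
    rw [mulVec_smul, mulVec_smul, Fl.mul_vec (m * m), Fl.mul_vec Φ.xR, Φ.diag_ten (Φ.act_xR.congr Φ hd), hm2, mulVec_smul,
      mulVec_smul, hm2, Φ.diag_ten (Φ.act_xR.congr Φ hd), smul_smul, smul_smul, smul_smul, smul_smul]
    congr 1
    ring
  have hNm2 : m * m ∈ hF.Nr := Φ.rigid_comm hG (M.mul_mem hm hm)
    (by rw [mul_assoc, ha, ← mul_assoc, ha, mul_assoc]) Φ.act_xR hxh (by decide) (by decide)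
  have hK2 : m * m ∈ Kr Q := hF.mem_kr_of_slice hNm2 (c := Φ.f 3) (c' := Φ.f 3)
    (fun h0 => Φ.f_ne 3 (by simp [h0])) fun x => by
      obtain ⟨c₁, rfl⟩ := Φ.exists_v1 x
      refine ⟨Φ.v1 fun i => c₁ i * (σ (i, 3) * σ (piP (i, 3))), ?_⟩
      rw [← Φ.v1_e1 3, Φ.ten_v1, Φ.ten_v1, v2, mulVec_sum]
      refine Finset.sum_congr rfl fun a _ => ?_
      rw [mulVec_smul, hm2, smul_smul]
      congr 1
      obtain ⟨a1, a2⟩ := a
      by_cases h : a2 = 3
      · subst h; simp [e1]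
      · simp [e1, h]
  obtain ⟨A, B, -, -, hAB, -, -⟩ := Φ.kr_arrays hK2
  have hχ : ∀ a b : Pos, A a.1 b.1 * B a.2 b.2 = σ a * σ (piP a) * e2 a b := fun a b => by
    have h1 := hAB a
    rw [hm2, ← Φ.v2_e2, ← Φ.v2_smul] at h1
    exact (congrFun (Φ.v2_inj h1) b).symm
  have hprod : ∀ i i' j j' : Fin 4, σ (i, j) * σ (piP (i, j)) * (σ (i', j') * σ (piP (i', j'))) =
      σ (i, j') * σ (piP (i, j')) * (σ (i', j) * σ (piP (i', j))) := fun i i' j j' => by
    have e : ∀ i j : Fin 4, σ (i, j) * σ (piP (i, j)) = A i i * B j j := fun i j => by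
      have := hχ (i, j) (i, j)
      simpa [e2] using this.symm
    rw [e, e, e, e]; ring
  have q22 : σ (2, 2) * σ (3, 3) = δ * ε := by
    have h := hprod 0 2 0 2
    simp only [show piP (0, 0) = (1, 1) by decide, show piP (2, 2) = (3, 3) by decide,
      show piP (0, 2) = (0, 2) by decide, show piP (2, 0) = (2, 0) by decide, hsq, mul_one] at h
    rw [r11, r01] at h
    linear_combination (δ * ε) * h - (σ (2, 2) * σ (3, 3) * δ * δ * ε * ε) * hsq (0, 0) -
      (σ (2, 2) * σ (3, 3) * ε * ε) * hδ - (σ (2, 2) * σ (3, 3)) * hε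
  have q23 : σ (2, 3) * σ (3, 2) = δ * ε := by
    have h := hprod 0 2 0 3
    simp only [show piP (0, 0) = (1, 1) by decide, show piP (2, 3) = (3, 2) by decide,
      show piP (0, 3) = (0, 3) by decide, show piP (2, 0) = (2, 0) by decide, hsq, mul_one] at h
    rw [r11, r01] at h
    linear_combination (δ * ε) * h - (σ (2, 3) * σ (3, 2) * δ * δ * ε * ε) * hsq (0, 0) -
      (σ (2, 3) * σ (3, 2) * ε * ε) * hδ - (σ (2, 3) * σ (3, 2)) * hε
  exact ⟨δ, ε, hne, hδ, hε, r10, r11, r12, r13, r01, r21, r31, q22, q23⟩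

/-- A sign condition gives a singular slice. -/
theorem slice_case {m : Isom Q} (hm : m ∈ M) {σ : Pos → C} {δ ε : C} (hr : SignRel σ δ ε) (hact : Φ.Act m (monA σ))
    (hRs : σ (0, 2) * σ (0, 3) = σ (2, 2) * σ (2, 3)) : m ∈ hF.Nr := by
  have hsq : ∀ a, σ a * σ a = 1 := fun a => sq_of_ne _ (hr.ne a)
  obtain ⟨hne, hδ, hε, r10, r11, r12, r13, r01, r21, r31, q22, q23⟩ := hr
  refine Or.inl (hG.sliceR m hm (Φ.v1 ![0, 0, 1, 1]) (Φ.v1 ![0, 0, 1, σ (0, 2) * σ (0, 3)])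
      (fun h0 => ?_) ?_ (fun h0 => ?_) ?_ fun x => ?_)
  · have := Φ.v1_inj (h0.trans (show (0 : Fin k → F) = Φ.v1 0 by simp [v1]))
    exact absurd (congrFun this 2) (by decide)
  · rw [Φ.form_v1, show bf ![0, 0, 1, 1] ![0, 0, 1, 1] = 0 by decide, map_zero, mul_zero]
  · have := congrFun (Φ.v1_inj (h0.trans (show (0 : Fin k → F) = Φ.v1 0 by simp [v1]))) 2
    simp at this
  · rw [Φ.form_v1, show bf ![0, 0, 1, σ (0, 2) * σ (0, 3)] ![0, 0, 1, σ (0, 2) * σ (0, 3)] = 0 by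
      have h1 : σ (0, 2) * σ (0, 3) * (σ (0, 2) * σ (0, 3)) = 1 := by
        linear_combination (σ (0, 3) * σ (0, 3)) * hsq (0, 2) + hsq (0, 3)
      simp [bf, eps, Fin.sum_univ_four]
      linear_combination (-1 : C) * h1, map_zero, mul_zero]
  · obtain ⟨c₁, rfl⟩ := Φ.exists_v1 x
    refine ⟨Φ.v1 ![c₁ 0 * σ (0, 2), c₁ 1 * σ (1, 2), c₁ 3 * σ (3, 3), c₁ 2 * σ (2, 3)], ?_⟩
    rw [Φ.ten_v1, Φ.ten_v1, Act.app Φ hact]
    congr 1
    funext b
    obtain ⟨b1, b2⟩ := b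
    have e33 : σ (3, 2) = σ (3, 3) * (σ (0, 2) * σ (0, 3)) := by
      linear_combination (σ (2, 3)) * q23 - (σ (3, 2)) * hsq (2, 3) - (σ (2, 3)) * q22 - σ (3, 3) * hRs
    have e22 : σ (2, 2) = σ (2, 3) * (σ (0, 2) * σ (0, 3)) := by
      linear_combination -(σ (2, 3)) * hRs - (σ (2, 2)) * hsq (2, 3)
    rw [mon_sum]
    fin_cases b1 <;> fin_cases b2 <;> simp [piP, r12, r13]
    · linear_combination -(c₁ 0 * σ (0, 3)) * hsq (0, 2)
    · linear_combination -(c₁ 1 * δ * σ (0, 3)) * hsq (0, 2)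
    · linear_combination (c₁ 3) * e33
    · linear_combination (c₁ 2) * e22

/-- The standard twisted element does not exist. -/
theorem not_standard {m : Isom Q} (hm : m ∈ M) (ha : m * Φ.aR = Φ.aR * m) (hb : m * Φ.bL = Φ.bL * m)
    {hx hz : Isom Q} (hhx : Φ.Act hx (kron aA yA)) (hhz : Φ.Act hz (kron yA aA))
    (hmx : m * Φ.xR = hx * m) (hmz : m * Φ.zL = hz * m) : m ∈ hF.Nr := by
  obtain ⟨σ, hne, hact⟩ := Φ.monomial hG ha hb hhx hhz hmx hmz
  obtain ⟨δ, ε, hr⟩ := Φ.sign_rel hG hm ha hb hne hact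
  by_cases hRs : σ (0, 2) * σ (0, 3) = σ (2, 2) * σ (2, 3)
  · exact Φ.slice_case hG hm hr hact hRs
  by_cases hCs : σ (2, 0) * σ (3, 0) = σ (2, 2) * σ (3, 2)
  · have hflip : Φ.Act (J * m * J) (monA fun a => σ (a.2, a.1)) := fun a => by
      have hJ : ∀ x : Pos → C, mat Q J *ᵥ Φ.v2 x = Φ.v2 fun b => x (b.2, b.1) := fun x => by
        rw [v2, mulVec_sum]
        simp only [mulVec_smul, hF.flip]
        exact Fintype.sum_equiv (Equiv.prodComm _ _) _ _ fun b => rfl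
      rw [hF.conj_ten, show ten (Φ.f a.2) (Φ.f a.1) = ten (Φ.f (a.2, a.1).1) (Φ.f (a.2, a.1).2) from rfl, hact, hJ]
      congr 1
      funext b
      simp only [monA, piP_swap]
      exact if_congr (by simp [Prod.ext_iff, and_comm]) rfl rfl
    exact hF.conj_nr.1 (Φ.slice_case (δ := ε) (ε := δ) hG.flip (hG.flip_mem hm)
      ⟨fun a => hne _, hr.hε, hr.hδ, hr.r01, by
        show σ (1, 1) = -ε * σ (1, 0)
        rw [hr.r11, hr.r10, hr.r01]; ring, hr.r21, hr.r31, hr.r10, hr.r12, hr.r13,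
        by show σ (2, 2) * σ (3, 3) = ε * δ; rw [hr.q22, mul_comm],
        by show σ (3, 2) * σ (2, 3) = ε * δ; rw [mul_comm, hr.q23, mul_comm]⟩ hflip hCs)
  -- otherwise a sign element makes an involution outside `Ω`
  exfalso
  obtain ⟨hne, hδ, hε, r10, r11, r12, r13, r01, r21, r31, q22, q23⟩ := hr
  have hsq : ∀ a, σ a * σ a = 1 := fun a => sq_of_ne _ (hne a)
  have hεne : ε ≠ 0 := fun h => by rw [h, zero_mul] at hε; exact zero_ne_one hε
  have hδne : δ ≠ 0 := fun h => by rw [h, zero_mul] at hδ; exact zero_ne_one hδ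
  have hneg : ∀ a b : C, a ≠ 0 → b ≠ 0 → a ≠ b → a = -b := by decide
  have e1' := hneg _ _ (mul_ne_zero (hne _) (hne _)) (mul_ne_zero (hne _) (hne _)) hRs
  have e2' := hneg _ _ (mul_ne_zero (hne _) (hne _)) (mul_ne_zero (hne _) (hne _)) hCs
  have hpar : δ * σ (2, 0) * σ (3, 0) = ε * σ (0, 2) * σ (0, 3) := by
    linear_combination δ * e2' - ε * e1' - (δ * σ (2, 2)) * (σ (2, 3) * q23 - σ (3, 2) * hsq (2, 3)) -
      (ε * σ (2, 2) * σ (2, 3)) * hδ
  have hfour : σ (2, 0) * σ (3, 0) * σ (0, 2) * σ (0, 3) = δ * ε := by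
    linear_combination (δ * (σ (0, 2) * σ (0, 3))) * hpar -
      (σ (2, 0) * σ (3, 0) * σ (0, 2) * σ (0, 3)) * hδ +
      (δ * ε * σ (0, 3) * σ (0, 3)) * hsq (0, 2) + (δ * ε) * hsq (0, 3)
  obtain ⟨d, hdM, -, hd⟩ := Φ.exists_sign hG δ (σ (2, 0)) (σ (3, 0)) ε (σ (0, 2)) (σ (0, 3)) hδne (hne _)
    (hne _) hεne (hne _) (hne _) hpar
  generalize hτ : δ * ε * σ (0, 0) = τ
  generalize hω : σ (3, 0) * σ (0, 3) * σ (2, 2) = ω
  generalize hω' : σ (3, 0) * σ (0, 2) * σ (2, 3) = ω'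
  have hτne : τ ≠ 0 := hτ ▸ mul_ne_zero (mul_ne_zero hδne hεne) (hne _)
  have hωne : ω ≠ 0 := hω ▸ mul_ne_zero (mul_ne_zero (hne _) (hne _)) (hne _)
  have hω'ne : ω' ≠ 0 := hω' ▸ mul_ne_zero (mul_ne_zero (hne _) (hne _)) (hne _)
  have hdm : Φ.Act (d * m) (monA (tauS τ ω ω')) := fun a => by
    rw [Fl.mul_vec, hact, Act.app Φ hd]
    congr 1
    funext b
    rw [Finset.sum_eq_single (piP a) (fun e _ he => by simp [monA, he]) (by simp)]
    have hval : ∀ a b : Pos, b ≠ piP a → monA (tauS τ ω ω') a b = 0 := fun a b h => by simp [monA, h]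
    by_cases hab : b = piP a
    · subst hab
      obtain ⟨a1, a2⟩ := a
      fin_cases a1 <;> fin_cases a2 <;> simp [monA, piP, kron, diagA, tauS, ← hτ, ← hω, ← hω', r01, r10, r11, r12,
        r13, r21, r31]
      all_goals first
        | ring1
        | linear_combination hsq (0, 2)
        | linear_combination hsq (0, 3)
        | linear_combination hsq (2, 0)
        | linear_combination hsq (3, 0)
        | linear_combination (δ * δ) * hsq (0, 2) + hδ
        | linear_combination (δ * δ) * hsq (0, 3) + hδ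
        | linear_combination (ε * ε) * hsq (2, 0) + hε
        | linear_combination (ε * ε) * hsq (3, 0) + hε
        | linear_combination unit_key (hne (2, 0)) (hne (0, 3)) (hne (2, 3)) hfour q23
        | linear_combination unit_key (a := σ (2, 0)) (b := σ (3, 0)) (c := σ (0, 3)) (d := σ (0, 2)) (hne _) (hne _)
            (hne (2, 2)) (by linear_combination hfour) q22
    · rw [hval a b hab]
      have hk : kron (diagA ![1, δ, σ (2, 0), σ (3, 0)]) (diagA ![1, ε, σ (0, 2), σ (0, 3)]) (piP a) b = 0 := by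
        simp only [kron, diagA]
        rcases eq_or_ne b.1 (piP a).1 with h | h
        · rw [if_neg fun h' => hab (Prod.ext h h'), mul_zero]
        · rw [if_neg h, zero_mul]
      rw [hk, mul_zero]
  have hvals := tau_values τ ω ω' hτne hωne hω'ne
  have hΩ := (Φ.omega_iff hdm (tauW τ ω ω') (fun w hw h => by
      have := List.mem_map_of_mem (f := fun w => bf₂ w w) hw
      rw [hvals, h] at this
      revert this
      decide) ⟨2, rfl⟩ (fun a => funext (tau_fold τ ω ω' hτne hωne hω'ne a))).1 (hG.le (M.mul_mem hdM hm))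
  rw [hvals] at hΩ
  revert hΩ
  decide

end Frame

end CfsgLib.TWGap
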