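import Cfsg.Agent.TensorWreathOrth.Gap.Three.Blocks
import Cfsg.Agent.TensorWreathOrth.Gap.Three.Normalise

/-!
# Three elements: the centraliser of both sign elements lies in `Kr`
-/

set_option autoImplicit false
set_option linter.unusedSectionVars false

namespace CfsgLib.TWGap

open Matrix Module CfsgLib.Spinor CfsgLib.OrthMax CfsgLib.TensorOrth
open CfsgLib.TensorMax (Idx ten)

variable {F : Type*} [Field F] [Fintype F] {k : ℕ} {Q : QuadraticForm F (Idx k k → F)}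
  {B₁ B₂ : LinearMap.BilinForm F (Fin k → F)} {J : Isom Q} {M : Subgroup (Isom Q)}

namespace Frame

open Three

variable [CharP F 3] {hF : Fl Q B₁ B₂ J} (Φ : Frame hF)

/-- The centraliser of both sign elements. -/
def bothC : Subgroup (Isom Q) := Subgroup.centralizer {Φ.aR, Φ.bL}

theorem mem_bothC {g : Isom Q} : g ∈ Φ.bothC ↔ g * Φ.aR = Φ.aR * g ∧ g * Φ.bL = Φ.bL * g := by
  rw [bothC, Subgroup.mem_centralizer_iff]
  simp [eq_comm]

variable (hG : GCtx hF M)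
include hG

/-- An element of the stabiliser commuting with a right sign element lies in `Kr`. -/
theorem kr_of_nr {m : Isom Q} (hm : m ∈ hF.Nr) (ha : m * Φ.aR = Φ.aR * m) : m ∈ Kr Q := by
  rcases hm with h | hJ
  · exact h
  exfalso
  obtain ⟨A, B, μ, -, hv, -, -⟩ := hF.kr_sim hJ
  have e : J * m * Φ.aR = Φ.bL * (J * m) := by
    rw [← Φ.flip_aR, show J * Φ.aR * J * (J * m) = J * Φ.aR * (J * J) * m by group, hF.J_sq, mul_one,
      mul_assoc J m, ha, ← mul_assoc]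
  have hsl : ∀ (i j : Fin 4), mat Q (J * m) *ᵥ (mat Q Φ.aR *ᵥ ten (Φ.f i) (Φ.f j)) =
      mat Q Φ.bL *ᵥ (mat Q (J * m) *ᵥ ten (Φ.f i) (Φ.f j)) := fun i j => by rw [← Fl.mul_vec, e, Fl.mul_vec]
  have d1 : kron oneA (diagA ![-1, -1, 1, 1]) = kron (diagA ![1, 1, 1, 1]) (diagA ![-1, -1, 1, 1]) := by decide +kernel
  obtain ⟨Ta, hTa⟩ := Φ.exists_mp ((hF.aset.rR (Φ.v1 (e1 0)) * hF.aset.rR (Φ.v1 (e1 1))).1 :
    Matrix (Fin k) (Fin k) F)
  set S := ((hF.aset.rR (Φ.v1 (e1 0)) * hF.aset.rR (Φ.v1 (e1 1))).1 : Matrix (Fin k) (Fin k) F) with hS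
  have hbS : ∀ x y, mat Q Φ.bL *ᵥ ten x y = ten (S *ᵥ x) y := fun x y => by
    rw [bL, LL, Fl.L, Fl.L, ← map_mul, hF.kL_ten]
  have hcol : ∀ (i j : Fin 4), ten (S *ᵥ ((A : Matrix (Fin k) (Fin k) F) *ᵥ Φ.f i))
      ((B : Matrix (Fin k) (Fin k) F) *ᵥ Φ.f j) = cst F ((![-1, -1, 1, 1] : Fin 4 → C) j) •
      ten ((A : Matrix (Fin k) (Fin k) F) *ᵥ Φ.f i) ((B : Matrix (Fin k) (Fin k) F) *ᵥ Φ.f j) := fun i j => by
    rw [← hbS, ← hv, ← hsl, Φ.diag_ten (Φ.act_aR.congr Φ d1) (i, j), mulVec_smul]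
    congr 2
    fin_cases i <;> simp
  have hBne : ∀ j, (B : Matrix (Fin k) (Fin k) F) *ᵥ Φ.f j ≠ 0 := fun j h0 => by
    have := mulVec_injective_iff_isUnit.mpr B.isUnit (h0.trans (mulVec_zero _).symm)
    exact Φ.f_ne j (by simp [this])
  have e0 := TensorMax.ten_inj_left (hBne 0) ((hcol 0 0).trans (TensorMax.ten_smul_left _ _ _).symm)
  have e2' := TensorMax.ten_inj_left (hBne 2) ((hcol 0 2).trans (TensorMax.ten_smul_left _ _ _).symm)
  rw [e0] at e2'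
  have hA0 : (A : Matrix (Fin k) (Fin k) F) *ᵥ Φ.f 0 ≠ 0 := fun h0 => by
    have := mulVec_injective_iff_isUnit.mpr A.isUnit (h0.trans (mulVec_zero _).symm)
    exact Φ.f_ne 0 (by simp [this])
  have := smul_left_injective F hA0 e2'
  exact absurd (cst_inj this) (by decide)

/-- **No odd order.** -/
theorem two_power {u : Isom Q} (hu : u ∈ M) (huC : u ∈ Φ.bothC) {p : ℕ} (hp : p.Prime) (hup : u ^ p = 1)
    (hp2 : p ≠ 2) : u = 1 := by
  classical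
  obtain ⟨ha, hb⟩ := Φ.mem_bothC.1 huC
  by_cases h3 : p = 3
  · subst h3; exact Φ.no_three hG hu ha hb hup
  refine hF.ext fun x y => ?_
  have hfix : ∀ s t (i : Fin 2 × Fin 2), mat Q u *ᵥ ten (Φ.f (blk s t i).1) (Φ.f (blk s t i).2) =
      ten (Φ.f (blk s t i).1) (Φ.f (blk s t i).2) := by
    intro s t i
    obtain ⟨G, _, φ, hcard, hker⟩ := Φ.exists_restrict Φ.bothC (blk s t) (blk_inj s t) (m := 2) (by norm_num)
      ⟨1, rfl⟩ (by simp) (blk_disc s t) (fun g hg i c hc b hb' =>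
        Φ.block_stable (Φ.mem_bothC.1 hg).1 (Φ.mem_bothC.1 hg).2 s t i c hc b hb')
    refine hker ⟨u, huC⟩ ?_ i
    have h1 : orderOf (φ ⟨u, huC⟩) ∣ p := orderOf_dvd_of_pow_eq_one (by
      rw [← map_pow, show (⟨u, huC⟩ : Φ.bothC) ^ p = 1 from Subtype.ext hup, map_one])
    rcases (Nat.dvd_prime hp).1 h1 with h | h
    · exact orderOf_eq_one_iff.1 h
    · exfalso
      have h2 : p ∣ Nat.card G := h ▸ orderOf_dvd_natCard _
      rw [hcard, show 2 * 3 ^ (2 * (2 - 1)) * (3 ^ 2 - 1) * ∏ i ∈ Finset.range (2 - 1), (3 ^ (2 * (i + 1)) - 1) =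
        2 ^ 7 * 3 ^ 2 by simp [Finset.prod_range_succ]] at h2
      rcases hp.dvd_mul.1 h2 with h2 | h2
      · exact hp2 ((Nat.prime_dvd_prime_iff_eq hp Nat.prime_two).1 (hp.dvd_of_dvd_pow h2))
      · exact h3 ((Nat.prime_dvd_prime_iff_eq hp Nat.prime_three).1 (hp.dvd_of_dvd_pow h2))
  obtain ⟨c, rfl⟩ := Φ.exists_v1 x
  obtain ⟨d, rfl⟩ := Φ.exists_v1 y
  rw [Φ.ten_v1, mat_one, one_mulVec, v2, mulVec_sum]
  refine Finset.sum_congr rfl fun q _ => ?_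
  obtain ⟨s, t, i, rfl⟩ := blk_cover q
  rw [mulVec_smul, hfix]

/-- **The centraliser of both sign elements lies in `Kr`.** -/
theorem bothC_le : M ⊓ Φ.bothC ≤ Kr Q := by
  classical
  set Y : Subgroup (Isom Q) := M ⊓ Φ.bothC
  have : Finite Y := Subtype.finite
  have hY : IsPGroup 2 Y := by
    refine IsPGroup.iff_card.2 ⟨_, Nat.eq_prime_pow_of_unique_prime_dvd Nat.card_pos.ne' fun {q} hq hdvd => ?_⟩
    have : Fact q.Prime := ⟨hq⟩
    obtain ⟨u, hu⟩ := exists_prime_orderOf_dvd_card' q hdvd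
    by_contra hq2
    have hu1 : (u : Isom Q) = 1 := Φ.two_power hG u.2.1 u.2.2 hq
      (by rw [← Subgroup.coe_pow, ← hu, pow_orderOf_eq_one]; rfl) hq2
    rw [show u = 1 from Subtype.ext hu1, orderOf_one] at hu
    exact hq.one_lt.ne hu
  have hnil := hY.isNilpotent
  by_contra hle
  have hlt : (Kr Q).subgroupOf Y < Subgroup.normalizer (((Kr Q).subgroupOf Y : Subgroup Y) : Set Y) := by
    refine Group.normalizerCondition_of_isNilpotent _ (lt_top_iff_ne_top.mpr fun h => hle ?_)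
    exact Subgroup.subgroupOf_eq_top.mp h
  obtain ⟨⟨m, hmY⟩, hmN, hmP⟩ := SetLike.exists_of_lt hlt
  obtain ⟨ha, hb⟩ := Φ.mem_bothC.1 hmY.2
  have test : ∀ g : Isom Q, g ∈ M → g ∈ Kr Q → g ∈ Φ.bothC → m * g * m⁻¹ ∈ Kr Q := fun g hgM hgK hgC =>
    (Subgroup.mem_normalizer_iff.mp hmN ⟨g, hgM, hgC⟩).mp hgK
  have hzb : Φ.zL * Φ.bL = Φ.bL * Φ.zL :=
    Φ.act_ext (Act.mul Φ Φ.act_zL Φ.act_bL) ((Act.mul Φ Φ.act_bL Φ.act_zL).congr Φ (by decide +kernel))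
  have hza : Φ.zL * Φ.aR = Φ.aR * Φ.zL :=
    Φ.act_ext (Act.mul Φ Φ.act_zL Φ.act_aR) ((Act.mul Φ Φ.act_aR Φ.act_zL).congr Φ (by decide +kernel))
  have hmK := Φ.mem_nr_of_test hG hmY.1 ha hb
    (test _ (Φ.RR_mem (by decide) (by decide) hG) (Φ.RR_kr _ _) (Φ.mem_bothC.2 ⟨Φ.xR_aR, Φ.xR_bL⟩))
    (test _ (Φ.LL_mem (by decide) (by decide) hG) (Φ.LL_kr _ _) (Φ.mem_bothC.2 ⟨hza, hzb⟩))
  exact hmP (Φ.kr_of_nr hG hmK ha)

end Frame

end CfsgLib.TWGap
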